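import Cfsg.Agent.LinClasses.KB
import Mathlib.RepresentationTheory.Maschke
import Mathlib.RingTheory.Jacobson.Semiprimary
import Mathlib.RingTheory.Artinian.Module

/-!
# Block decompositions of linear groups from abelian normal subgroups
-/

set_option autoImplicit false

namespace CfsgLib.LinClasses

variable {k : Type*} [Field k] {V : Type*} [AddCommGroup V] [Module k V] {X : Type*} [Group X]
  (ρ : Representation k X V)

/-- Irreducibility, on submodules. -/
def Irr : Prop :=
  Nontrivial V ∧ ∀ W : Submodule k V, (∀ x, ∀ v ∈ W, ρ x v ∈ W) → W = ⊥ ∨ W = ⊤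

/-- A system of orthogonal idempotents permuted by the group. -/
structure BlockSys where
  m : ℕ
  e : Fin m → Module.End k V
  σ : X → Equiv.Perm (Fin m)
  idem : ∀ i, e i * e i = e i
  ortho : ∀ i j, i ≠ j → e i * e j = 0
  ne : ∀ i, e i ≠ 0
  sum : ∑ i, e i = 1
  conj : ∀ x i, ρ x * e i = e (σ x i) * ρ x
  two : 2 ≤ m

variable {ρ}

theorem rho_inv_mul (x : X) : ρ x⁻¹ * ρ x = 1 := by rw [← map_mul, inv_mul_cancel, map_one]

theorem rho_mul_inv (x : X) : ρ x * ρ x⁻¹ = 1 := by rw [← map_mul, mul_inv_cancel, map_one]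

namespace BlockSys

variable (S : BlockSys ρ)

theorem e_injective : Function.Injective S.e := fun i j h => by
  by_contra hne
  exact S.ne i (by rw [← S.idem i]; nth_rw 2 [h]; exact S.ortho i j hne)

theorem σ_mul (x y : X) : S.σ (x * y) = S.σ x * S.σ y := by
  refine Equiv.ext fun i => S.e_injective ?_
  have h1 : ρ (x * y) * S.e i = S.e (S.σ x (S.σ y i)) * ρ (x * y) := by
    rw [map_mul, mul_assoc, S.conj y i, ← mul_assoc, S.conj x, mul_assoc]
  rw [S.conj] at h1
  have h2 := congrArg (· * ρ (x * y)⁻¹) h1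
  simpa only [mul_assoc, rho_mul_inv, mul_one, Equiv.Perm.mul_apply] using h2

/-- The permutation action on the blocks. -/
def perm : X →* Equiv.Perm (Fin S.m) := MonoidHom.mk' S.σ S.σ_mul

/-- A block. -/
def W (i : Fin S.m) : Submodule k V := LinearMap.range (S.e i)

theorem mem_W {i : Fin S.m} {v : V} : v ∈ S.W i ↔ S.e i v = v :=
  ⟨fun ⟨w, hw⟩ => by rw [← hw, ← Module.End.mul_apply, S.idem], fun h => ⟨v, h⟩⟩

theorem map_mem_W (x : X) {i : Fin S.m} {v : V} (hv : v ∈ S.W i) : ρ x v ∈ S.W (S.σ x i) := by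
  rw [mem_W, ← Module.End.mul_apply, ← S.conj, Module.End.mul_apply, S.mem_W.1 hv]

theorem sum_apply_eq (v : V) : ∑ i, S.e i v = v := by
  rw [← LinearMap.sum_apply, S.sum, Module.End.one_apply]

theorem W_ne_bot (i : Fin S.m) : S.W i ≠ ⊥ := fun h => S.ne i (LinearMap.range_eq_bot.1 h)

theorem finrank_pos [FiniteDimensional k V] (i : Fin S.m) : 0 < Module.finrank k (S.W i) :=
  Nat.pos_of_ne_zero fun h => S.W_ne_bot i (Submodule.finrank_eq_zero.1 h)

theorem sum_finrank [FiniteDimensional k V] :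
    ∑ i, Module.finrank k (S.W i) = Module.finrank k V := by
  let f : V →ₗ[k] ∀ i, S.W i := LinearMap.pi fun i =>
    (S.e i).codRestrict (S.W i) fun v => ⟨v, rfl⟩
  have hinj : Function.Injective f := fun v w h => by
    rw [← S.sum_apply_eq v, ← S.sum_apply_eq w]
    exact Finset.sum_congr rfl fun i _ => congrArg Subtype.val (congrFun h i)
  have hsurj : Function.Surjective f := fun g => by
    refine ⟨∑ j, (g j : V), funext fun i => Subtype.ext ?_⟩
    show S.e i (∑ j, (g j : V)) = g i
    rw [map_sum, Finset.sum_eq_single i]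
    · exact S.mem_W.1 (g i).2
    · intro j _ hj
      rw [← S.mem_W.1 (g j).2, ← Module.End.mul_apply, S.ortho i j (Ne.symm hj), LinearMap.zero_apply]
    · simp
  rw [(LinearEquiv.ofBijective f ⟨hinj, hsurj⟩).finrank_eq, Module.finrank_pi_fintype]

/-- The stabiliser of a block. -/
def stab (i : Fin S.m) : Subgroup X :=
  (MulAction.stabilizer (Equiv.Perm (Fin S.m)) i).comap S.perm

theorem mem_stab {i : Fin S.m} {x : X} : x ∈ S.stab i ↔ S.σ x i = i := Iff.rfl

theorem ker_le_stab (i : Fin S.m) : S.perm.ker ≤ S.stab i := fun x hx => by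
  rw [mem_stab]; exact DFunLike.congr_fun (MonoidHom.mem_ker.1 hx) i

/-- The action of a stabiliser on its block. -/
def blockRep (i : Fin S.m) : Representation k (S.stab i) (S.W i) where
  toFun x := (ρ (x : X)).restrict fun v hv => by
    have h := S.map_mem_W (x : X) hv
    rwa [S.mem_stab.1 x.2] at h
  map_one' := by ext v; simp [LinearMap.restrict_apply]
  map_mul' a b := by ext v; simp [LinearMap.restrict_apply]

theorem blockRep_apply (i : Fin S.m) (x : S.stab i) (v : S.W i) :
    ((S.blockRep i x v : S.W i) : V) = ρ x v := rfl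

/-- The image group of a stabiliser on its block. -/
def blockGroup (i : Fin S.m) : Subgroup (Module.End k (S.W i))ˣ := (S.blockRep i).asGroupHom.range

/-- The tautological representation. -/
def tautRep (i : Fin S.m) : Representation k (S.blockGroup i) (S.W i) :=
  (Units.coeHom _).comp (S.blockGroup i).subtype

theorem tautRep_injective (i : Fin S.m) : Function.Injective (S.tautRep i) :=
  fun _ _ h => Subtype.ext (Units.ext h)

/-- The kernel acting on a block. -/
def blockHom (i : Fin S.m) : S.perm.ker →* S.blockGroup i :=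
  (S.blockRep i).asGroupHom.rangeRestrict.comp (Subgroup.inclusion (S.ker_le_stab i))

theorem finite_blockGroup [Finite X] (i : Fin S.m) : Finite (S.blockGroup i) :=
  Finite.of_surjective _ (S.blockRep i).asGroupHom.rangeRestrict_surjective

theorem isSolvable_blockGroup (hs : Group.IsSolvable X) (i : Fin S.m) :
    Group.IsSolvable (S.blockGroup i) := by
  haveI := hs
  exact Group.isSolvable_of_surjective (S.blockRep i).asGroupHom.rangeRestrict_surjective

theorem blockHom_joint (hρ : Function.Injective ρ) (z : S.perm.ker)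
    (h : ∀ i, S.blockHom i z = 1) : z = 1 := by
  refine Subtype.ext (hρ ?_)
  rw [OneMemClass.coe_one, map_one]
  refine LinearMap.ext fun v => ?_
  rw [← S.sum_apply_eq v, map_sum, map_sum]
  refine Finset.sum_congr rfl fun i _ => ?_
  have h1 := congrArg (fun g : S.blockGroup i => (g : (Module.End k (S.W i))ˣ).val) (h i)
  exact congrArg Subtype.val (LinearMap.congr_fun h1 ⟨S.e i v, v, rfl⟩)

theorem KB_of [Finite X] (hρ : Function.Injective ρ) (c : Fin S.m → ℕ)
    (hc : ∀ i, KB (S.blockGroup i) (c i)) : KB X ((∏ i, c i) * 2 ^ (S.m - 1)) := by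
  haveI := S.finite_blockGroup
  haveI : Nonempty (Fin S.m) := ⟨⟨0, by have := S.two; omega⟩⟩
  have h1 : KB S.perm.ker (∏ i, c i) :=
    KB.of_joint c hc Finset.univ S.blockHom fun z hz => S.blockHom_joint hρ z fun i => hz i (Finset.mem_univ i)
  have h2 := KB.perm (Fin S.m)
  rw [Nat.card_fin] at h2
  exact KB.of_ker S.perm h1 h2

theorem card_le [Finite X] (hρ : Function.Injective ρ) (c : Fin S.m → ℕ)
    (hc : ∀ i, Nat.card (S.blockGroup i) ≤ c i) :
    Nat.card X ≤ (∏ i, c i) * S.m.factorial := by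
  haveI := S.finite_blockGroup
  rw [← S.perm.ker.card_mul_index, Subgroup.index_ker]
  refine Nat.mul_le_mul (card_le_of_joint Finset.univ S.blockHom c
    (fun i _ => (Subgroup.card_le_card_group _).trans (hc i)) fun z hz =>
      S.blockHom_joint hρ z fun i => hz i (Finset.mem_univ i)) ?_
  refine (Subgroup.card_le_card_group _).trans (le_of_eq ?_)
  rw [Nat.card_perm, Nat.card_fin]

theorem transitive (hirr : Irr ρ) (i j : Fin S.m) : ∃ x, S.σ x i = j := by
  classical
  by_contra hno
  push Not at hno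
  set O := Finset.univ.filter fun l => ∃ x, S.σ x i = l with hO
  set E := ∑ l ∈ O, S.e l with hE
  have hj : j ∉ O := by simp [hO, hno]
  have hi : i ∈ O := by
    simp only [hO, Finset.mem_filter, Finset.mem_univ, true_and]
    exact ⟨1, by rw [show S.σ 1 = 1 from map_one S.perm]; rfl⟩
  have hstab : ∀ x l, l ∈ O → S.σ x l ∈ O := fun x l hl => by
    simp only [hO, Finset.mem_filter, Finset.mem_univ, true_and] at hl ⊢
    obtain ⟨y, rfl⟩ := hl
    exact ⟨x * y, by rw [S.σ_mul]; rfl⟩
  have hcomm : ∀ x, ρ x * E = E * ρ x := fun x => by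
    rw [hE, Finset.mul_sum, Finset.sum_congr rfl fun l _ => S.conj x l, ← Finset.sum_mul]
    congr 1
    refine (Finset.sum_bij (fun l _ => S.σ x l) (fun l hl => hstab x l hl)
      (fun a _ b _ h => (S.σ x).injective h) (fun b hb => ?_) fun l _ => rfl)
    refine ⟨S.σ x⁻¹ b, hstab _ _ hb, ?_⟩
    rw [← Equiv.Perm.mul_apply, ← S.σ_mul, mul_inv_cancel, show S.σ 1 = 1 from map_one S.perm,
      Equiv.Perm.one_apply]
  have hjE : S.e j * E = 0 := by
    rw [hE, Finset.mul_sum]
    exact Finset.sum_eq_zero fun l hl => S.ortho j l fun h => hj (h ▸ hl)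
  have hiE : E * S.e i = S.e i := by
    rw [hE, Finset.sum_mul, Finset.sum_eq_single i (fun l _ hl => S.ortho l i hl) (fun h => absurd hi h),
      S.idem]
  rcases hirr.2 (LinearMap.range E) (fun x v hv => by
    obtain ⟨w, rfl⟩ := hv
    exact ⟨ρ x w, by rw [← Module.End.mul_apply, ← hcomm, Module.End.mul_apply]⟩) with h | h
  · exact S.ne i (by rw [← hiE, LinearMap.range_eq_bot.1 h, zero_mul])
  · refine S.ne j (LinearMap.ext fun v => ?_)
    obtain ⟨w, rfl⟩ : v ∈ LinearMap.range E := h ▸ trivial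
    rw [← Module.End.mul_apply, hjE]
    rfl

theorem finrank_eq_of_irr [FiniteDimensional k V] (hirr : Irr ρ) (i j : Fin S.m) :
    Module.finrank k (S.W i) = Module.finrank k (S.W j) := by
  suffices h : ∀ a b, Module.finrank k (S.W a) ≤ Module.finrank k (S.W b) from le_antisymm (h i j) (h j i)
  intro a b
  obtain ⟨x, hx⟩ := S.transitive hirr a b
  refine LinearMap.finrank_le_finrank_of_injective
    (f := (ρ x).restrict (p := S.W a) (q := S.W b) fun v hv => hx ▸ S.map_mem_W x hv) fun v w h => ?_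
  have h1 := congrArg (fun z : S.W b => ρ x⁻¹ (z : V)) h
  have h2 : ∀ u : V, ρ x⁻¹ (ρ x u) = u := fun u => by
    rw [← Module.End.mul_apply, rho_inv_mul, Module.End.one_apply]
  exact Subtype.ext ((h2 v).symm.trans (h1.trans (h2 w)))

theorem finrank_mul [FiniteDimensional k V] (hirr : Irr ρ) (i : Fin S.m) :
    Module.finrank k (S.W i) * S.m = Module.finrank k V := by
  rw [← S.sum_finrank, Finset.sum_congr rfl fun j _ => S.finrank_eq_of_irr hirr j i,
    Finset.sum_const, Finset.card_univ, Fintype.card_fin, smul_eq_mul, mul_comm]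

theorem irr_tautRep (hirr : Irr ρ) (i : Fin S.m) : Irr (S.tautRep i) := by
  refine ⟨Submodule.nontrivial_iff_ne_bot.2 (S.W_ne_bot i), fun U hU => or_iff_not_imp_left.2 fun hne => ?_⟩
  let T : Submodule k V := Submodule.span k (⋃ x : X, ρ x '' (Subtype.val '' (U : Set (S.W i))))
  have hT : ∀ y, ∀ v ∈ T, ρ y v ∈ T := by
    intro y v hv
    induction hv using Submodule.span_induction with
    | mem a ha =>
      simp only [Set.mem_iUnion, Set.mem_image] at ha
      obtain ⟨x, _, ⟨u, hu, rfl⟩, rfl⟩ := ha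
      refine Submodule.subset_span ?_
      simp only [Set.mem_iUnion, Set.mem_image]
      exact ⟨y * x, _, ⟨u, hu, rfl⟩, by rw [map_mul, Module.End.mul_apply]⟩
    | zero => rw [map_zero]; exact zero_mem T
    | add a b _ _ ha hb => rw [map_add]; exact add_mem ha hb
    | smul c a _ ha => rw [map_smul]; exact Submodule.smul_mem T c ha
  have hsub : ∀ u ∈ U, (u : V) ∈ T := fun u hu => Submodule.subset_span (by
    simp only [Set.mem_iUnion, Set.mem_image]
    exact ⟨1, _, ⟨u, hu, rfl⟩, by rw [map_one, Module.End.one_apply]⟩)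
  have hTtop : T = ⊤ := by
    refine (hirr.2 T hT).resolve_left fun h => hne ?_
    rw [Submodule.eq_bot_iff]
    intro u hu
    have := hsub u hu
    rw [h, Submodule.mem_bot] at this
    exact Subtype.ext this
  have hcut : ∀ v ∈ T, S.e i v ∈ U.map (S.W i).subtype := by
    intro v hv
    induction hv using Submodule.span_induction with
    | mem a ha =>
      simp only [Set.mem_iUnion, Set.mem_image] at ha
      obtain ⟨x, _, ⟨u, hu, rfl⟩, rfl⟩ := ha
      have h1 := S.map_mem_W x u.2
      by_cases hx : S.σ x i = i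
      · rw [hx] at h1
        rw [S.mem_W.1 h1]
        refine ⟨S.blockRep i ⟨x, S.mem_stab.2 hx⟩ u, ?_, rfl⟩
        exact hU ⟨(S.blockRep i).asGroupHom ⟨x, S.mem_stab.2 hx⟩, _, rfl⟩ u hu
      · rw [← S.mem_W.1 h1, ← Module.End.mul_apply, S.ortho i _ (Ne.symm hx), LinearMap.zero_apply]
        exact zero_mem _
    | zero => rw [map_zero]; exact zero_mem _
    | add a b _ _ ha hb => rw [map_add]; exact add_mem ha hb
    | smul c a _ ha => rw [map_smul]; exact Submodule.smul_mem _ c ha
  rw [eq_top_iff]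
  intro w _
  obtain ⟨u, hu, he⟩ := hcut w (hTtop ▸ Submodule.mem_top)
  rw [S.mem_W.1 w.2] at he
  exact Subtype.ext he ▸ hu

end BlockSys

variable (ρ)

/-- The algebra spanned by a subgroup. -/
noncomputable def algA (A : Subgroup X) : Subalgebra k (Module.End k V) :=
  Algebra.adjoin k (ρ '' A)

variable {ρ}

theorem rho_mem_algA {A : Subgroup X} {a : X} (ha : a ∈ A) : ρ a ∈ algA ρ A :=
  Algebra.subset_adjoin ⟨a, ha, rfl⟩

theorem algA_mul_comm {A : Subgroup X} [hA : IsMulCommutative A] {r s : Module.End k V}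
    (hr : r ∈ algA ρ A) (hs : s ∈ algA ρ A) : r * s = s * r := by
  have h := Algebra.isMulCommutative_adjoin k (s := ρ '' A) (by
    rintro _ ⟨a, ha, rfl⟩ _ ⟨b, hb, rfl⟩
    rw [← map_mul, ← map_mul]
    exact congrArg ρ (congrArg Subtype.val (hA.is_comm.comm (⟨a, ha⟩ : A) ⟨b, hb⟩)))
  exact congrArg Subtype.val (h.is_comm.comm ⟨r, hr⟩ ⟨s, hs⟩)

theorem commute_algA {A : Subgroup X} {c : X} (hc : c ∈ Subgroup.centralizer (A : Set X))
    {r : Module.End k V} (hr : r ∈ algA ρ A) : Commute (ρ c) r := by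
  induction hr using Algebra.adjoin_induction with
  | mem a ha =>
    obtain ⟨a, ha, rfl⟩ := ha
    rw [Commute, SemiconjBy, ← map_mul, ← map_mul, Subgroup.mem_centralizer_iff.1 hc a ha]
  | algebraMap c' => exact (Algebra.commutes c' _).symm
  | add a b _ _ ha hb => exact ha.add_right hb
  | mul a b _ _ ha hb => exact ha.mul_right hb

theorem conj_mem_algA {A : Subgroup X} [hn : A.Normal] (x : X) {r : Module.End k V}
    (hr : r ∈ algA ρ A) : ρ x * r * ρ x⁻¹ ∈ algA ρ A := by
  induction hr using Algebra.adjoin_induction with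
  | mem a ha =>
    obtain ⟨a, ha, rfl⟩ := ha
    rw [← map_mul, ← map_mul]
    exact rho_mem_algA (hn.conj_mem a ha x)
  | algebraMap c' =>
    rw [← Algebra.commutes, mul_assoc, rho_mul_inv, mul_one]
    exact Subalgebra.algebraMap_mem _ c'
  | add a b _ _ ha hb => rw [mul_add, add_mul]; exact add_mem ha hb
  | mul a b _ _ ha hb =>
    have e : ρ x * (a * b) * ρ x⁻¹ = (ρ x * a * ρ x⁻¹) * (ρ x * b * ρ x⁻¹) := by
      have h := rho_inv_mul (ρ := ρ) x
      simp only [mul_assoc]
      rw [← mul_assoc (ρ x⁻¹), h, one_mul]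
    rw [e]; exact mul_mem ha hb

/-- Conjugation of the algebra. -/
noncomputable def conjAlg (A : Subgroup X) [A.Normal] : X →* (algA ρ A ≃ₐ[k] algA ρ A) := by
  let f : X → (algA ρ A →ₐ[k] algA ρ A) := fun x =>
    { toFun := fun r => ⟨ρ x * r * ρ x⁻¹, conj_mem_algA x r.2⟩
      map_one' := Subtype.ext (by simp [rho_mul_inv])
      map_mul' := fun r s => Subtype.ext (by
        show ρ x * ((r : Module.End k V) * s) * ρ x⁻¹ = (ρ x * r * ρ x⁻¹) * (ρ x * s * ρ x⁻¹)
        have h := rho_inv_mul (ρ := ρ) x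
        simp only [mul_assoc]
        rw [← mul_assoc (ρ x⁻¹) (ρ x), h, one_mul])
      map_zero' := Subtype.ext (by simp)
      map_add' := fun r s => Subtype.ext (by simp [mul_add, add_mul])
      commutes' := fun c => Subtype.ext (by
        show ρ x * algebraMap k (Module.End k V) c * ρ x⁻¹ = algebraMap k (Module.End k V) c
        rw [← Algebra.commutes, mul_assoc, rho_mul_inv, mul_one]) }
  have hf : ∀ x y, (f x).comp (f y) = f (x * y) := fun x y => AlgHom.ext fun r => Subtype.ext (by
    show ρ x * (ρ y * (r : Module.End k V) * ρ y⁻¹) * ρ x⁻¹ = ρ (x * y) * r * ρ (x * y)⁻¹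
    rw [mul_inv_rev, map_mul, map_mul]
    simp only [mul_assoc])
  have h1 : f 1 = AlgHom.id k _ := AlgHom.ext fun r => Subtype.ext (by
    show ρ 1 * (r : Module.End k V) * ρ (1 : X)⁻¹ = r
    simp)
  exact MonoidHom.mk' (fun x => AlgEquiv.ofAlgHom (f x) (f x⁻¹)
    (by rw [hf, mul_inv_cancel, h1]) (by rw [hf, inv_mul_cancel, h1])) fun x y =>
      AlgEquiv.ext fun r => (DFunLike.congr_fun (hf x y) r).symm

theorem conjAlg_apply (A : Subgroup X) [A.Normal] (x : X) (r : algA ρ A) :
    ((conjAlg A x r : algA ρ A) : Module.End k V) = ρ x * r * ρ x⁻¹ := rfl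

theorem isReduced_algA [FiniteDimensional k V] (A : Subgroup X) [hA : IsMulCommutative A] [Finite A]
    [NeZero (Nat.card A : k)] : IsReduced (algA ρ A) := by
  letI : CommRing (algA ρ A) :=
    { (inferInstance : Ring (algA ρ A)) with
      mul_comm := fun r s => Subtype.ext (algA_mul_comm r.2 s.2) }
  let f : A →* algA ρ A :=
    { toFun := fun a => ⟨ρ a, rho_mem_algA a.2⟩
      map_one' := Subtype.ext (map_one ρ)
      map_mul' := fun a b => Subtype.ext (map_mul ρ (a : X) b) }
  let φ : MonoidAlgebra k A →ₐ[k] algA ρ A := MonoidAlgebra.lift k (algA ρ A) A f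
  have hsurj : Function.Surjective φ := by
    have hle : algA ρ A ≤ ((algA ρ A).val.comp φ).range := by
      refine Algebra.adjoin_le ?_
      rintro _ ⟨a, ha, rfl⟩
      exact ⟨MonoidAlgebra.single ⟨a, ha⟩ 1, by simp [φ, f]⟩
    intro r
    obtain ⟨z, hz⟩ := hle r.2
    exact ⟨z, Subtype.ext hz⟩
  haveI : IsSemisimpleRing (algA ρ A) := RingHom.isSemisimpleRing_of_surjective φ.toRingHom hsurj
  infer_instance

/-- Either the algebra of an abelian normal subgroup is a field, or it contains blocks. -/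
theorem dichotomy_mem [FiniteDimensional k V] [Nontrivial V] (A : Subgroup X) [A.Normal]
    [hA : IsMulCommutative A] [Finite A] [NeZero (Nat.card A : k)] :
    IsField (algA ρ A) ∨ ∃ S : BlockSys ρ, ∀ i, S.e i ∈ algA ρ A := by
  classical
  letI : CommRing (algA ρ A) :=
    { (inferInstance : Ring (algA ρ A)) with
      mul_comm := fun r s => Subtype.ext (algA_mul_comm r.2 s.2) }
  haveI : IsReduced (algA ρ A) := isReduced_algA A
  haveI : IsArtinianRing (algA ρ A) := IsArtinianRing.of_finite k _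
  haveI : Nontrivial (algA ρ A) := ⟨⟨0, 1, fun h => zero_ne_one (α := Module.End k V)
    (congrArg Subtype.val h)⟩⟩
  haveI := Fintype.ofFinite (MaximalSpectrum (algA ρ A))
  let Φ := IsArtinianRing.equivPi (algA ρ A)
  rcases Nat.lt_or_ge (Fintype.card (MaximalSpectrum (algA ρ A))) 2 with h2 | h2
  · left
    obtain ⟨I, hI⟩ := Ideal.exists_maximal (algA ρ A)
    have : Subsingleton (MaximalSpectrum (algA ρ A)) :=
      Fintype.card_le_one_iff_subsingleton.1 (by omega)
    haveI : IsLocalRing (algA ρ A) := IsLocalRing.of_unique_max_ideal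
      ⟨I, hI, fun J hJ => congrArg MaximalSpectrum.asIdeal
        (Subsingleton.elim (⟨J, hJ⟩ : MaximalSpectrum (algA ρ A)) ⟨I, hI⟩)⟩
    exact IsArtinianRing.isField_of_isReduced_of_isLocalRing _
  · right
    let ε := Fintype.equivFin (MaximalSpectrum (algA ρ A))
    let e : MaximalSpectrum (algA ρ A) → algA ρ A := fun I => Φ.symm (Pi.single I 1)
    have hΦ : ∀ I, Φ (e I) = Pi.single I 1 := fun I => Φ.apply_symm_apply _
    have happ : ∀ r (J : MaximalSpectrum (algA ρ A)), Φ r J = Ideal.Quotient.mk J.asIdeal r :=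
      fun r J => rfl
    have hchar : ∀ (r : algA ρ A) I, (r - 1 ∈ I.asIdeal ∧ ∀ J, J ≠ I → r ∈ J.asIdeal) → r = e I := by
      intro r I h
      refine Φ.injective (funext fun J => ?_)
      rw [hΦ, happ]
      rcases eq_or_ne J I with rfl | hne
      · rw [Pi.single_eq_same, ← map_one (Ideal.Quotient.mk J.asIdeal), Ideal.Quotient.mk_eq_mk_iff_sub_mem]
        exact h.1
      · rw [Pi.single_eq_of_ne hne, Ideal.Quotient.eq_zero_iff_mem]
        exact h.2 J hne
    have hmem : ∀ I, e I - 1 ∈ I.asIdeal ∧ ∀ J, J ≠ I → e I ∈ J.asIdeal := by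
      intro I
      refine ⟨?_, fun J hne => ?_⟩
      · rw [← Ideal.Quotient.mk_eq_mk_iff_sub_mem, map_one, ← happ, hΦ, Pi.single_eq_same]
      · rw [← Ideal.Quotient.eq_zero_iff_mem, ← happ, hΦ, Pi.single_eq_of_ne hne]
    let c := conjAlg (ρ := ρ) A
    let τ : X → MaximalSpectrum (algA ρ A) → MaximalSpectrum (algA ρ A) := fun x I =>
      ⟨Ideal.comap (c x⁻¹) I.asIdeal, Ideal.comap_isMaximal_of_surjective _ (c x⁻¹).surjective⟩
    have hcc : ∀ x y r, c x (c y r) = c (x * y) r := fun x y r => by rw [map_mul]; rfl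
    have hττ : ∀ x I, τ x (τ x⁻¹ I) = I := fun x I => by
      refine MaximalSpectrum.ext (Ideal.ext fun r => ?_)
      show c x⁻¹⁻¹ (c x⁻¹ r) ∈ I.asIdeal ↔ r ∈ I.asIdeal
      rw [inv_inv, hcc, mul_inv_cancel, map_one]
      rfl
    let σ : X → Equiv.Perm (MaximalSpectrum (algA ρ A)) := fun x =>
      ⟨τ x, τ x⁻¹, fun I => by simpa using hττ x⁻¹ I, hττ x⟩
    have hconj : ∀ x I, c x (e I) = e (σ x I) := by
      intro x I
      have hback : ∀ r, c x⁻¹ (c x r) = r := fun r => by
        rw [hcc, inv_mul_cancel, map_one]; rfl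
      refine hchar _ _ ⟨?_, fun J hne => ?_⟩
      · show c x⁻¹ (c x (e I) - 1) ∈ I.asIdeal
        rw [map_sub, hback, map_one]
        exact (hmem I).1
      · have hJI : (σ x).symm J ≠ I := fun h => hne (by rw [← h, Equiv.apply_symm_apply])
        have h1 : c x⁻¹⁻¹ (e I) ∈ J.asIdeal := (hmem I).2 _ hJI
        rwa [inv_inv] at h1
    refine ⟨{
      m := Fintype.card (MaximalSpectrum (algA ρ A))
      e := fun i => (e (ε.symm i) : Module.End k V)
      σ := fun x => ε.permCongr (σ x)
      idem := fun i => ?_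
      ortho := fun i j hij => ?_
      ne := fun i h => ?_
      sum := ?_
      conj := fun x i => ?_
      two := h2 }, fun i => (e (ε.symm i)).2⟩
    · rw [← Subalgebra.coe_mul]
      congr 1
      exact Φ.injective (by rw [map_mul, hΦ, ← Pi.single_mul, one_mul])
    · rw [← Subalgebra.coe_mul, ← ZeroMemClass.coe_zero (algA ρ A)]
      congr 1
      refine Φ.injective (funext fun J => ?_)
      rw [map_mul, hΦ, hΦ, map_zero, Pi.mul_apply]
      rcases eq_or_ne J (ε.symm i) with rfl | hne
      · rw [Pi.single_eq_of_ne (fun h => hij (ε.symm.injective h)), mul_zero]; rfl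
      · rw [Pi.single_eq_of_ne hne, zero_mul]; rfl
    · have h1 : e (ε.symm i) = 0 := Subtype.ext h
      have h3 := congrFun (congrArg Φ h1) (ε.symm i)
      rw [hΦ, map_zero, Pi.single_eq_same] at h3
      exact one_ne_zero h3
    · rw [← AddSubmonoidClass.coe_finsetSum, ← OneMemClass.coe_one (algA ρ A)]
      congr 1
      refine Φ.injective ?_
      rw [map_sum, map_one, ← Equiv.sum_comp ε, Finset.sum_congr rfl fun I _ => by
        rw [Equiv.symm_apply_apply, hΦ]]
      exact Finset.univ_sum_single (1 : ∀ I : MaximalSpectrum (algA ρ A), _ ⧸ I.asIdeal)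
    · have h1 := congrArg Subtype.val (hconj x (ε.symm i))
      rw [conjAlg_apply] at h1
      show ρ x * _ = (e (ε.symm (ε.permCongr (σ x) i)) : Module.End k V) * ρ x
      rw [Equiv.permCongr_apply, Equiv.symm_apply_apply, ← h1, mul_assoc, rho_inv_mul, mul_one]

/-- Either the algebra of an abelian normal subgroup is a field, or there are blocks. -/
theorem dichotomy [FiniteDimensional k V] [Nontrivial V] (A : Subgroup X) [A.Normal]
    [IsMulCommutative A] [Finite A] [NeZero (Nat.card A : k)] :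
    IsField (algA ρ A) ∨ Nonempty (BlockSys ρ) :=
  (dichotomy_mem A).imp_right fun ⟨S, _⟩ => ⟨S⟩

end CfsgLib.LinClasses
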