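import Cfsg.Agent.LinClasses.Com
import Mathlib.GroupTheory.GroupAction.ConjAct

/-!
# Counting classes
-/

set_option autoImplicit false
set_option linter.style.haveILetI false

namespace CfsgLib.LinClasses

variable {G : Type*} [Group G] [Finite G]

theorem finite_classes : Finite (ConjClasses G) :=
  Finite.of_surjective _ ConjClasses.mk_surjective

theorem map_mk {Y : Type*} [Group Y] (f : G →* Y) (g : G) :
    ConjClasses.map f (ConjClasses.mk g) = ConjClasses.mk (f g) := rfl

/-- A non-trivial kernel costs a class. -/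
theorem card_classes_lt {Y : Type*} [Group Y] (f : G →* Y) (hf : Function.Surjective f)
    (hk : f.ker ≠ ⊥) : Nat.card (ConjClasses Y) + 1 ≤ Nat.card (ConjClasses G) := by
  haveI := finite_classes (G := G)
  obtain ⟨n, hn, hn1⟩ := (Subgroup.ne_bot_iff_exists_ne_one).1 hk |> fun ⟨⟨n, hn⟩, h⟩ =>
    (⟨n, hn, fun e => h (Subtype.ext e)⟩ : ∃ n : G, n ∈ f.ker ∧ n ≠ 1)
  refine Nat.lt_iff_add_one_le.1 (lt_of_le_of_ne (card_classes_le_of_surjective f hf) fun he => hn1 ?_)
  have hinj := ((Nat.bijective_iff_surjective_and_card (ConjClasses.map f)).2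
    ⟨ConjClasses.map_surjective hf, he.symm⟩).1
  have h1 : ConjClasses.mk n = ConjClasses.mk (1 : G) := hinj (by
    rw [map_mk, map_mk, MonoidHom.mem_ker.1 hn, map_one])
  exact isConj_one_left.1 (ConjClasses.mk_eq_mk_iff_isConj.1 h1)

/-- The classes inside an abelian normal subgroup. -/
theorem classes_abelian_normal (N : Subgroup G) [N.Normal] [hN : IsMulCommutative N] :
    ∃ x, Nat.card (ConjClasses G) = Nat.card (ConjClasses (G ⧸ N)) + x ∧
      Nat.card N ≤ x * N.index + 1 := by
  classical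
  haveI := finite_classes (G := G)
  haveI := finite_classes (G := G ⧸ N)
  set f := QuotientGroup.mk' N with hf
  let S := {c : ConjClasses G // ConjClasses.map f c = ConjClasses.mk 1 ∧ c ≠ ConjClasses.mk 1}
  let s := Function.surjInv (ConjClasses.map_surjective (f := f) (QuotientGroup.mk'_surjective N))
  have hs : ∀ q, ConjClasses.map f (s q) = q := Function.surjInv_eq _
  let Φ : S ⊕ ConjClasses (G ⧸ N) → ConjClasses G :=
    Sum.elim Subtype.val fun q => if q = ConjClasses.mk 1 then ConjClasses.mk 1 else s q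
  have hmap : ∀ q, ConjClasses.map f (Φ (Sum.inr q)) = q := by
    intro q
    simp only [Φ, Sum.elim_inr]
    split_ifs with h
    · rw [map_mk, map_one, h]
    · exact hs q
  have hΦ : Function.Injective Φ := by
    rintro (a | a) (b | b) h
    · exact congrArg Sum.inl (Subtype.ext h)
    · exfalso
      have h1 := congrArg (ConjClasses.map f) h
      rw [hmap] at h1
      have h2 : ConjClasses.map f (Φ (Sum.inl a)) = ConjClasses.mk 1 := a.2.1
      rw [h2] at h1
      refine a.2.2 (h.trans ?_)
      simp only [Φ, Sum.elim_inr, ← h1, if_true]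
    · exfalso
      have h1 := congrArg (ConjClasses.map f) h
      rw [hmap] at h1
      have h2 : ConjClasses.map f (Φ (Sum.inl b)) = ConjClasses.mk 1 := b.2.1
      rw [h2] at h1
      refine b.2.2 (h.symm.trans ?_)
      simp only [Φ, Sum.elim_inr, h1, if_true]
    · have h1 := congrArg (ConjClasses.map f) h
      rw [hmap, hmap] at h1
      rw [h1]
  have h1 := Nat.card_le_card_of_injective Φ hΦ
  rw [Nat.card_sum] at h1
  obtain ⟨x, hx⟩ := Nat.exists_eq_add_of_le (le_trans (Nat.le_add_left _ _) h1)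
  refine ⟨x, hx, ?_⟩
  have hSx : Nat.card S ≤ x := by omega
  refine le_trans ?_ (Nat.add_le_add_right (Nat.mul_le_mul_right _ hSx) 1)
  let T := {n : N // n ≠ 1}
  have hT : Nat.card T + 1 = Nat.card N := by
    haveI := Fintype.ofFinite N
    have h := Nat.card_pos (α := N)
    rw [Nat.card_eq_fintype_card] at h ⊢
    rw [Fintype.card_subtype_compl, Fintype.card_subtype_eq, Nat.card_eq_fintype_card]
    omega
  rw [← hT, Subgroup.index_eq_card, ← Nat.card_prod]
  refine Nat.add_le_add_right ?_ 1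
  let cl : T → S := fun n => ⟨ConjClasses.mk ((n.1 : N) : G), by
    rw [map_mk, hf, QuotientGroup.mk'_apply, (QuotientGroup.eq_one_iff _).2 n.1.2],
    fun e => n.2 (Subtype.ext (isConj_one_left.1 (ConjClasses.mk_eq_mk_iff_isConj.1 e)))⟩
  let r := Function.surjInv (ConjClasses.mk_surjective (α := G))
  have hrep : ∀ n : T, ∃ g : G, g * r (cl n).1 * g⁻¹ = ((n.1 : N) : G) := fun n =>
    isConj_iff.1 (ConjClasses.mk_eq_mk_iff_isConj.1 (Function.surjInv_eq ConjClasses.mk_surjective (cl n).1))
  choose g hg using hrep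
  refine Nat.card_le_card_of_injective (fun n => (cl n, (g n : G ⧸ N))) fun n m h => ?_
  have h2 : r (cl n).1 = r (cl m).1 := congrArg (fun z : S × (G ⧸ N) => r z.1.1) h
  have h3 : (g m)⁻¹ * g n ∈ N := QuotientGroup.eq.1 (congrArg Prod.snd h).symm
  have hout : (r (cl n).1) ∈ N := by
    have e : (r (cl n).1) = (g n)⁻¹ * ((n.1 : N) : G) * (g n)⁻¹⁻¹ := by rw [← hg n]; group
    rw [e]
    exact (inferInstance : N.Normal).conj_mem _ n.1.2 _
  have h4 : (g m)⁻¹ * g n * (r (cl n).1) = (r (cl n).1) * ((g m)⁻¹ * g n) :=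
    congrArg Subtype.val (hN.is_comm.comm (⟨_, h3⟩ : N) ⟨_, hout⟩)
  refine Subtype.ext (Subtype.ext ?_)
  rw [← hg n, ← hg m, ← h2]
  calc g n * (r (cl n).1) * (g n)⁻¹ = g m * ((g m)⁻¹ * g n * (r (cl n).1)) * (g n)⁻¹ := by group
    _ = g m * ((r (cl n).1) * ((g m)⁻¹ * g n)) * (g n)⁻¹ := by rw [h4]
    _ = _ := by group

section Central

variable {A : Subgroup G}

theorem isConj_mul_central (hA : A ≤ Subgroup.center G) {g h a : G} (ha : a ∈ A) (hc : IsConj g h) :
    IsConj (g * a) (h * a) := by
  obtain ⟨x, hx⟩ := isConj_iff.1 hc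
  refine isConj_iff.2 ⟨x, ?_⟩
  rw [← hx]
  have h1 := Subgroup.mem_center_iff.1 (hA ha) x⁻¹
  calc x * (g * a) * x⁻¹ = x * g * (a * x⁻¹) := by group
    _ = x * g * (x⁻¹ * a) := by rw [h1]
    _ = _ := by group

/-- Classes over separated elements. -/
theorem sum_le_card_classes (hA : A ≤ Subgroup.center G) {ι : Type*} [Fintype ι] (g : ι → G)
    (c w : ι → ℕ) (L : ℕ)
    (hsep : ∀ i j, ∀ a ∈ A, ∀ b ∈ A, IsConj (g i * a) (g j * b) → i = j)
    (hfib : ∀ i, Nat.card {a : A // IsConj (g i * a) (g i)} ≤ c i) (hcw : ∀ i, c i * w i ≤ L) :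
    Nat.card A * ∑ i, w i ≤ L * Nat.card (ConjClasses G) := by
  classical
  haveI := finite_classes (G := G)
  let φ : ∀ _i : ι, A → ConjClasses G := fun i a => ConjClasses.mk (g i * a)
  have hfibre : ∀ i, Nat.card A ≤ c i * Nat.card (Set.range (φ i)) := by
    intro i
    let F : A → {a : A // IsConj (g i * a) (g i)} × Set.range (φ i) := fun a =>
      let b := (⟨φ i a, a, rfl⟩ : Set.range (φ i)).2.choose
      (⟨a * b⁻¹, by
        have hb : φ i b = φ i a := (⟨φ i a, a, rfl⟩ : Set.range (φ i)).2.choose_spec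
        have h1 := isConj_mul_central hA (b⁻¹).2 (ConjClasses.mk_eq_mk_iff_isConj.1 hb.symm)
        simpa [mul_assoc] using h1⟩, ⟨φ i a, a, rfl⟩)
    have hF : Function.Injective F := by
      intro a a' h
      have h2 : φ i a = φ i a' := congrArg Subtype.val (congrArg Prod.snd h)
      have h1 := congrArg Subtype.val (congrArg Prod.fst h)
      simp only [F, h2] at h1
      exact mul_right_cancel h1
    refine (Nat.card_le_card_of_injective F hF).trans ?_
    rw [Nat.card_prod]
    exact Nat.mul_le_mul_right _ (hfib i)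
  have hsum : ∑ i, Nat.card (Set.range (φ i)) ≤ Nat.card (ConjClasses G) := by
    rw [← Nat.card_sigma]
    refine Nat.card_le_card_of_injective (fun q => (q.2 : ConjClasses G)) ?_
    rintro ⟨i, _, a, rfl⟩ ⟨j, _, b, rfl⟩ h
    obtain rfl := hsep i j a a.2 b b.2 (ConjClasses.mk_eq_mk_iff_isConj.1 h)
    exact Sigma.ext rfl (heq_of_eq (Subtype.ext h))
  calc Nat.card A * ∑ i, w i = ∑ i, Nat.card A * w i := Finset.mul_sum _ _ _
    _ ≤ ∑ i, c i * Nat.card (Set.range (φ i)) * w i :=
        Finset.sum_le_sum fun i _ => Nat.mul_le_mul_right _ (hfibre i)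
    _ = ∑ i, c i * w i * Nat.card (Set.range (φ i)) := Finset.sum_congr rfl fun i _ => by ring
    _ ≤ ∑ i, L * Nat.card (Set.range (φ i)) :=
        Finset.sum_le_sum fun i _ => Nat.mul_le_mul_right _ (hcw i)
    _ ≤ L * Nat.card (ConjClasses G) := by rw [← Finset.mul_sum]; exact Nat.mul_le_mul_left _ hsum

/-- The determinant bound. -/
theorem mul_classes_le_of_hom [A.Normal] (hA : A ≤ Subgroup.center G) {M : Type*} [CommGroup M]
    (χ : G →* M) (d : ℕ) (hd : Nat.card {a : A // χ a = 1} ≤ d) :
    Nat.card A * Nat.card (ConjClasses (G ⧸ A)) ≤ d * Nat.card (ConjClasses G) := by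
  classical
  haveI := finite_classes (G := G ⧸ A)
  haveI := Fintype.ofFinite (ConjClasses (G ⧸ A))
  let f := QuotientGroup.mk' A
  have hex : ∀ q : ConjClasses (G ⧸ A), ∃ g : G, ConjClasses.mk (f g) = q := fun q => by
    obtain ⟨c, rfl⟩ := ConjClasses.mk_surjective q
    obtain ⟨g, rfl⟩ := QuotientGroup.mk'_surjective A c
    exact ⟨g, rfl⟩
  choose g hg using hex
  have h := sum_le_card_classes hA g (fun _ => d) (fun _ => 1) d (fun i j a ha b hb h => ?_)
    (fun i => le_trans ?_ hd) (fun _ => le_of_eq (mul_one d))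
  · rwa [Finset.sum_const, Finset.card_univ, smul_eq_mul, mul_one, ← Nat.card_eq_fintype_card] at h
  · have h1 := ConjClasses.mk_eq_mk_iff_isConj.2 (f.map_isConj h)
    rwa [map_mul, map_mul, (QuotientGroup.eq_one_iff a).2 ha |> fun e => (show f a = 1 from e),
      (show f b = 1 from (QuotientGroup.eq_one_iff b).2 hb), mul_one, mul_one, hg, hg] at h1
  · refine Nat.card_le_card_of_injective (fun a => (⟨a.1, ?_⟩ : {a : A // χ a = 1}))
      fun a a' h => Subtype.ext (congrArg (fun z : {a : A // χ a = 1} => z.1) h)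
    have h1 := χ.map_isConj a.2
    rw [isConj_iff_eq, map_mul] at h1
    exact mul_eq_left.1 h1

/-- Central elements are classes by themselves. -/
theorem card_central_add_le [A.Normal] (hA : A ≤ Subgroup.center G) :
    Nat.card A + Nat.card (ConjClasses (G ⧸ A)) ≤ Nat.card (ConjClasses G) + 1 := by
  haveI : IsMulCommutative A := ⟨⟨fun a b => Subtype.ext ((Subgroup.mem_center_iff.1 (hA a.2) b).symm)⟩⟩
  classical
  haveI := finite_classes (G := G)
  haveI := finite_classes (G := G ⧸ A)
  let f := QuotientGroup.mk' A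
  let s := Function.surjInv (ConjClasses.map_surjective (f := f) (QuotientGroup.mk'_surjective A))
  have hs : ∀ q, ConjClasses.map f (s q) = q := Function.surjInv_eq _
  let Φ : A ⊕ {q : ConjClasses (G ⧸ A) // q ≠ ConjClasses.mk 1} → ConjClasses G :=
    Sum.elim (fun a => ConjClasses.mk (a : G)) fun q => s q.1
  have hfa : ∀ a : A, ConjClasses.map f (ConjClasses.mk (a : G)) = ConjClasses.mk 1 := fun a => by
    rw [map_mk]
    exact congrArg ConjClasses.mk ((QuotientGroup.eq_one_iff _).2 a.2)
  have hΦ : Function.Injective Φ := by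
    rintro (a | a) (b | b) h
    · obtain ⟨x, hx⟩ := isConj_iff.1 (ConjClasses.mk_eq_mk_iff_isConj.1 h)
      rw [Subgroup.mem_center_iff.1 (hA a.2) x, mul_inv_cancel_right] at hx
      exact congrArg Sum.inl (Subtype.ext hx)
    · exfalso
      have h1 := congrArg (ConjClasses.map f) h
      simp only [Φ, Sum.elim_inl, Sum.elim_inr, hs, hfa] at h1
      exact b.2 h1.symm
    · exfalso
      have h1 := congrArg (ConjClasses.map f) h
      simp only [Φ, Sum.elim_inl, Sum.elim_inr, hs, hfa] at h1
      exact a.2 h1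
    · have h1 := congrArg (ConjClasses.map f) h
      simp only [Φ, Sum.elim_inr, hs] at h1
      exact congrArg Sum.inr (Subtype.ext h1)
  have h1 := Nat.card_le_card_of_injective Φ hΦ
  haveI := Fintype.ofFinite (ConjClasses (G ⧸ A))
  rw [Nat.card_sum, Nat.card_eq_fintype_card (α := {q : ConjClasses (G ⧸ A) // q ≠ ConjClasses.mk 1}),
    Fintype.card_subtype_compl, Fintype.card_subtype_eq, ← Nat.card_eq_fintype_card] at h1
  omega

end Central

section Landau

theorem arith_three {a b n : ℕ} (h : n = 1 + a + b) (hab : b ≤ a) (ha : a ∣ n) (hb : b ∣ n) :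
    n ≤ 6 := by
  rcases Nat.eq_zero_or_pos b with rfl | hb0
  · rw [zero_dvd_iff] at hb; omega
  obtain ⟨c, hc⟩ := ha
  have hc3 : c ≤ 3 := by
    by_contra hh
    have h4 : a * 4 ≤ a * c := Nat.mul_le_mul_left a (by omega)
    omega
  interval_cases c
  · omega
  · omega
  · -- `a = n / 2`
    have h2 : n = b * 2 + 2 := by omega
    rw [h2] at hb
    have hb2 : b ∣ 2 := (Nat.dvd_add_right (Dvd.intro 2 rfl)).1 hb
    have := Nat.le_of_dvd (by norm_num) hb2
    omega
  · omega

theorem arith_four {a b c n : ℕ} (h : n = 1 + a + b + c) (hab : b ≤ a) (hbc : c ≤ b) (ha : a ∣ n)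
    (hb : b ∣ n) (hc : c ∣ n) : n ≤ 42 := by
  rcases Nat.eq_zero_or_pos c with rfl | hc0
  · rw [zero_dvd_iff] at hc; omega
  obtain ⟨u, hu⟩ := ha
  have hu4 : u ≤ 4 := by
    by_contra hh
    have h4 : a * 5 ≤ a * u := Nat.mul_le_mul_left a (by omega)
    omega
  interval_cases u
  · omega
  · omega
  · obtain ⟨v, hv⟩ := hb
    have hv6 : v ≤ 6 := by
      by_contra hh
      have h4 : b * 7 ≤ b * v := Nat.mul_le_mul_left b (by omega)
      omega
    interval_cases v
    · omega
    · omega
    · omega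
    · -- `n = 6 (1 + c)`
      have hd : n = c * 6 + 6 := by omega
      rw [hd] at hc
      have hc6 : c ∣ 6 := (Nat.dvd_add_right (Dvd.intro 6 rfl)).1 hc
      have := Nat.le_of_dvd (by norm_num) hc6
      omega
    · have hd : n = c * 4 + 4 := by omega
      rw [hd] at hc
      have hc6 : c ∣ 4 := (Nat.dvd_add_right (Dvd.intro 4 rfl)).1 hc
      have := Nat.le_of_dvd (by norm_num) hc6
      omega
    · omega
    · omega
  · rcases (by omega : b = a ∨ b + 1 = a ∨ b + 2 ≤ a) with hb' | hb' | hb'
    · have hd : n = c * 3 + 3 := by omega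
      rw [hd] at hc
      have hc6 : c ∣ 3 := (Nat.dvd_add_right (Dvd.intro 3 rfl)).1 hc
      have := Nat.le_of_dvd (by norm_num) hc6
      omega
    · have hd : n = b * 3 + 3 := by omega
      rw [hd] at hb
      have hc6 : b ∣ 3 := (Nat.dvd_add_right (Dvd.intro 3 rfl)).1 hb
      have := Nat.le_of_dvd (by norm_num) hc6
      omega
    · omega
  · omega

theorem carrier_card_dvd (c : ConjClasses G) : Nat.card c.carrier ∣ Nat.card G := by
  obtain ⟨g, rfl⟩ := ConjClasses.mk_surjective c
  haveI : Finite (ConjAct G) := Finite.of_equiv G ConjAct.toConjAct.toEquiv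
  have h1 : Nat.card (ConjClasses.mk g).carrier = (MulAction.stabilizer (ConjAct G) g).index := by
    rw [Subgroup.index_eq_card, ← Nat.card_congr (MulAction.orbitEquivQuotientStabilizer (ConjAct G) g),
      ConjAct.orbit_eq_carrier_conjClasses]
  rw [h1, Nat.card_congr (ConjAct.toConjAct (G := G)).toEquiv]
  exact Subgroup.index_dvd_card _

theorem exists_sizes : ∃ (s : Finset (ConjClasses G)) (w : ConjClasses G → ℕ),
    s.card + 1 = Nat.card (ConjClasses G) ∧ Nat.card G = 1 + ∑ c ∈ s, w c ∧
      ∀ c, w c ∣ Nat.card G := by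
  classical
  haveI := finite_classes (G := G)
  haveI := Fintype.ofFinite (ConjClasses G)
  refine ⟨Finset.univ.erase (ConjClasses.mk 1), fun c => Nat.card c.carrier, ?_, ?_, carrier_card_dvd⟩
  · rw [Finset.card_erase_of_mem (Finset.mem_univ _), Finset.card_univ, ← Nat.card_eq_fintype_card]
    have := card_classes_pos (X := G)
    omega
  · have hpart : ∑ C : ConjClasses G, Nat.card C.carrier = Nat.card G := by
      rw [← Nat.card_sigma]
      refine Nat.card_congr ((Equiv.sigmaCongrRight fun C => Equiv.subtypeEquivRight fun x => ?_).trans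
        (Equiv.sigmaFiberEquiv (ConjClasses.mk (α := G))))
      exact ConjClasses.mem_carrier_iff_mk_eq
    rw [← hpart, ← Finset.add_sum_erase _ _ (Finset.mem_univ (ConjClasses.mk (1 : G)))]
    congr 1
    rw [Nat.card_eq_one_iff_unique]
    refine ⟨⟨fun a b => Subtype.ext ?_⟩, ⟨⟨1, ConjClasses.mem_carrier_mk⟩⟩⟩
    have h1 : ∀ x : (ConjClasses.mk (1 : G)).carrier, (x : G) = 1 := fun x =>
      isConj_one_left.1 (ConjClasses.mk_eq_mk_iff_isConj.1 (ConjClasses.mem_carrier_iff_mk_eq.1 x.2))
    rw [h1 a, h1 b]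

/-- Groups with at most three classes have order at most six. -/
theorem card_le_six_of_classes (h : Nat.card (ConjClasses G) ≤ 3) : Nat.card G ≤ 6 := by
  classical
  obtain ⟨s, w, hs, hn, hw⟩ := exists_sizes (G := G)
  rcases (by omega : s.card = 0 ∨ s.card = 1 ∨ s.card = 2) with h0 | h0 | h0
  · rw [Finset.card_eq_zero.1 h0, Finset.sum_empty] at hn
    omega
  · obtain ⟨x, rfl⟩ := Finset.card_eq_one.1 h0
    rw [Finset.sum_singleton] at hn
    have h1 : w x ∣ 1 := (Nat.dvd_add_left dvd_rfl).1 (hn ▸ hw x)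
    have := Nat.le_of_dvd one_pos h1
    omega
  · obtain ⟨x, y, hxy, rfl⟩ := Finset.card_eq_two.1 h0
    rw [Finset.sum_pair hxy] at hn
    rcases le_total (w y) (w x) with hle | hle
    · exact arith_three (by omega) hle (hw x) (hw y)
    · exact arith_three (by omega) hle (hw y) (hw x)

/-- Groups with four classes have order at most forty-two. -/
theorem card_le_of_classes_four (h : Nat.card (ConjClasses G) ≤ 4) : Nat.card G ≤ 42 := by
  classical
  rcases Nat.lt_or_ge (Nat.card (ConjClasses G)) 4 with h3 | h3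
  · exact (card_le_six_of_classes (by omega)).trans (by norm_num)
  obtain ⟨s, w, hs, hn, hw⟩ := exists_sizes (G := G)
  obtain ⟨x, y, z, hxy, hxz, hyz, rfl⟩ := Finset.card_eq_three.1 (by omega : s.card = 3)
  rw [Finset.sum_insert (by simp [hxy, hxz]), Finset.sum_pair hyz] at hn
  rcases le_total (w y) (w x) with h1 | h1 <;> rcases le_total (w z) (w y) with h2 | h2 <;>
    rcases le_total (w z) (w x) with h3 | h3
  all_goals
    first
      | exact arith_four (by omega) h1 h2 (hw x) (hw y) (hw z)
      | exact arith_four (by omega) h3 h2 (hw x) (hw z) (hw y)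
      | exact arith_four (by omega) h1 h3 (hw y) (hw x) (hw z)
      | exact arith_four (by omega) h2 h3 (hw y) (hw z) (hw x)
      | exact arith_four (by omega) h3 h1 (hw z) (hw x) (hw y)
      | exact arith_four (by omega) h2 h1 (hw z) (hw y) (hw x)

end Landau

end CfsgLib.LinClasses
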