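import Cfsg.Agent.LinClasses.SympMain

/-!
# The symplectic theorem
-/

set_option autoImplicit false
set_option linter.style.haveILetI false

namespace CfsgLib.LinClasses

open Matrix MatrixGroups Polynomial

/-- The statement for layers of order `n`. -/
def SympGoal (n : ℕ) : Prop :=
  ∀ (U : Type) [CommGroup U] [Finite U] (K : Type) [Field K] (β : U →* U →* Kˣ)
    (Y : Subgroup (MulAut U)), IsND β → Y ≤ isomGroup β → Aniso Y.subtype β → Group.IsSolvable Y →
      Nat.card U = n → ∃ m, n = m * m ∧ KB Y (3 ^ (m - 1)) ∧ (m = 4 → Nat.card Y ≤ 72) ∧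
        (m = 2 → Nat.card Y ≤ 6)

theorem finite_mulAut (U : Type) [Group U] [Finite U] : Finite (MulAut U) :=
  Finite.of_injective _ DFunLike.coe_injective

theorem symp_split (n : ℕ) (ih : ∀ m < n, SympGoal m) {U : Type} [CommGroup U] [Finite U] {K : Type}
    [Field K] {β : U →* U →* Kˣ} {Y : Subgroup (MulAut U)} (h : IsND β) (hiso : Y ≤ isomGroup β)
    (hani : Aniso Y.subtype β) (hs : Group.IsSolvable Y) (hn : Nat.card U = n) {W : Subgroup U}
    (hW : Stable Y W) (hW1 : W ≠ ⊥) (hWt : W ≠ ⊤) :
    ∃ m, n = m * m ∧ KB Y (3 ^ (m - 1)) ∧ (m = 4 → Nat.card Y ≤ 72) ∧ (m = 2 → Nat.card Y ≤ 6) := by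
  classical
  haveI := finite_mulAut U
  haveI : Finite Y := Subtype.finite
  obtain ⟨hcard, hdec⟩ := split_card h hani hiso hW
  have hW' := stable_orth hiso hW
  have h2 : 2 ≤ Nat.card W := Subgroup.one_lt_card_iff_ne_bot _ |>.2 hW1
  have h2' : 2 ≤ Nat.card (orth β W) := by
    by_contra hh
    refine hWt (Subgroup.eq_top_of_card_eq W ?_)
    have : Nat.card (orth β W) = 1 := by
      have := Nat.card_pos (α := orth β W)
      omega
    rw [hcard, this, mul_one]
  have hlt : Nat.card W < n := by
    rw [← hn, hcard]; exact lt_mul_of_one_lt_right (by omega) (by omega)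
  have hlt' : Nat.card (orth β W) < n := by
    rw [← hn, hcard]; exact lt_mul_of_one_lt_left (by omega) (by omega)
  obtain ⟨a1, a2, a3, a4⟩ := res_hyps h hiso hani hs hW
  obtain ⟨b1, b2, b3, b4⟩ := res_hyps h hiso hani hs hW'
  obtain ⟨m₁, e₁, k₁, -, s₁⟩ := ih _ hlt W K _ _ a1 a2 a3 a4 rfl
  obtain ⟨m₂, e₂, k₂, -, s₂⟩ := ih _ hlt' (orth β W) K _ _ b1 b2 b3 b4 rfl
  haveI := finite_mulAut W
  haveI := finite_mulAut (orth β W)
  haveI : Finite (resHom hW).range := Subtype.finite
  haveI : Finite (resHom hW').range := Subtype.finite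
  let f₁ := (resHom hW).rangeRestrict
  let f₂ : f₁.ker →* (resHom hW').range := (resHom hW').rangeRestrict.comp f₁.ker.subtype
  have hinj : Function.Injective f₂ := (injective_iff_map_eq_one f₂).2 fun y hy => by
    refine Subtype.ext (Subtype.ext (MulEquiv.ext fun u => ?_))
    obtain ⟨w, hw, v, hv, rfl⟩ := hdec u
    have h1 := congrArg (fun g : (resHom hW).range => (((g : MulAut W) ⟨w, hw⟩ : W) : U)) y.2
    have h2 := congrArg
      (fun g : (resHom hW').range => (((g : MulAut (orth β W)) ⟨v, hv⟩ : orth β W) : U)) hy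
    show ((y : Y) : MulAut U) (w * v) = w * v
    rw [map_mul]
    exact congrArg₂ (· * ·) h1 h2
  have hn2 : n = (m₁ * m₂) * (m₁ * m₂) := by
    rw [← hn, hcard, e₁, e₂]; ring
  have hm₁ : 2 ≤ m₁ := by
    rcases m₁ with _ | _ | m <;> omega
  have hm₂ : 2 ≤ m₂ := by
    rcases m₂ with _ | _ | m <;> omega
  have hle : (m₁ - 1) + (m₂ - 1) ≤ m₁ * m₂ - 1 := by
    obtain ⟨a, rfl⟩ : ∃ a, m₁ = a + 2 := ⟨m₁ - 2, by omega⟩
    obtain ⟨b, rfl⟩ : ∃ b, m₂ = b + 2 := ⟨m₂ - 2, by omega⟩
    have : (a + 2) * (b + 2) = a * b + 2 * a + 2 * b + 4 := by ring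
    omega
  refine ⟨m₁ * m₂, hn2, ?_, fun h4 => ?_, fun h4 => ?_⟩
  · refine (KB.of_ker f₁ (KB.of_injective f₂ hinj k₂) k₁).mono ?_
    rw [← pow_add]
    exact Nat.pow_le_pow_right (by norm_num) (by omega)
  · have hh : m₁ = 2 ∧ m₂ = 2 := by
      have h5 : 2 * m₂ ≤ m₁ * m₂ := Nat.mul_le_mul_right _ hm₁
      have h6 : m₁ * 2 ≤ m₁ * m₂ := Nat.mul_le_mul_left _ hm₂
      omega
    have hk : Nat.card f₁.ker ≤ 6 := (Nat.card_le_card_of_injective f₂ hinj).trans (s₂ hh.2)
    have hi : f₁.ker.index ≤ 6 := by
      rw [Subgroup.index_ker]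
      exact (Subgroup.card_le_card_group _).trans (s₁ hh.1)
    rw [← f₁.ker.card_mul_index]
    exact (Nat.mul_le_mul hk hi).trans (by norm_num)
  · have h5 : 2 * 2 ≤ m₁ * m₂ := Nat.mul_le_mul hm₁ hm₂
    omega

section Module

variable {U : Type} [CommGroup U] [Finite U] {p : ℕ} [hp : Fact p.Prime]

/-- The linear representation of a group of automorphisms. -/
def linRep [Module (ZMod p) (Additive U)] (Y : Subgroup (MulAut U)) :
    Representation (ZMod p) Y (Additive U) where
  toFun y := (MonoidHom.toAdditive (y : MulAut U).toMonoidHom).toZModLinearMap p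
  map_one' := LinearMap.ext fun _ => rfl
  map_mul' _ _ := LinearMap.ext fun _ => rfl

theorem linRep_apply [Module (ZMod p) (Additive U)] (Y : Subgroup (MulAut U)) (y : Y) (u : Additive U) :
    linRep (p := p) Y y u = Additive.ofMul ((y : MulAut U) (Additive.toMul u)) := rfl

theorem linRep_injective [Module (ZMod p) (Additive U)] (Y : Subgroup (MulAut U)) :
    Function.Injective (linRep (p := p) Y) := fun y y' h =>
  Subtype.ext (MulEquiv.ext fun u => congrArg Additive.toMul (LinearMap.congr_fun h (Additive.ofMul u)))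

theorem linRep_irr [Nontrivial U] [Module (ZMod p) (Additive U)] (Y : Subgroup (MulAut U))
    (hirr : ∀ W : Subgroup U, Stable Y W → W = ⊥ ∨ W = ⊤) : Irr (linRep (p := p) Y) := by
  refine ⟨inferInstanceAs (Nontrivial (Additive U)), fun M hM => ?_⟩
  let W : Subgroup U :=
    { carrier := {u | Additive.ofMul u ∈ M}
      one_mem' := M.zero_mem
      mul_mem' := fun ha hb => M.add_mem ha hb
      inv_mem' := fun ha => M.neg_mem ha }
  rcases hirr W (fun y w hw => hM y _ hw) with h | h
  · left
    refine (Submodule.eq_bot_iff M).2 fun u hu => ?_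
    have h1 : Additive.toMul u ∈ W := hu
    rw [h, Subgroup.mem_bot] at h1
    exact h1
  · right
    refine eq_top_iff.2 fun u _ => ?_
    exact (h ▸ Subgroup.mem_top (Additive.toMul u) : Additive.toMul u ∈ W)

theorem finrank_linRep [Module (ZMod p) (Additive U)] {a : ℕ} (h : Nat.card U = p ^ a) :
    Module.finrank (ZMod p) (Additive U) = a := by
  haveI : Module.Finite (ZMod p) (Additive U) := Module.Finite.of_finite
  have h1 : Nat.card (Additive U) = p ^ a := (Nat.card_congr Additive.toMul).trans h
  rw [Module.natCard_eq_pow_finrank (K := ZMod p), Nat.card_zmod] at h1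
  exact Nat.pow_right_injective hp.out.two_le h1

end Module

theorem KB.block_two {V : Type} [AddCommGroup V] [Module (ZMod 2) V] [Finite V]
    (hV : Module.finrank (ZMod 2) V = 2) (G : Subgroup (Module.End (ZMod 2) V)ˣ) : KB G 3 := by
  classical
  haveI : Module.Finite (ZMod 2) V := Module.Finite.of_finite
  haveI := Fintype.ofFinite V
  have hc : Nat.card V = 4 := by
    rw [Module.natCard_eq_pow_finrank (K := ZMod 2), Nat.card_zmod, hV]; rfl
  have h3 : Fintype.card {v : V // v ≠ 0} = 3 := by
    rw [Fintype.card_subtype_compl, Fintype.card_subtype_eq, ← Nat.card_eq_fintype_card, hc]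
  have hne : ∀ (g : (Module.End (ZMod 2) V)ˣ) (v : V), v ≠ 0 → (g : Module.End (ZMod 2) V) v ≠ 0 :=
    fun g v hv h => hv (by
      rw [← Module.End.one_apply (R := ZMod 2) v, ← g.inv_mul, Module.End.mul_apply, h, map_zero])
  let P : G →* Equiv.Perm {v : V // v ≠ 0} := MonoidHom.mk' (fun g =>
    { toFun := fun v => ⟨((g : (Module.End (ZMod 2) V)ˣ) : Module.End (ZMod 2) V) v, hne _ _ v.2⟩
      invFun := fun v => ⟨(((g⁻¹ : G) : (Module.End (ZMod 2) V)ˣ) : Module.End (ZMod 2) V) v, hne _ _ v.2⟩
      left_inv := fun v => Subtype.ext (by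
        show (((g : (Module.End (ZMod 2) V)ˣ)⁻¹ : (Module.End (ZMod 2) V)ˣ) : Module.End (ZMod 2) V) _ = _
        rw [← Module.End.mul_apply, Units.inv_mul]; rfl)
      right_inv := fun v => Subtype.ext (by
        show ((g : (Module.End (ZMod 2) V)ˣ) : Module.End (ZMod 2) V) _ = _
        rw [Subgroup.coe_inv, ← Module.End.mul_apply, Units.mul_inv]; rfl) })
    fun a b => Equiv.ext fun v => rfl
  refine KB.of_injective ((Fintype.equivFinOfCardEq h3).permCongrHom.toMonoidHom.comp P)
    ((injective_iff_map_eq_one _).2 fun g hg => ?_) KB.perm_three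
  have h1 := (Fintype.equivFinOfCardEq h3).permCongrHom.injective (hg.trans (map_one _).symm)
  refine Subtype.ext (Units.ext (LinearMap.ext fun v => ?_))
  rcases eq_or_ne v 0 with rfl | hv
  · simp
  · exact congrArg (fun q : Equiv.Perm {v : V // v ≠ 0} => ((q ⟨v, hv⟩ : {v : V // v ≠ 0}) : V)) h1

/-- The case of a layer of order sixteen with prime exponent. -/
theorem kb_two_two {U : Type} [CommGroup U] [Finite U] [Nontrivial U] [Module (ZMod 2) (Additive U)]
    {K : Type} [Field K] {β : U →* U →* Kˣ} {Y : Subgroup (MulAut U)} (h : IsND β)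
    (hiso : Y ≤ isomGroup β) (hirr : ∀ W : Subgroup U, Stable Y W → W = ⊥ ∨ W = ⊤)
    (hs : Group.IsSolvable Y) (hcard : Nat.card U = 16) : KB Y 27 := by
  classical
  haveI := finite_mulAut U
  haveI : Finite Y := Subtype.finite
  haveI : Finite (Additive U) := inferInstanceAs (Finite U)
  haveI : Module.Finite (ZMod 2) (Additive U) := Module.Finite.of_finite
  set ρ := linRep (p := 2) Y with hρdef
  have hρ : Function.Injective ρ := linRep_injective Y
  have hI : Irr ρ := linRep_irr Y hirr
  haveI := hI.1
  have hrk : Module.finrank (ZMod 2) (Additive U) = 4 := finrank_linRep (hcard.trans (by norm_num))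
  obtain ⟨A, hAn, hAc, hmax⟩ := CfsgLib.Huppert.exists_maximal_abelian_normal (G := Y)
  haveI := hAn
  haveI := hAc
  haveI : NeZero (Nat.card A : ZMod 2) :=
    ⟨fun h0 => not_dvd_card_of_comm hρ hI A ((ZMod.natCast_eq_zero_iff _ _).1 h0)⟩
  rcases dichotomy (ρ := ρ) A with hF | ⟨⟨S⟩⟩
  · refine KB.of_card_le ?_
    obtain ⟨d, u, J, hkd, hu, hud, hpu, had, hX, hJ, -, -⟩ := field_bound hρ hI hs ⟨hAn, hAc, hmax⟩ hF
    rw [hrk] at hkd
    have hk4 : Module.finrank (ZMod 2) (algA ρ A) ≤ 4 := Nat.le_of_dvd (by norm_num) ⟨d, hkd.symm⟩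
    have hk0 : 0 < Module.finrank (ZMod 2) (algA ρ A) := by
      rcases Nat.eq_zero_or_pos (Module.finrank (ZMod 2) (algA ρ A)) with h0 | h0
      · rw [h0] at hkd; omega
      · exact h0
    generalize hk : Module.finrank (ZMod 2) (algA ρ A) = k at *
    interval_cases k
    · have hA1 := Nat.le_of_dvd (by norm_num) had
      obtain rfl : d = 4 := by omega
      have hu3 : u = 1 ∨ u = 3 := by omega
      rcases hu3 with rfl | rfl
      · exact (le_of_field hX le_rfl hA1 le_rfl hJ).trans (by decide)
      · -- a scalar group over `GF(2)` is trivial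
        exfalso
        have hA : A = ⊥ := Subgroup.card_eq_one.1 (le_antisymm hA1 Nat.card_pos)
        have htop : (⊤ : Subgroup Y) ≠ ⊥ := fun h1 => by
          have h2 : ∀ W : Subgroup U, W = ⊥ ∨ W = ⊤ := fun W => hirr W fun x w hw => by
            have hx : x = 1 := Subgroup.mem_bot.1 (h1 ▸ Subgroup.mem_top x)
            rw [hx]; exact hw
          obtain ⟨g, hg⟩ := exists_prime_orderOf_dvd_card' (G := U) 2 (by rw [hcard]; norm_num)
          rcases h2 (Subgroup.zpowers g) with h3 | h3
          · rw [Subgroup.zpowers_eq_bot] at h3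
            rw [h3, orderOf_one] at hg
            norm_num at hg
          · have h4 := Nat.card_zpowers g
            rw [h3, Subgroup.card_top, hg, hcard] at h4
            norm_num at h4
        haveI := hs
        obtain ⟨s, E, -, hEn, -, hE1, hEc, -⟩ := CfsgLib.Huppert.exists_elementary_le (⊤ : Subgroup Y) htop
        exact hE1 ((hmax E hEn ⟨⟨fun x y => Subtype.ext (hEc x x.2 y y.2)⟩⟩ (hA ▸ bot_le)).trans hA)
    · obtain rfl : u = 1 := by omega
      exact (le_of_field hX le_rfl (Nat.le_of_dvd (by norm_num) had) le_rfl hJ).trans (by decide)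
    · omega
    · obtain rfl : u = 1 := by omega
      have hA5 : Nat.card A ≤ 5 := by
        have h15 := Nat.le_of_dvd (by norm_num) had
        by_contra hgt
        have hA15 : Nat.card A = 15 := by
          norm_num at had h15
          interval_cases hc : Nat.card A <;> omega
        letI : Field (algA ρ A) := hF.toField
        let ι₀ : A →* algA ρ A :=
          { toFun := fun a => ⟨ρ a, rho_mem_algA a.2⟩
            map_one' := Subtype.ext (map_one ρ)
            map_mul' := fun a b => Subtype.ext (map_mul ρ (a : Y) b) }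
        have hι₀ : Function.Injective ι₀ := fun a b h => Subtype.ext (hρ (congrArg Subtype.val h))
        haveI : Finite (Module.End (ZMod 2) (Additive U)) :=
          Finite.of_injective _ DFunLike.coe_injective
        haveI : Finite (algA ρ A) := Finite.of_injective _ Subtype.val_injective
        haveI : IsCyclic A := isCyclic_of_injective_ringHom ι₀ hι₀
        obtain ⟨g, hg⟩ := IsCyclic.exists_ofOrder_eq_natCard (α := A)
        rw [hA15] at hg
        set t := ι₀ g with ht
        have hot : orderOf t = 15 := (orderOf_injective ι₀ hι₀ g).trans hg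
        haveI : Module.Finite (ZMod 2) (algA ρ A) := Module.Finite.of_finite
        set q := minpoly (ZMod 2) t with hq
        have hq0 : q ≠ 0 := minpoly.ne_zero (Algebra.IsIntegral.isIntegral t)
        have hdeg : q.natDegree ≤ 4 := (minpoly.natDegree_le t).trans hk.le
        have hroot : ∀ i : ℕ, aeval (t ^ 2 ^ i) q = 0 := by
          intro i
          induction i with
          | zero => rw [pow_zero, pow_one]; exact minpoly.aeval _ _
          | succ i ih =>
            have e := ZMod.expand_card q
            rw [pow_succ 2 i, pow_mul, ← Polynomial.expand_aeval 2 q, e, map_pow, ih, zero_pow two_ne_zero]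
        have hinv : aeval (t ^ 14) q = 0 := by
          have hT : aeval (ρ (g : Y)) q = 0 := by
            have := Polynomial.aeval_algHom_apply (algA ρ A).val t q
            rw [minpoly.aeval, map_zero] at this
            exact this
          have hTT : ∀ u v : Additive U, β (Additive.toMul (ρ (g : Y) u)) (Additive.toMul v) =
              β (Additive.toMul u) (Additive.toMul (ρ (g : Y)⁻¹ v)) := by
            intro u v
            rw [hρdef, linRep_apply, linRep_apply, toMul_ofMul, toMul_ofMul, Subgroup.coe_inv]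
            conv_lhs => rw [← MulAut.apply_inv_self _ ((g : Y) : MulAut U) (Additive.toMul v)]
            exact hiso (g : Y).2 _ _
          have hT' : aeval (ρ (g : Y)⁻¹) q = 0 := by
            refine LinearMap.ext fun v => ?_
            have h1 : Additive.toMul (aeval (ρ (g : Y)⁻¹) q v) = 1 := by
              refine h.nd _ fun w => h.comm_one ?_
              have h2 := adjoint_aeval _ _ hTT q (Additive.ofMul w) v
              rw [hT, LinearMap.zero_apply, toMul_zero, map_one, MonoidHom.one_apply] at h2
              exact h2.symm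
            exact h1
          have e14 : ρ (g : Y)⁻¹ = (algA ρ A).val (t ^ 14) := by
            have h15' : g ^ 15 = 1 := hg ▸ pow_orderOf_eq_one g
            have h2 : (g : Y)⁻¹ = (g : Y) ^ 14 := inv_eq_of_mul_eq_one_left (by
              rw [← pow_succ, ← Subgroup.coe_pow, h15']; rfl)
            rw [h2, map_pow, map_pow]; rfl
          rw [e14, Polynomial.aeval_algHom_apply] at hT'
          exact Subtype.ext hT'
        have hsub : ({t, t ^ 2, t ^ 4, t ^ 8, t ^ 14} : Finset (algA ρ A)) ⊆
            (q.aroots (algA ρ A)).toFinset := by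
          intro x hx
          simp only [Finset.mem_insert, Finset.mem_singleton] at hx
          rw [Multiset.mem_toFinset, mem_aroots]
          refine ⟨hq0, ?_⟩
          rcases hx with rfl | rfl | rfl | rfl | rfl
          · simpa using hroot 0
          · simpa using hroot 1
          · simpa using hroot 2
          · simpa using hroot 3
          · exact hinv
        have hne : ∀ i j : ℕ, i < 15 → j < 15 → i ≠ j → t ^ i ≠ t ^ j := fun i j hi hj hij he =>
          hij (pow_injOn_Iio_orderOf (x := t) (hot ▸ hi) (hot ▸ hj) he)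
        have h5 : ({t, t ^ 2, t ^ 4, t ^ 8, t ^ 14} : Finset (algA ρ A)).card = 5 := by
          have n1 := hne 1 2 (by norm_num) (by norm_num) (by norm_num)
          have n2 := hne 1 4 (by norm_num) (by norm_num) (by norm_num)
          have n3 := hne 1 8 (by norm_num) (by norm_num) (by norm_num)
          have n4 := hne 1 14 (by norm_num) (by norm_num) (by norm_num)
          have n5 := hne 2 4 (by norm_num) (by norm_num) (by norm_num)
          have n6 := hne 2 8 (by norm_num) (by norm_num) (by norm_num)
          have n7 := hne 2 14 (by norm_num) (by norm_num) (by norm_num)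
          have n8 := hne 4 8 (by norm_num) (by norm_num) (by norm_num)
          have n9 := hne 4 14 (by norm_num) (by norm_num) (by norm_num)
          have n10 := hne 8 14 (by norm_num) (by norm_num) (by norm_num)
          rw [pow_one] at n1 n2 n3 n4
          rw [Finset.card_insert_of_notMem (by simp [n1, n2, n3, n4]),
            Finset.card_insert_of_notMem (by simp [n5, n6, n7]),
            Finset.card_insert_of_notMem (by simp [n8, n9]),
            Finset.card_insert_of_notMem (by simp [n10]), Finset.card_singleton]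
        have h6 := (Finset.card_le_card hsub).trans (Multiset.toFinset_card_le _)
        have h7 : Multiset.card (q.aroots (algA ρ A)) ≤ 4 :=
          (card_roots' _).trans ((natDegree_map_le).trans hdeg)
        omega
      exact (le_of_field hX le_rfl hA5 le_rfl hJ).trans (by decide)
  · set i₀ : Fin S.m := ⟨0, by have := S.two; omega⟩
    have hdm := S.finrank_mul hI i₀
    rw [hrk] at hdm
    have hm := S.two
    have hm4 : S.m ≤ 4 := Nat.le_of_dvd (by norm_num) ⟨_, by rw [← hdm, mul_comm]⟩
    haveI := S.finite_blockGroup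
    have hd : ∀ i, Module.finrank (ZMod 2) (S.W i) = Module.finrank (ZMod 2) (S.W i₀) :=
      fun i => S.finrank_eq_of_irr hI i i₀
    rcases (by omega : S.m = 2 ∨ S.m = 3 ∨ S.m = 4) with hm2 | hm2 | hm2
    · refine (S.KB_of hρ (fun _ => 3) fun i => KB.block_two ?_ _).mono ?_
      · rw [hd]; rw [hm2] at hdm; omega
      · rw [Finset.prod_const, Finset.card_univ, Fintype.card_fin, hm2]; norm_num
    · rw [hm2] at hdm; omega
    · refine KB.of_card_le ((S.card_le hρ (fun _ => 1) fun i => ?_).trans ?_)
      · exact bnd_two_one _ _ (S.tautRep i) (S.tautRep_injective i) (S.irr_tautRep hI i)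
          (S.isSolvable_blockGroup hs i) (by rw [hd]; rw [hm2] at hdm; omega)
      · rw [Finset.prod_const, one_pow, one_mul, hm2]
        decide

theorem symp_all (n : ℕ) : SympGoal n := by
  induction n using Nat.strong_induction_on with
  | _ n ih =>
  intro U _ _ K _ β Y h hiso hani hs hn
  classical
  haveI := finite_mulAut U
  haveI : Finite Y := Subtype.finite
  rcases subsingleton_or_nontrivial U with hU | hU
  · refine ⟨1, by rw [← hn, Nat.card_of_subsingleton 1], ?_, by omega, by omega⟩
    haveI : Subsingleton (MulAut U) := ⟨fun a b => MulEquiv.ext fun x => Subsingleton.elim _ _⟩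
    refine KB.of_card_le ?_
    simp [Nat.card_of_subsingleton (1 : Y)]
  by_cases hirr : ∀ W : Subgroup U, Stable Y W → W = ⊥ ∨ W = ⊤
  swap
  · push Not at hirr
    obtain ⟨W, hW, hW1, hWt⟩ := hirr
    exact symp_split n ih h hiso hani hs hn hW hW1 hWt
  set p := (Nat.card U).minFac with hpdef
  have hp : p.Prime := Nat.minFac_prime (by
    have := Finite.one_lt_card (α := U)
    omega)
  haveI := Fact.mk hp
  have hexp : ∀ u : U, u ^ p = 1 := by
    rcases hirr (powMonoidHom p : U →* U).ker (fun y w hw => by
        rw [MonoidHom.mem_ker, powMonoidHom_apply] at hw ⊢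
        rw [← map_pow, hw, map_one]) with h0 | h0
    · exfalso
      obtain ⟨g, hg⟩ := exists_prime_orderOf_dvd_card' (G := U) p (Nat.minFac_dvd _)
      have h1 : g ∈ (powMonoidHom p : U →* U).ker := by
        rw [MonoidHom.mem_ker, powMonoidHom_apply, ← hg, pow_orderOf_eq_one]
      rw [h0, Subgroup.mem_bot] at h1
      rw [h1, orderOf_one] at hg
      exact hp.ne_one hg.symm
    · intro u
      have h1 : u ∈ (powMonoidHom p : U →* U).ker := h0 ▸ Subgroup.mem_top u
      rwa [MonoidHom.mem_ker, powMonoidHom_apply] at h1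
  obtain ⟨a, ha, hcard⟩ := card_isom_le h hexp
  have hYc : Nat.card Y ≤ p ^ (a * (2 * a + 1)) :=
    (Nat.card_le_card_of_injective _ (Subgroup.inclusion_injective hiso)).trans hcard
  have ha1 : 1 ≤ a := by
    by_contra hh
    obtain rfl : a = 0 := by omega
    have := Finite.one_lt_card (α := U)
    rw [ha] at this
    simp at this
  letI : Module (ZMod p) (Additive U) := AddCommGroup.zmodModule fun x => hexp (Additive.toMul x)
  haveI : Finite (Additive U) := inferInstanceAs (Finite U)
  have hrk : Module.finrank (ZMod p) (Additive U) = 2 * a := finrank_linRep ha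
  have hbnd : ∀ b, Bnd p (2 * a) b → Nat.card Y ≤ b := fun b hb =>
    hb (Additive U) Y (linRep Y) (linRep_injective Y) (linRep_irr Y hirr) hs hrk
  refine ⟨p ^ a, by rw [← hn, ha, two_mul, pow_add], ?_, ?_, ?_⟩
  · by_cases h22 : p = 2 ∧ a = 2
    · obtain ⟨h2, rfl⟩ := h22
      letI : Module (ZMod 2) (Additive U) :=
        AddCommGroup.zmodModule fun x => (h2 ▸ hexp (Additive.toMul x) : Additive.toMul x ^ 2 = 1)
      exact (kb_two_two h hiso hirr hs (by rw [ha, h2]; norm_num)).mono (by rw [h2]; norm_num)
    by_cases hsmall : a = 1 ∧ p ≤ 5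
    · obtain ⟨rfl, hp5⟩ := hsmall
      have hc2 : Nat.card U = p ^ 2 := ha
      have hp2 := hp.two_le
      obtain ⟨f, hf⟩ := exists_sl_hom h hexp hc2
      let F := f.comp (Subgroup.inclusion hiso)
      have hF : Function.Injective F := hf.comp (Subgroup.inclusion_injective hiso)
      rcases (by
        rcases (show p = 2 ∨ p = 3 ∨ p = 4 ∨ p = 5 by omega) with h1 | h1 | h1 | h1
        · exact Or.inl h1
        · exact Or.inr (Or.inl h1)
        · exact absurd (h1 ▸ hp) (by norm_num)
        · exact Or.inr (Or.inr h1) : p = 2 ∨ p = 3 ∨ p = 5) with h1 | h1 | h1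
      · refine (KB.of_injective Y.subtype Y.subtype_injective (KB.mulAut_four (by rw [hc2, h1]; norm_num))).mono ?_
        rw [h1]; norm_num
      · clear_value p
        subst h1
        exact (KB.of_injective F hF KB.sl_three).mono (by norm_num)
      · clear_value p
        subst h1
        refine KB.of_card_le ?_
        haveI := hs
        have := card_le_of_isSolvable_sl_five F.range (Group.isSolvable_of_surjective F.rangeRestrict_surjective)
        exact (Nat.card_le_card_of_injective F.rangeRestrict
          (fun x y hxy => hF (congrArg Subtype.val hxy))).trans (this.trans (by norm_num))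
    refine KB.of_card_le ?_
    rcases good_cases hp ha1 with hg | ⟨h2, ha5⟩ | ⟨h3, ha3⟩ | ⟨h5, rfl⟩
    · exact hYc.trans hg
    · clear_value p
      subst h2
      rcases (by omega : a = 3 ∨ a = 4 ∨ a = 5) with rfl | rfl | rfl
      · exact (hbnd _ bnd_two_six).trans (by norm_num)
      · exact (hbnd _ bnd_two_eight).trans (by norm_num)
      · exact (hbnd _ bnd_two_ten).trans (by norm_num)
    · clear_value p
      subst h3
      obtain rfl : a = 2 := by omega
      refine (hbnd _ (bnd_three_four fun U' _ _ K' _ β' Y' i1 i2 i3 i4 i5 => ?_)).trans (by norm_num)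
      obtain ⟨m, hm, -, h72, -⟩ := ih 16 (by rw [← hn, ha]; norm_num) U' K' β' Y' i1 i2 i3 i4 i5
      refine h72 ?_
      have h1 : m * m = 4 * 4 := by rw [← hm]
      exact Nat.mul_self_inj.1 h1
    · omega
  · intro h4
    have hh : p = 2 ∧ a = 2 := by
      have hd : p ∣ 2 ^ 2 := by
        rw [show (2 : ℕ) ^ 2 = p ^ a by rw [h4]; norm_num]
        exact dvd_pow_self p (by omega)
      have h2 : p = 2 := (Nat.prime_dvd_prime_iff_eq hp Nat.prime_two).1 (hp.dvd_of_dvd_pow hd)
      refine ⟨h2, Nat.pow_right_injective (le_refl 2) ?_⟩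
      show 2 ^ a = 2 ^ 2
      rw [← h2, h4, h2]
    obtain ⟨h2, rfl⟩ := hh
    clear_value p
    subst h2
    exact hbnd _ bnd_two_four
  · intro h4
    have h1 : Nat.card U = 4 := by
      rw [ha, two_mul, pow_add, h4]
      all_goals norm_num
    refine (Subgroup.card_le_card_group _).trans (card_mulAut_le.trans (le_of_eq ?_))
    rw [h1]
    rfl

theorem fourBound : FourBound := fun U _ _ K _ β Y i1 i2 i3 i4 i5 => by
  obtain ⟨m, hm, -, h72, -⟩ := symp_all 16 U K β Y i1 i2 i3 i4 i5
  exact h72 (Nat.mul_self_inj.1 (hm.symm.trans (by norm_num)))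

end CfsgLib.LinClasses
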