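import Cfsg.Agent.LinClasses.ClassCount
import Cfsg.Agent.LinClasses.SympTheorem
import Cfsg.Agent.SolvableStructure.Maschke
import Mathlib.GroupTheory.SchurZassenhaus

/-!
# Reduction for the class number of groups of order divisible by `p ^ 2`
-/

set_option autoImplicit false
set_option linter.style.haveILetI false

namespace CfsgLib.LinClasses

open scoped commutatorElement

variable {G : Type} [Group G] [Finite G]

theorem crit {p k kH h x W Q : ℕ} (hk : k = kH + x) (hW : h ≤ W * kH) (hQ : Q ≤ x * h + 1)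
    (hW0 : 0 < W) (hc : 2401 * (p * p) * W + 14400 ≤ 14400 * Q) : 49 * p ≤ 60 * k := by
  refine Nat.mul_self_le_mul_self_iff.1 (Nat.le_of_mul_le_mul_right ?_ hW0)
  have h2 : x * h ≤ x * (W * kH) := Nat.mul_le_mul_left x hW
  have h1 : 4 * (kH * x) ≤ k * k := by
    subst hk
    nlinarith [sq_nonneg ((kH : ℤ) - x)]
  calc 49 * p * (49 * p) * W = 2401 * (p * p) * W := by ring
    _ ≤ 14400 * (x * h) := by omega
    _ ≤ 14400 * (x * (W * kH)) := Nat.mul_le_mul_left _ h2
    _ = 3600 * (4 * (kH * x)) * W := by ring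
    _ ≤ 3600 * (k * k) * W := Nat.mul_le_mul_right _ (Nat.mul_le_mul_left _ h1)
    _ = 60 * k * (60 * k) * W := by ring

/-- Conjugation on a normal subgroup centralised by `N`. -/
noncomputable def conjQuot (N M : Subgroup G) [N.Normal] [M.Normal]
    (h : N ≤ Subgroup.centralizer (M : Set G)) : G ⧸ N →* (⊤ : Subgroup (MulAut M)) :=
  QuotientGroup.lift N ((MulAut.conjNormal (H := M)).codRestrict ⊤ fun _ => Subgroup.mem_top _)
    fun n hn => Subtype.ext (MulEquiv.ext fun m => Subtype.ext (by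
      simp [← Subgroup.mem_centralizer_iff.1 (h hn) m m.2]))

theorem conjQuot_mk (N M : Subgroup G) [N.Normal] [M.Normal]
    (h : N ≤ Subgroup.centralizer (M : Set G)) (g : G) (m : M) :
    (((conjQuot N M h (QuotientGroup.mk g) : (⊤ : Subgroup (MulAut M))) : MulAut M) m : G) =
      g * m * g⁻¹ := rfl

theorem conjQuot_injective (N M : Subgroup G) [N.Normal] [M.Normal]
    (h : N ≤ Subgroup.centralizer (M : Set G)) (h' : Subgroup.centralizer (M : Set G) ≤ N) :
    Function.Injective (conjQuot N M h) := by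
  refine (injective_iff_map_eq_one _).2 fun q hq => ?_
  obtain ⟨g, rfl⟩ := QuotientGroup.mk_surjective q
  refine (QuotientGroup.eq_one_iff g).2 (h' (Subgroup.mem_centralizer_iff.2 fun m hm => ?_))
  have h1 := congrArg (fun y : (⊤ : Subgroup (MulAut M)) => (((y : MulAut M) ⟨m, hm⟩ : M) : G)) hq
  have h2 : g * m * g⁻¹ = m := h1
  conv_lhs => rw [← h2]
  group

theorem commutator_centralizes {Q : Type} [Group Q] [Finite Q] (N : Subgroup Q) [N.Normal]
    (hN : (Nat.card N).Prime) (g h : Q) : ∀ x ∈ N, ⁅g, h⁆ * x * ⁅g, h⁆⁻¹ = x := by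
  intro x hx
  haveI := Fact.mk hN
  haveI : IsCyclic N := isCyclic_of_prime_card (α := N) rfl
  have hcomm : ∀ a b : MulAut N, a * b = b * a := fun a b => by
    apply (IsCyclic.mulAutMulEquiv N).injective
    rw [map_mul, map_mul, mul_comm]
  have h1 : MulAut.conjNormal (H := N) ⁅g, h⁆ = 1 := by
    rw [map_commutatorElement]
    exact commutatorElement_eq_one_iff_mul_comm.2 (hcomm _ _)
  exact congrArg Subtype.val (DFunLike.congr_fun h1 ⟨x, hx⟩)

/-- A central normal `p`-subgroup of index prime to `p` is everything, if there are no normal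
`p'`-subgroups. -/
theorem eq_of_central_sylow {p n : ℕ} [hp : Fact p.Prime]
    (hno : ∀ N : Subgroup G, N.Normal → ¬ p ∣ Nat.card N → N = ⊥) {V M : Subgroup G}
    (hM : M.Normal) (hVM : V ≤ M) (hcard : Nat.card V = p ^ n)
    (hcen : M ≤ Subgroup.centralizer (V : Set G)) (hidx : ¬ p ∣ V.relIndex M) : M = V := by
  set V' := V.subgroupOf M with hV'
  have hc : ∀ v ∈ V', ∀ x : M, v * x = x * v := fun v hv x =>
    Subtype.ext (Subgroup.mem_centralizer_iff.1 (hcen x.2) _ hv)
  haveI : V'.Normal := ⟨fun v hv x => by rwa [← hc v hv x, mul_inv_cancel_right]⟩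
  have hcard' : Nat.card V' = p ^ n :=
    (Nat.card_congr (Subgroup.subgroupOfEquivOfLe hVM).toEquiv).trans hcard
  have hco : Nat.Coprime (Nat.card V') V'.index := by
    rw [hcard']
    exact Nat.Coprime.pow_left _ ((Nat.Prime.coprime_iff_not_dvd hp.out).2 hidx)
  obtain ⟨K, hK⟩ := Subgroup.exists_right_complement'_of_coprime hco
  set m := Nat.card K with hm
  have hmidx : V'.index = m := (Subgroup.IsComplement'.symm hK).index_eq_card
  have hKchar : ∀ x : M, x ∈ K ↔ x ^ m = 1 := by
    intro x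
    refine ⟨fun hx => ?_, fun hx => ?_⟩
    · have h1 := congrArg Subtype.val (pow_card_eq_one' (x := (⟨x, hx⟩ : K)))
      rwa [SubmonoidClass.coe_pow, OneMemClass.coe_one] at h1
    · obtain ⟨⟨v, k⟩, hvk⟩ := hK.2 x
      simp only at hvk
      have hk : (k : M) ^ m = 1 := by
        have h1 := congrArg Subtype.val (pow_card_eq_one' (x := k))
        rwa [SubmonoidClass.coe_pow, OneMemClass.coe_one] at h1
      have hv : (v : M) = 1 := by
        have h2 : Commute (v : M) k := hc _ v.2 _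
        rw [← hvk, h2.mul_pow, hk, mul_one] at hx
        have h3 : (v : M) ^ Nat.card V' = 1 := by
          have h1 := congrArg Subtype.val (pow_card_eq_one' (x := v))
          rwa [SubmonoidClass.coe_pow, OneMemClass.coe_one] at h1
        have h4 := pow_gcd_eq_one.2 ⟨h3, hx⟩
        rwa [← hmidx, hco, pow_one] at h4
      rw [← hvk, hv, one_mul]
      exact k.2
  have hn : (K.map M.subtype).Normal := ⟨by
    rintro _ ⟨x, hx, rfl⟩ g
    refine ⟨⟨g * x * g⁻¹, hM.conj_mem _ x.2 g⟩, (hKchar _).2 (Subtype.ext ?_), rfl⟩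
    have h1 := congrArg Subtype.val ((hKchar x).1 hx)
    simp only [Subgroup.coe_pow, OneMemClass.coe_one] at h1 ⊢
    rw [conj_pow, h1, mul_one, mul_inv_cancel]⟩
  have hK1 : K.map M.subtype = ⊥ := hno _ hn (by
    rw [Subgroup.card_map_of_injective M.subtype_injective, ← hm, ← hmidx]
    exact hidx)
  rw [Subgroup.map_eq_bot_iff_of_injective _ M.subtype_injective] at hK1
  refine le_antisymm (fun x hx => ?_) hVM
  obtain ⟨⟨v, k⟩, hvk⟩ := hK.2 ⟨x, hx⟩
  have hk : (k : M) = 1 := Subgroup.mem_bot.1 (hK1 ▸ k.2)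
  simp only [hk, mul_one] at hvk
  have h5 := v.2
  rw [hvk] at h5
  exact h5

/-- A normal self-centralising Sylow subgroup of order `p ^ 2`. -/
theorem classes_order_sq {p : ℕ} [hp : Fact p.Prime] {P V : Subgroup G} [P.Normal] [V.Normal]
    (hP : Nat.card P = p ^ 2) (hidx : ¬ p ∣ P.index) (hVP : V ≤ P) (hV : Nat.card V = p)
    (hC : Subgroup.centralizer (P : Set G) = P) : 49 * p ≤ 60 * Nat.card (ConjClasses G) := by
  haveI : IsMulCommutative P :=
    ⟨⟨fun a b => Subtype.ext ((Subgroup.mem_centralizer_iff.1 (hC.ge b.2)) _ a.2)⟩⟩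
  have hcomm : ∀ g h : G, ⁅g, h⁆ ∈ P := by
    intro g h
    set c := ⁅g, h⁆ with hc
    haveI : (P.map (QuotientGroup.mk' V)).Normal :=
      (inferInstance : P.Normal).map _ (QuotientGroup.mk'_surjective V)
    have hPV : (Nat.card (P.map (QuotientGroup.mk' V))).Prime := by
      have h1 : Nat.card P = Nat.card V * Nat.card (P.map (QuotientGroup.mk' V)) := by
        rw [← Subgroup.relIndex_ker, QuotientGroup.ker_mk', ← Subgroup.card_mul_index (V.subgroupOf P),
          Nat.card_congr (Subgroup.subgroupOfEquivOfLe hVP).toEquiv]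
        rfl
      rw [hP, hV, pow_two] at h1
      rw [← Nat.eq_of_mul_eq_mul_left hp.out.pos h1]
      exact hp.out
    have hcV := commutator_centralizes V (hV.symm ▸ hp.out) g h
    have hcp : c ^ p ∈ Subgroup.centralizer (P : Set G) := by
      refine Subgroup.mem_centralizer_iff.2 fun x hx => ?_
      have h1 := commutator_centralizes (P.map (QuotientGroup.mk' V)) hPV (QuotientGroup.mk' V g)
        (QuotientGroup.mk' V h) _ (Subgroup.mem_map_of_mem _ hx)
      rw [← map_commutatorElement, ← hc, ← map_mul, ← map_inv, ← map_mul] at h1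
      set v := x⁻¹ * (c * x * c⁻¹) with hv
      have hvV : v ∈ V := QuotientGroup.eq.1 h1.symm
      have hxv : c * x * c⁻¹ = x * v := by rw [hv, mul_inv_cancel_left]
      have hpow : ∀ i : ℕ, c ^ i * x * (c ^ i)⁻¹ = x * v ^ i := by
        intro i
        induction i with
        | zero => simp
        | succ i ih =>
          have h2 : c * v ^ i * c⁻¹ = v ^ i := hcV _ (pow_mem hvV i)
          calc c ^ (i + 1) * x * (c ^ (i + 1))⁻¹ = c * (c ^ i * x * (c ^ i)⁻¹) * c⁻¹ := by
                rw [pow_succ']; group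
            _ = (c * x * c⁻¹) * (c * v ^ i * c⁻¹) := by rw [ih]; group
            _ = x * v ^ (i + 1) := by rw [hxv, h2, pow_succ', mul_assoc]
      have hvp : v ^ p = 1 := by
        have h2 := congrArg Subtype.val (pow_card_eq_one' (x := (⟨v, hvV⟩ : V)))
        rw [hV] at h2
        simpa using h2
      have h3 := hpow p
      rw [hvp, mul_one, mul_inv_eq_iff_eq_mul] at h3
      exact h3.symm
    rw [hC] at hcp
    rw [← QuotientGroup.eq_one_iff]
    have h1 : ((c : G) : G ⧸ P) ^ p = 1 := by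
      rw [← QuotientGroup.mk_pow]; exact (QuotientGroup.eq_one_iff _).2 hcp
    have h2 : ((c : G) : G ⧸ P) ^ P.index = 1 := by
      rw [Subgroup.index_eq_card]; exact pow_card_eq_one'
    have h4 := pow_gcd_eq_one.2 ⟨h1, h2⟩
    rwa [(Nat.Prime.coprime_iff_not_dvd hp.out).2 hidx, pow_one] at h4
  obtain ⟨x, hx, hle⟩ := classes_abelian_normal P
  have hH : ∀ a b : G ⧸ P, a * b = b * a := fun a b => by
    induction a using QuotientGroup.induction_on with
    | H g => induction b using QuotientGroup.induction_on with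
      | H h =>
        rw [← commutatorElement_eq_one_iff_mul_comm]
        exact (map_commutatorElement (QuotientGroup.mk' P) g h).symm.trans
          ((QuotientGroup.eq_one_iff _).2 (hcomm g h))
  rw [Subgroup.index_eq_card, hP] at hle
  have h1 : Nat.card (G ⧸ P) ≤ 1 * Nat.card (ConjClasses (G ⧸ P)) := Com.of_comm hH
  refine crit hx h1 hle one_pos ?_
  rw [← pow_two]
  have h4 : 2 ^ 2 ≤ p ^ 2 := Nat.pow_le_pow_left hp.out.two_le 2
  omega

/-- Invariant complements in multiplicative form. -/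
theorem exists_stable_disjoint {p : ℕ} [Fact p.Prime] {U : Type} [CommGroup U] [Finite U]
    [Module (ZMod p) (Additive U)] {A : Type} [Group A] [Finite A] (φ : A →* (⊤ : Subgroup (MulAut U)))
    (hA : ¬ p ∣ Nat.card A) (V : Subgroup U) (hV : ∀ a, ∀ v ∈ V, (φ a : MulAut U) v ∈ V)
    (hVt : V ≠ ⊤) :
    ∃ W : Subgroup U, (∀ a, ∀ w ∈ W, (φ a : MulAut U) w ∈ W) ∧ V ⊓ W = ⊥ ∧ W ≠ ⊥ := by
  let R : Representation (ZMod p) (⊤ : Subgroup (MulAut U)) (Additive U) := linRep (p := p) _
  let L : A →* Module.End (ZMod p) (Additive U) :=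
    { toFun := fun a => R (φ a)
      map_one' := by rw [map_one, map_one]
      map_mul' := fun a b => by rw [map_mul, map_mul] }
  let M₀ : Submodule (ZMod p) (Additive U) := AddSubgroup.toZModSubmodule p V.toAddSubgroup
  obtain ⟨K, hK, hdisj, hK0⟩ := CfsgLib.Averaging.exists_invariant_disjoint L hA M₀
    (fun a w hw => hV a _ hw) (fun ht => hVt (eq_top_iff.2 fun u _ =>
      (show Additive.ofMul u ∈ M₀ from ht ▸ Submodule.mem_top)))
  let W : Subgroup U :=
    { carrier := {x | Additive.ofMul x ∈ K}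
      one_mem' := K.zero_mem
      mul_mem' := fun ha hb => K.add_mem ha hb
      inv_mem' := fun ha => K.neg_mem ha }
  refine ⟨W, fun a w hw => hK a _ hw, eq_bot_iff.2 fun x hx => ?_, fun h => ?_⟩
  · have h1 : Additive.ofMul x ∈ M₀ ⊓ K := ⟨hx.1, hx.2⟩
    rw [hdisj, Submodule.mem_bot] at h1
    exact Subgroup.mem_bot.2 h1
  · refine hK0 ((Submodule.eq_bot_iff K).2 fun w hw => ?_)
    have h1 : Additive.toMul w ∈ W := hw
    rw [h, Subgroup.mem_bot] at h1
    exact h1

/-- No normal subgroup of order `p ^ (n + 1)` over a minimal one of order `p ^ n`, `2 ≤ n`. -/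
theorem no_larger {p n : ℕ} [hp : Fact p.Prime] (hn : 2 ≤ n)
    (hred : ∀ N : Subgroup G, N.Normal → N ≠ ⊥ → ¬ p ^ 2 ∣ N.index) {V M : Subgroup G} [V.Normal]
    [M.Normal] (hVcard : Nat.card V = p ^ n) (hVexp : ∀ v ∈ V, v ^ p = 1)
    (hmin : ∀ W : Subgroup G, W.Normal → W ≤ V → W = ⊥ ∨ W = V) (hVM : V ≤ M)
    (hMcard : Nat.card M = p ^ (n + 1)) (hidx : ¬ p ∣ M.index) (hMc : ∀ a ∈ M, ∀ b ∈ M, a * b = b * a) :
    False := by
  classical
  letI : CommGroup M :=
    { (inferInstance : Group M) with mul_comm := fun a b => Subtype.ext (hMc _ a.2 _ b.2) }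
  have hrel : Nat.card (M ⧸ V.subgroupOf M) = p := by
    have h1 := (V.subgroupOf M).card_mul_index
    rw [Nat.card_congr (Subgroup.subgroupOfEquivOfLe hVM).toEquiv, hMcard, hVcard, pow_succ,
      Subgroup.index_eq_card] at h1
    exact Nat.eq_of_mul_eq_mul_left (pow_pos hp.out.pos n) h1
  obtain ⟨m, hm⟩ : ∃ m : M, (m : G) ∉ V := by
    by_contra! hh
    have h1 : Nat.card M ≤ Nat.card V := Nat.card_le_card_of_injective
      (fun m : M => (⟨m, hh m⟩ : V)) fun a b h => Subtype.ext (congrArg (fun z : V => (z : G)) h)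
    rw [hMcard, hVcard] at h1
    exact absurd h1 (not_le.2 (Nat.pow_lt_pow_right hp.out.one_lt (by omega)))
  have hgen : ∀ x : M, ∃ i : ℕ, (m ^ i)⁻¹ * x ∈ V.subgroupOf M := by
    intro x
    have hne : (m : M ⧸ V.subgroupOf M) ≠ 1 := fun h => hm ((QuotientGroup.eq_one_iff m).1 h)
    obtain ⟨i, hi⟩ := mem_powers_of_prime_card hrel hne (g' := (x : M ⧸ V.subgroupOf M))
    refine ⟨i, QuotientGroup.eq.1 ?_⟩
    rw [QuotientGroup.mk_pow]
    exact hi
  have hmp : (m : G) ^ p ∈ V := by
    have h1 : (m : M ⧸ V.subgroupOf M) ^ Nat.card (M ⧸ V.subgroupOf M) = 1 := pow_card_eq_one'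
    rw [hrel, ← QuotientGroup.mk_pow, QuotientGroup.eq_one_iff, Subgroup.mem_subgroupOf] at h1
    simpa using h1
  have hxp : ∀ x : M, ∃ i : ℕ, (x : G) ^ p = ((m : G) ^ p) ^ i := by
    intro x
    obtain ⟨i, hi⟩ := hgen x
    refine ⟨i, ?_⟩
    have h1 : x = m ^ i * ((m ^ i)⁻¹ * x) := (mul_inv_cancel_left _ _).symm
    have h2 : ((m ^ i)⁻¹ * x) ^ p = 1 := Subtype.ext (by
      rw [Subgroup.coe_pow]; exact hVexp _ hi)
    have h3 : x ^ p = (m ^ p) ^ i := by
      rw [h1, mul_pow, h2, mul_one, ← pow_mul, mul_comm, pow_mul]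
    simpa using congrArg Subtype.val h3
  let T : Subgroup G := ((powMonoidHom p : M →* M).range).map M.subtype
  have hTn : T.Normal := ⟨by
    rintro _ ⟨_, ⟨x, rfl⟩, rfl⟩ g
    refine ⟨_, ⟨⟨g * x * g⁻¹, (inferInstance : M.Normal).conj_mem _ x.2 g⟩, rfl⟩, ?_⟩
    simp [conj_pow]⟩
  have hTV : T ≤ V := by
    rintro _ ⟨_, ⟨x, rfl⟩, rfl⟩
    obtain ⟨i, hi⟩ := hxp x
    show ((x ^ p : M) : G) ∈ V
    rw [Subgroup.coe_pow, hi]
    exact pow_mem hmp i
  have hexp : ∀ x : M, x ^ p = 1 := by
    rcases hmin T hTn hTV with h | h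
    · intro x
      refine Subtype.ext (Subgroup.mem_bot.1 (h ▸ ?_ : ((x ^ p : M) : G) ∈ (⊥ : Subgroup G)))
      exact ⟨x ^ p, ⟨x, rfl⟩, rfl⟩
    · exfalso
      have h2 : T ≤ Subgroup.zpowers ((m : G) ^ p) := by
        rintro _ ⟨_, ⟨x, rfl⟩, rfl⟩
        obtain ⟨i, hi⟩ := hxp x
        show ((x ^ p : M) : G) ∈ _
        rw [Subgroup.coe_pow, hi]
        exact pow_mem (Subgroup.mem_zpowers _) i
      have h3 := Nat.card_le_card_of_injective _ (Subgroup.inclusion_injective h2)
      rw [h, hVcard, Nat.card_zpowers] at h3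
      have h4 : orderOf ((m : G) ^ p) ≤ p := orderOf_le_of_pow_eq_one hp.out.pos (hVexp _ hmp)
      have h5 : p < p ^ n := by simpa using Nat.pow_lt_pow_right hp.out.one_lt hn
      omega
  letI : Module (ZMod p) (Additive M) := AddCommGroup.zmodModule fun x => hexp (Additive.toMul x)
  have hMM : M ≤ Subgroup.centralizer (M : Set G) := fun a ha =>
    Subgroup.mem_centralizer_iff.2 fun b hb => hMc b hb a ha
  obtain ⟨W, hWs, hdisj, hW0⟩ := exists_stable_disjoint (conjQuot M M hMM)
    (by rwa [← Subgroup.index_eq_card]) (V.subgroupOf M) (fun a w hw => by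
      obtain ⟨g, rfl⟩ := QuotientGroup.mk_surjective a
      rw [Subgroup.mem_subgroupOf, conjQuot_mk]
      exact (inferInstance : V.Normal).conj_mem _ hw g)
    (fun ht => hm (ht ▸ Subgroup.mem_top m : m ∈ V.subgroupOf M))
  have hWn : (W.map M.subtype).Normal := ⟨by
    rintro _ ⟨x, hx, rfl⟩ g
    exact ⟨_, hWs (QuotientGroup.mk g) x hx, rfl⟩⟩
  have hW1 : W.map M.subtype ≠ ⊥ := fun h => hW0
    ((Subgroup.map_eq_bot_iff_of_injective _ M.subtype_injective).1 h)
  have hWle : Nat.card (W.map M.subtype) ≤ p := by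
    rw [Subgroup.card_map_of_injective M.subtype_injective, ← hrel]
    refine Nat.card_le_card_of_injective (fun x : W => ((x : M) : M ⧸ V.subgroupOf M)) fun x y h => ?_
    have h1 : (x : M)⁻¹ * y ∈ V.subgroupOf M ⊓ W :=
      ⟨QuotientGroup.eq.1 h, W.mul_mem (W.inv_mem x.2) y.2⟩
    rw [hdisj, Subgroup.mem_bot] at h1
    exact Subtype.ext (inv_mul_eq_one.1 h1)
  refine hred _ hWn hW1 ?_
  have h1 : p ^ (n + 1) ∣ Nat.card (W.map M.subtype) * (W.map M.subtype).index := by
    rw [Subgroup.card_mul_index, ← hMcard]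
    exact Subgroup.card_subgroup_dvd_card M
  obtain ⟨w, hw, hwc⟩ : ∃ w ≤ 1, Nat.card (W.map M.subtype) = p ^ w := by
    have h2 : Nat.card (W.map M.subtype) ∣ p ^ (n + 1) := by
      rw [← hMcard, Subgroup.card_map_of_injective M.subtype_injective]
      exact Subgroup.card_subgroup_dvd_card W
    obtain ⟨w, -, hw⟩ := (Nat.dvd_prime_pow hp.out).1 h2
    refine ⟨w, ?_, hw⟩
    rw [hw] at hWle
    exact (Nat.pow_le_pow_iff_right hp.out.one_lt).1 (hWle.trans (le_of_eq (pow_one p).symm))
  rw [hwc] at h1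
  have h2 : p ^ w * p ^ (n + 1 - w) ∣ p ^ w * (W.map M.subtype).index := by
    rw [← pow_add]
    have e : w + (n + 1 - w) = n + 1 := by omega
    rwa [e]
  exact (pow_dvd_pow p (by omega : 2 ≤ n + 1 - w)).trans
    (Nat.dvd_of_mul_dvd_mul_left (pow_pos hp.out.pos w) h2)

/-- The structure of a counterexample all of whose proper quotients are small. -/
theorem reduce {p : ℕ} [hp : Fact p.Prime] [Group.IsSolvable G] (hdvd : p ^ 2 ∣ Nat.card G)
    (hred : ∀ N : Subgroup G, N.Normal → N ≠ ⊥ → ¬ p ^ 2 ∣ N.index) :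
    49 * p ≤ 60 * Nat.card (ConjClasses G) ∨
      ∃ (V : Subgroup G) (_ : V.Normal) (n : ℕ), 2 ≤ n ∧ Nat.card V = p ^ n ∧
        (∀ v ∈ V, v ^ p = 1) ∧ IsMulCommutative V ∧ Subgroup.centralizer (V : Set G) = V ∧
        ∀ W : Subgroup G, W.Normal → W ≤ V → W = ⊥ ∨ W = V := by
  classical
  haveI : Nontrivial G := by
    refine Finite.one_lt_card_iff_nontrivial.1 ?_
    have h1 := Nat.le_of_dvd Nat.card_pos hdvd
    have h2 := Nat.one_lt_pow (n := 2) (by norm_num) hp.out.one_lt
    omega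
  obtain ⟨V, hV⟩ := (Set.toFinite {N : Subgroup G | N.Normal ∧ N ≠ ⊥}).exists_minimal
    ⟨⊤, (inferInstance : (⊤ : Subgroup G).Normal), top_ne_bot⟩
  obtain ⟨hVn, hV1⟩ := hV.prop
  haveI := hVn
  have hmin : ∀ W : Subgroup G, W.Normal → W ≤ V → W = ⊥ ∨ W = V := fun W hW hle =>
    or_iff_not_imp_left.2 fun h => le_antisymm hle (hV.2 ⟨hW, h⟩ hle)
  obtain ⟨s, E, hs, hEn, hEV, hE1, hEc, hEs⟩ := CfsgLib.Huppert.exists_elementary_le V hV1
  obtain rfl : E = V := (hmin E hEn hEV).resolve_left hE1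
  have hno : ∀ N : Subgroup G, N.Normal → ¬ p ∣ Nat.card N → N = ⊥ := by
    intro N hN hpN
    by_contra hne
    refine hred N hN hne ?_
    have h1 : p ^ 2 ∣ Nat.card N * N.index := by rw [N.card_mul_index]; exact hdvd
    exact ((Nat.Coprime.pow_left 2 ((Nat.Prime.coprime_iff_not_dvd hp.out).2 hpN))).dvd_of_dvd_mul_left h1
  haveI := Fact.mk hs
  obtain ⟨n, hn⟩ := (IsPGroup.iff_card (p := s) (G := E)).1 fun x => ⟨1, Subtype.ext (by
    rw [pow_one, SubmonoidClass.coe_pow, hEs _ x.2]; rfl)⟩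
  obtain rfl : s = p := by
    by_contra hne
    refine hV1 (hno E hEn fun h => hne ?_)
    rw [hn] at h
    exact ((Nat.prime_dvd_prime_iff_eq hp.out hs).1 (hp.out.dvd_of_dvd_pow h)).symm
  have hn0 : 1 ≤ n := by
    by_contra h
    obtain rfl : n = 0 := by omega
    exact hV1 (Subgroup.card_eq_one.1 (by rw [hn, pow_zero]))
  set C := Subgroup.centralizer (E : Set G) with hC
  haveI : C.Normal := by rw [hC]; infer_instance
  have hEC : E ≤ C := fun a ha => Subgroup.mem_centralizer_iff.2 fun b hb => hEc b hb a ha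
  have hVidx : ¬ s ^ 2 ∣ E.index := hred E hEn hV1
  by_cases hrel : s ∣ E.relIndex C
  swap
  · have hCE : C = E := eq_of_central_sylow hno inferInstance hEC hn le_rfl hrel
    rcases Nat.lt_or_ge n 2 with h2 | h2
    · exfalso
      obtain rfl : n = 1 := by omega
      rw [pow_one] at hn
      haveI : IsCyclic E := isCyclic_of_prime_card hn
      let ψ := conjQuot E E hEC
      have hψ : Function.Injective ψ := conjQuot_injective E E hEC hCE.le
      have h1 := Subgroup.card_dvd_of_injective ψ hψ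
      rw [Subgroup.card_top, IsCyclic.card_mulAut, hn, Nat.totient_prime hp.out,
        ← Subgroup.index_eq_card] at h1
      have h3 : s ^ 2 ∣ Nat.card E * E.index := by rw [E.card_mul_index]; exact hdvd
      rw [hn, pow_two] at h3
      have h4 := (Nat.dvd_of_mul_dvd_mul_left hp.out.pos h3).trans h1
      have h5 := Nat.le_of_dvd (by have := hp.out.two_le; omega) h4
      have := hp.out.two_le
      omega
    · exact Or.inr ⟨E, hEn, n, h2, hn, hEs, ⟨⟨fun a b => Subtype.ext (hEc _ a.2 _ b.2)⟩⟩, hCE, hmin⟩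
  -- a normal subgroup of order `p` over `E`, centralising `E`
  set π := QuotientGroup.mk' E with hπ
  haveI : (C.map π).Normal := (inferInstance : C.Normal).map _ (QuotientGroup.mk'_surjective E)
  haveI : Group.IsSolvable (G ⧸ E) := Group.isSolvable_of_surjective (QuotientGroup.mk'_surjective E)
  have hCcard : Nat.card (C.map π) = E.relIndex C := by
    rw [← Subgroup.relIndex_ker, QuotientGroup.ker_mk']
  have hC1 : C.map π ≠ ⊥ := fun h => by
    rw [h, Subgroup.card_bot] at hCcard
    rw [← hCcard, Nat.dvd_one] at hrel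
    exact hp.out.ne_one hrel
  obtain ⟨r, F, hr, hFn, hFC, hF1, hFc, hFr⟩ := CfsgLib.Huppert.exists_elementary_le (C.map π) hC1
  set M := F.comap π with hM
  haveI : M.Normal := hFn.comap π
  have hEM : E ≤ M := fun x hx => by
    show π x ∈ F
    rw [hπ, QuotientGroup.mk'_apply, (QuotientGroup.eq_one_iff x).2 hx]
    exact one_mem F
  have hMC : M ≤ C := fun x hx => by
    obtain ⟨c, hc, e⟩ := hFC hx
    have h1 : c⁻¹ * x ∈ E := QuotientGroup.eq.1 e
    have h2 := mul_mem hc (hEC h1)
    rwa [mul_inv_cancel_left] at h2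
  have hMF : M.map π = F := Subgroup.map_comap_eq_self_of_surjective (QuotientGroup.mk'_surjective E) F
  have hMrel : E.relIndex M = Nat.card F := by
    rw [← hMF, ← Subgroup.relIndex_ker, QuotientGroup.ker_mk']
  haveI := Fact.mk hr
  obtain ⟨j, hj⟩ := (IsPGroup.iff_card (p := r) (G := F)).1 fun x => ⟨1, Subtype.ext (by
    rw [pow_one, SubmonoidClass.coe_pow, hFr _ x.2]; rfl)⟩
  have hj0 : 1 ≤ j := by
    by_contra h
    obtain rfl : j = 0 := by omega
    exact hF1 (Subgroup.card_eq_one.1 (by rw [hj, pow_zero]))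
  obtain rfl : r = s := by
    by_contra hne
    have hME : M = E := eq_of_central_sylow hno inferInstance hEM hn hMC (by
      rw [hMrel, hj]
      exact fun h => hne ((Nat.prime_dvd_prime_iff_eq hp.out hr).1 (hp.out.dvd_of_dvd_pow h)).symm)
    refine hF1 (Subgroup.card_eq_one.1 ?_)
    rw [← hMrel, hME, Subgroup.relIndex_self]
  have hj1 : j = 1 := by
    by_contra h
    refine hVidx ((pow_dvd_pow r (by omega : 2 ≤ j)).trans ?_)
    rw [← hj, Subgroup.index_eq_card]
    exact Subgroup.card_subgroup_dvd_card F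
  subst hj1
  rw [pow_one] at hj
  have hMcard : Nat.card M = r ^ (n + 1) := by
    rw [← Subgroup.card_mul_index (E.subgroupOf M),
      Nat.card_congr (Subgroup.subgroupOfEquivOfLe hEM).toEquiv, hn, pow_succ]
    congr 1
    exact hMrel.trans hj
  have hMidx : ¬ r ∣ M.index := fun h => by
    refine hVidx ?_
    rw [← Subgroup.relIndex_mul_index hEM, hMrel, hj, pow_two]
    exact Nat.mul_dvd_mul_left r h
  have hMc : ∀ a ∈ M, ∀ b ∈ M, a * b = b * a := by
    haveI : IsCyclic F := isCyclic_of_prime_card hj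
    intro a ha b hb
    let f : M →* F := (π.comp M.subtype).codRestrict F fun x => x.2
    have hker : f.ker ≤ Subgroup.center M := fun x hx => by
      have h1 : (x : G) ∈ E := (QuotientGroup.eq_one_iff _).1 (congrArg Subtype.val (MonoidHom.mem_ker.1 hx))
      exact Subgroup.mem_center_iff.2 fun y =>
        Subtype.ext (Subgroup.mem_centralizer_iff.1 (hMC y.2) _ h1).symm
    letI := commGroupOfCyclicCenterQuotient f hker
    exact congrArg Subtype.val (mul_comm (⟨a, ha⟩ : M) ⟨b, hb⟩)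
  rcases Nat.lt_or_ge n 2 with h2 | h2
  · left
    obtain rfl : n = 1 := by omega
    rw [pow_one] at hn
    have hMM : M ≤ Subgroup.centralizer (M : Set G) := fun a ha =>
      Subgroup.mem_centralizer_iff.2 fun b hb => hMc b hb a ha
    refine classes_order_sq hMcard hMidx hEM hn (eq_of_central_sylow hno inferInstance hMM hMcard ?_ ?_)
    · exact fun x hx => hx
    · intro h
      refine hMidx (h.trans ?_)
      rw [← Subgroup.relIndex_mul_index hMM]
      exact dvd_mul_right _ _
  · exact absurd (no_larger h2 hred hn hEs hmin hEM hMcard hMidx hMc) id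

end CfsgLib.LinClasses
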