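import Cfsg.Agent.LinClasses.Table
import Cfsg.Agent.LinClasses.Reduce

/-!
# Class numbers of solvable groups of order divisible by `p ^ 2`
-/

set_option autoImplicit false
set_option linter.style.haveILetI false

namespace CfsgLib.LinClasses

variable {p : ℕ} [hp : Fact p.Prime]

theorem plane_top {a x h kH : ℕ} (hp11 : 11 ≤ p) (ha : a ∣ p - 1) (hk : 4 * a ≤ kH) (hh : h ≤ 24 * a)
    (hQ : p * p ≤ x * h + 1) : 49 * p ≤ 60 * (kH + x) := by
  have hQ' : p * p ≤ x * (24 * a) + 1 := hQ.trans (Nat.add_le_add_right (Nat.mul_le_mul_left x hh) 1)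
  have hle : 60 * (4 * a + x) ≤ 60 * (kH + x) := by omega
  refine le_trans ?_ hle
  obtain ⟨j, hj⟩ := ha
  have hap : a ≤ p - 1 := Nat.le_of_dvd (by omega) ⟨j, hj⟩
  have ha0 : 0 < a := Nat.pos_of_ne_zero fun h => by
    rw [h, zero_mul] at hj; omega
  rcases Nat.lt_or_ge p 29 with h29 | h29
  · have hp' := hp.out
    interval_cases p <;> norm_num at hp' <;> interval_cases a <;> omega
  · refine Nat.le_of_mul_le_mul_left ?_ (show 0 < 24 * a by omega)
    have key : 98 * (a * p) + 5 ≤ 480 * (a * a) + 5 * (p * p) := by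
      obtain ⟨q, rfl⟩ : ∃ q, p = q + 1 := ⟨p - 1, by omega⟩
      rw [Nat.add_sub_cancel] at hj
      rcases Nat.lt_or_ge j 10 with hj10 | hj10
      · have h9 : q ≤ a * 9 := hj ▸ Nat.mul_le_mul_left a (by omega)
        obtain ⟨s, hs⟩ : ∃ s, 10 * a = (q + 1) + s + 1 := ⟨10 * a - (q + 1) - 1, by omega⟩
        obtain ⟨t, ht⟩ : ∃ t, 48 * a = 5 * (q + 1) + t + 5 := ⟨48 * a - 5 * (q + 1) - 5, by omega⟩
        have e := congrArg₂ (· * ·) ht hs
        nlinarith
      · have h10 : a * 10 ≤ q := hj ▸ Nat.mul_le_mul_left a hj10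
        obtain ⟨s, hs⟩ : ∃ s, q + 1 = 10 * a + s + 1 := ⟨q - 10 * a, by omega⟩
        obtain ⟨t, ht⟩ : ∃ t, 5 * (q + 1) = 48 * a + t + 5 := ⟨5 * (q + 1) - 48 * a - 5, by omega⟩
        have e := congrArg₂ (· * ·) ht hs
        nlinarith
    nlinarith

theorem classes_irr {V : Type} [AddCommGroup V] [Module (ZMod p) V] [Finite V] {X : Type} [Group X]
    [Finite X] {ρ : Representation (ZMod p) X V} (hρ : Function.Injective ρ) (hirr : Irr ρ)
    (hs : Group.IsSolvable X) {n : ℕ} (hn : Module.finrank (ZMod p) V = n) (hn2 : 2 ≤ n) (hp5 : 5 ≤ p)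
    {k x : ℕ} (hk : k = Nat.card (ConjClasses X) + x) (hQ : p ^ n ≤ x * Nat.card X + 1) :
    49 * p ≤ 60 * k := by
  have hkH : 1 ≤ Nat.card (ConjClasses X) := card_classes_pos
  have hQ2 : p * p ≤ p ^ n := by
    rw [← pow_two]; exact Nat.pow_le_pow_right hp.out.pos hn2
  have hx : 1 ≤ x := by
    by_contra h0
    obtain rfl : x = 0 := by omega
    have := Nat.mul_le_mul hp5 hp5
    omega
  rcases Nat.lt_or_ge p 11 with h11 | h11
  · have hp' := hp.out
    have hsmall : Nat.card (ConjClasses X) ≤ 3 → Nat.card X ≤ 6 := card_le_six_of_classes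
    have hfour : Nat.card (ConjClasses X) ≤ 4 → Nat.card X ≤ 42 := card_le_of_classes_four
    interval_cases p <;> norm_num at hp'
    · rcases Nat.lt_or_ge (Nat.card (ConjClasses X)) 4 with h | h
      · have h1 : x * Nat.card X ≤ x * 6 := Nat.mul_le_mul_left _ (hsmall (by omega))
        omega
      · omega
    · rcases Nat.lt_or_ge (Nat.card (ConjClasses X)) 4 with h | h
      · have h1 : x * Nat.card X ≤ x * 6 := Nat.mul_le_mul_left _ (hsmall (by omega))
        omega
      · rcases Nat.lt_or_ge (Nat.card (ConjClasses X)) 5 with h' | h'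
        · have h1 : x * Nat.card X ≤ x * 42 := Nat.mul_le_mul_left _ (hfour (by omega))
          omega
        · omega
  have hp2 : 2 < p := by omega
  have h121 : 11 * 11 ≤ p * p := Nat.mul_le_mul h11 h11
  rcases Nat.lt_or_ge n 5 with h5 | h5
  · interval_cases n
    · rw [pow_two] at hQ
      rcases two_cases hp2 hρ hirr hs hn with h | ⟨a, ha, h1, h2⟩
      · exact crit hk h hQ (by norm_num) (by omega)
      · rw [hk]
        exact plane_top h11 ha h1 h2 hQ
    · have h3 : p ^ 3 = p * (p * p) := by ring
      rw [h3] at hQ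
      rcases three_cases hp2 hρ hirr hs hn with h | ⟨h3p, h⟩
      · have hP := Nat.mul_le_mul_right (p * p) h11
        exact crit hk h hQ (by norm_num) (by omega)
      · have h13 : 13 ≤ p := by omega
        have hP := Nat.mul_le_mul_right (p * p) h13
        rcases h with h | ⟨h, a, ha, hak⟩
        · exact crit hk h hQ (by norm_num) (by omega)
        · rcases Nat.lt_or_ge p 14 with h14 | h14
          · omega
          · have hP' := Nat.mul_le_mul_right (p * p) h14
            exact crit hk h hQ (by norm_num) (by omega)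
    · have h4 : p ^ 4 = p * p * (p * p) := by ring
      rw [h4] at hQ
      rcases four_cases hp2 hρ hirr hs hn with h | ⟨a, ha2, had, h, hak, hha⟩
      · have hP := Nat.mul_le_mul_right (p * p) h121
        exact crit hk h hQ (by norm_num) (by omega)
      · rcases Nat.lt_or_ge p 13 with h13 | h13
        · have hp' := hp.out
          interval_cases p
          · have hale : a ≤ 10 := Nat.le_of_dvd (by norm_num) had
            rcases Nat.lt_or_ge a 5 with h5 | h5
            · interval_cases a
              · have h1 : x * Nat.card X ≤ x * (1152 * 2) := Nat.mul_le_mul_left _ hha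
                omega
              all_goals norm_num at had
            · omega
          · norm_num at hp'
        · have hP := Nat.mul_le_mul_right (p * p) (Nat.mul_le_mul h13 h13)
          exact crit hk h hQ (by norm_num) (by omega)
  · have hW := cb_wb hp2 n (by omega) V X ρ hρ hirr hs hn
    have hwb : 10 * wb n ≤ 59 * 11 ^ (n - 2) := by
      rw [wb_big h5]; exact Nat.mul_div_le _ _
    have hW0 : 0 < wb n := by
      rw [wb_big h5]
      refine Nat.div_pos ?_ (by norm_num)
      have := Nat.one_le_pow (n - 2) 11 (by norm_num)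
      omega
    have hpow : 11 ^ (n - 2) * (p * p) ≤ p ^ n := by
      rw [← pow_two, show n = (n - 2) + 2 by omega, pow_add, Nat.add_sub_cancel]
      exact Nat.mul_le_mul_right _ (Nat.pow_le_pow_left h11 _)
    have h1 := Nat.mul_le_mul_right (p * p) hwb
    have h2 : 11 ^ 5 ≤ p ^ n :=
      (Nat.pow_le_pow_left h11 5).trans (Nat.pow_le_pow_right hp.out.pos h5)
    refine crit hk hW hQ hW0 ?_
    rw [mul_assoc 59, mul_assoc 10] at h1
    rw [mul_assoc 2401, mul_comm (p * p)]
    omega

/-- The representation of an operator group on an elementary abelian group. -/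
theorem exists_rep {U : Type} [CommGroup U] [Finite U] [Nontrivial U] [Module (ZMod p) (Additive U)]
    {H : Type} [Group H] (φ : H →* (⊤ : Subgroup (MulAut U))) (hφ : Function.Injective φ)
    (hirr : ∀ W : Subgroup U, (∀ h, ∀ w ∈ W, (φ h : MulAut U) w ∈ W) → W = ⊥ ∨ W = ⊤) :
    ∃ ρ : Representation (ZMod p) H (Additive U), Function.Injective ρ ∧ Irr ρ := by
  let R : Representation (ZMod p) (⊤ : Subgroup (MulAut U)) (Additive U) := linRep (p := p) _
  let ρ : Representation (ZMod p) H (Additive U) :=
    { toFun := fun a => R (φ a)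
      map_one' := by rw [map_one, map_one]
      map_mul' := fun a b => by rw [map_mul, map_mul] }
  refine ⟨ρ, (linRep_injective _).comp hφ, inferInstanceAs (Nontrivial (Additive U)), fun M hM => ?_⟩
  let W : Subgroup U :=
    { carrier := {u | Additive.ofMul u ∈ M}
      one_mem' := M.zero_mem
      mul_mem' := fun ha hb => M.add_mem ha hb
      inv_mem' := fun ha => M.neg_mem ha }
  rcases hirr W (fun y w hw => hM y _ hw) with h | h
  · left
    refine (Submodule.eq_bot_iff M).2 fun u hu => ?_
    have h1 : Additive.toMul u ∈ W := hu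
    rw [h, Subgroup.mem_bot] at h1
    exact h1
  · right
    refine eq_top_iff.2 fun u _ => ?_
    exact (h ▸ Subgroup.mem_top (Additive.toMul u) : Additive.toMul u ∈ W)

theorem classes_elem {U : Type} [CommGroup U] [Finite U] [Nontrivial U]
    [Module (ZMod p) (Additive U)] {H : Type} [Group H] [Finite H] (hs : Group.IsSolvable H)
    (φ : H →* (⊤ : Subgroup (MulAut U))) (hφ : Function.Injective φ)
    (hirr : ∀ W : Subgroup U, (∀ h, ∀ w ∈ W, (φ h : MulAut U) w ∈ W) → W = ⊥ ∨ W = ⊤)
    {n : ℕ} (hn : Nat.card U = p ^ n) (hn2 : 2 ≤ n) (hp5 : 5 ≤ p)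
    {k x : ℕ} (hk : k = Nat.card (ConjClasses H) + x) (hQ : p ^ n ≤ x * Nat.card H + 1) :
    49 * p ≤ 60 * k := by
  obtain ⟨ρ, hρ, hI⟩ := exists_rep (p := p) φ hφ hirr
  haveI : Finite (Additive U) := inferInstanceAs (Finite U)
  exact classes_irr hρ hI hs (finrank_linRep (p := p) hn) hn2 hp5 hk hQ

theorem class_bound_aux (N : ℕ) : ∀ (G : Type) [Group G] [Finite G], Group.IsSolvable G →
    p ^ 2 ∣ Nat.card G → Nat.card G = N → 49 * p ≤ 60 * Nat.card (ConjClasses G) := by
  induction N using Nat.strong_induction_on with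
  | _ N ih =>
  intro G _ _ hs hdvd hN
  classical
  haveI := hs
  haveI := finite_classes (G := G)
  rcases Nat.lt_or_ge p 5 with h5 | h5
  · have hp' := hp.out
    have h1 := Nat.le_of_dvd Nat.card_pos hdvd
    interval_cases p
    · norm_num at hp'
    · norm_num at hp'
    · haveI : Nontrivial G := Finite.one_lt_card_iff_nontrivial.1 (by omega)
      have := two_le_card_classes (X := G)
      omega
    · by_contra hh
      have h2 : Nat.card G ≤ 6 := card_le_six_of_classes (by omega)
      omega
    · norm_num at hp'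
  by_cases hred : ∃ M : Subgroup G, M.Normal ∧ M ≠ ⊥ ∧ p ^ 2 ∣ M.index
  · obtain ⟨M, hM, hM1, hMi⟩ := hred
    haveI := hM
    haveI := finite_classes (G := G ⧸ M)
    have hlt : Nat.card (G ⧸ M) < N := by
      rw [← hN, ← M.card_mul_index, ← Subgroup.index_eq_card]
      exact lt_mul_of_one_lt_left (Nat.pos_of_ne_zero Subgroup.index_ne_zero_of_finite)
        (Subgroup.one_lt_card_iff_ne_bot _ |>.2 hM1)
    refine (ih _ hlt (G ⧸ M) (Group.isSolvable_of_surjective (QuotientGroup.mk'_surjective M))
      (by rwa [← Subgroup.index_eq_card]) rfl).trans (Nat.mul_le_mul_left _ ?_)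
    exact card_classes_le_of_surjective _ (QuotientGroup.mk'_surjective M)
  push Not at hred
  rcases reduce hdvd hred with h | ⟨V, hVn, n, hn2, hVcard, hVexp, hVc, hC, hmin⟩
  · exact h
  haveI := hVn
  letI : CommGroup V := { (inferInstance : Group V) with mul_comm := hVc.is_comm.comm }
  haveI : Nontrivial V := Finite.one_lt_card_iff_nontrivial.1 (by
    rw [hVcard]; exact Nat.one_lt_pow (by omega) hp.out.one_lt)
  letI : Module (ZMod p) (Additive V) := AddCommGroup.zmodModule fun v =>
    (Subtype.ext (hVexp _ (Additive.toMul v).2) : Additive.toMul v ^ p = 1)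
  obtain ⟨x, hx, hle⟩ := classes_abelian_normal V
  rw [hVcard, Subgroup.index_eq_card] at hle
  refine classes_elem (Group.isSolvable_of_surjective (QuotientGroup.mk'_surjective V))
    (conjQuot V V hC.ge) (conjQuot_injective V V hC.ge hC.le) (fun W hW => ?_) hVcard hn2 h5 hx hle
  have hWn : (W.map V.subtype).Normal := ⟨by
    rintro _ ⟨w, hw, rfl⟩ g
    exact ⟨_, hW (QuotientGroup.mk g) w hw, rfl⟩⟩
  rcases hmin _ hWn (Subgroup.map_subtype_le W) with h | h
  · exact Or.inl ((Subgroup.map_eq_bot_iff_of_injective _ V.subtype_injective).1 h)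
  · refine Or.inr (Subgroup.map_injective V.subtype_injective ?_)
    rw [h, ← MonoidHom.range_eq_map, V.range_subtype]

theorem class_bound {G : Type*} [Group G] [Finite G] (hs : Group.IsSolvable G)
    (hdvd : p ^ 2 ∣ Nat.card G) : 49 * p ≤ 60 * Nat.card (ConjClasses G) := by
  haveI := hs
  let ψ : G →* Equiv.Perm (Fin (Nat.card G)) :=
    (Finite.equivFin G).permCongrHom.toMonoidHom.comp (MulAction.toPermHom G G)
  have hψ : Function.Injective ψ :=
    (Finite.equivFin G).permCongrHom.injective.comp MulAction.toPerm_injective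
  let e := MonoidHom.ofInjective hψ
  rw [card_classes_congr e]
  exact class_bound_aux _ ψ.range (Group.isSolvable_of_surjective (f := e.toMonoidHom) e.surjective)
    (by rwa [← Nat.card_congr e.toEquiv]) rfl

end CfsgLib.LinClasses
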