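import Cfsg.Agent.LinClasses.KB
import Cfsg.Agent.S4200
import Mathlib.GroupTheory.Index

/-!
# Groups with many classes for their order

`Com X W`: the order of `X` is at most `W` times its class number (commuting probability at
least `1 / W`).
-/

set_option autoImplicit false

namespace CfsgLib.LinClasses

/-- `|X| ≤ W k(X)`. -/
def Com (X : Type*) [Group X] (W : ℕ) : Prop :=
  Nat.card X ≤ W * Nat.card (ConjClasses X)

variable {X : Type*} [Group X] {W : ℕ}

theorem card_classes_pos [Finite X] : 0 < Nat.card (ConjClasses X) := by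
  haveI : Finite (ConjClasses X) := Finite.of_surjective _ ConjClasses.mk_surjective
  exact Nat.card_pos

theorem two_le_card_classes [Finite X] [Nontrivial X] : 2 ≤ Nat.card (ConjClasses X) := by
  haveI : Finite (ConjClasses X) := Finite.of_surjective _ ConjClasses.mk_surjective
  obtain ⟨x, hx⟩ := exists_ne (1 : X)
  haveI : Nontrivial (ConjClasses X) := ⟨⟨ConjClasses.mk x, ConjClasses.mk 1, fun h => hx
    (isConj_one_left.1 (ConjClasses.mk_eq_mk_iff_isConj.1 h))⟩⟩
  exact Finite.one_lt_card

theorem Com.mono {W' : ℕ} (h : Com X W) (hW : W ≤ W') : Com X W' :=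
  le_trans h (Nat.mul_le_mul_right _ hW)

theorem Com.of_card_le [Finite X] (h : Nat.card X ≤ W) : Com X W :=
  h.trans (Nat.le_mul_of_pos_right W card_classes_pos)

theorem Com.of_comm [Finite X] (h : ∀ a b : X, a * b = b * a) : Com X 1 := by
  unfold Com
  rw [one_mul]
  refine Nat.card_le_card_of_injective (β := ConjClasses X) ConjClasses.mk fun a b hab => ?_
  obtain ⟨c, hc⟩ := isConj_iff.1 (ConjClasses.mk_eq_mk_iff_isConj.1 hab)
  rwa [h c a, mul_inv_cancel_right] at hc

theorem Com.of_surjective {Y : Type*} [Group Y] [Finite X] (f : X →* Y) (hf : Function.Surjective f)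
    (h : Com X W) : Com Y W := by
  haveI : Finite Y := Finite.of_surjective f hf
  have h1 : Nat.card (ConjClasses X) ≤ Nat.card f.ker * Nat.card (ConjClasses Y) := by
    refine (Cfsg.Agent.S4201.class_number_le f.ker).trans (Nat.mul_le_mul card_classes_le_card (le_of_eq ?_))
    exact card_classes_congr (QuotientGroup.quotientKerEquivOfSurjective f hf)
  have h2 : Nat.card X = Nat.card f.ker * Nat.card Y := by
    rw [← f.ker.card_mul_index, Subgroup.index_ker, MonoidHom.range_eq_top.2 hf, Subgroup.card_top]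
  unfold Com at *
  refine Nat.le_of_mul_le_mul_left ?_ (Nat.card_pos (α := f.ker))
  rw [← h2]
  calc Nat.card X ≤ W * Nat.card (ConjClasses X) := h
    _ ≤ W * (Nat.card f.ker * Nat.card (ConjClasses Y)) := Nat.mul_le_mul_left _ h1
    _ = Nat.card f.ker * (W * Nat.card (ConjClasses Y)) := by ring

theorem Com.subgroup [Finite X] (K : Subgroup X) (h : Com X W) : Com K W := by
  unfold Com at *
  have h1 := (Cfsg.Agent.S4200.main K).2.1
  rw [← K.card_mul_index] at h
  refine Nat.le_of_mul_le_mul_right ?_ (Nat.pos_of_ne_zero (Subgroup.index_ne_zero_of_finite (H := K)))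
  calc Nat.card K * K.index ≤ W * Nat.card (ConjClasses X) := h
    _ ≤ W * (K.index * Nat.card (ConjClasses K)) := Nat.mul_le_mul_left _ h1
    _ = W * Nat.card (ConjClasses K) * K.index := by ring

theorem Com.congr {Y : Type*} [Group Y] [Finite X] (e : X ≃* Y) (h : Com X W) : Com Y W :=
  h.of_surjective e.toMonoidHom e.surjective

theorem Com.of_injective {Y : Type*} [Group Y] [Finite Y] (f : X →* Y) (hf : Function.Injective f)
    (h : Com Y W) : Com X W := by
  haveI : Finite X := Finite.of_injective f hf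
  exact (h.subgroup f.range).congr (MonoidHom.ofInjective hf).symm

theorem Com.of_index [Finite X] (K : Subgroup X) {i : ℕ} (hi : K.index ≤ i) (h : Com K W) :
    Com X (W * (i * i)) := by
  unfold Com at *
  have h1 := (Cfsg.Agent.S4200.main K).1
  rw [← K.card_mul_index]
  calc Nat.card K * K.index ≤ W * Nat.card (ConjClasses K) * K.index := Nat.mul_le_mul_right _ h
    _ ≤ W * (K.index * Nat.card (ConjClasses X)) * K.index :=
        Nat.mul_le_mul_right _ (Nat.mul_le_mul_left _ h1)
    _ = W * (K.index * K.index) * Nat.card (ConjClasses X) := by ring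
    _ ≤ W * (i * i) * Nat.card (ConjClasses X) :=
        Nat.mul_le_mul_right _ (Nat.mul_le_mul_left _ (Nat.mul_le_mul hi hi))

theorem Com.pi {ι : Type*} [Fintype ι] {Y : ι → Type*} [∀ i, Group (Y i)] [∀ i, Finite (Y i)]
    (c : ι → ℕ) (h : ∀ i, Com (Y i) (c i)) : Com (∀ i, Y i) (∏ i, c i) := by
  classical
  unfold Com at *
  rw [Nat.card_pi]
  refine (Finset.prod_le_prod' fun i _ => h i).trans ?_
  rw [Finset.prod_mul_distrib]
  refine Nat.mul_le_mul_left _ ?_
  rw [← Nat.card_pi]
  haveI : Finite (ConjClasses (∀ i, Y i)) := Finite.of_surjective _ ConjClasses.mk_surjective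
  refine Nat.card_le_card_of_surjective
    (fun (q : ConjClasses (∀ i, Y i)) (i : ι) => ConjClasses.map (Pi.evalMonoidHom Y i) q) fun g => ?_
  choose r hr using fun i => ConjClasses.mk_surjective (g i)
  exact ⟨ConjClasses.mk r, funext fun i => hr i⟩

theorem Com.of_joint {ι : Type*} [Fintype ι] {Y : ι → Type*} [∀ i, Group (Y i)] [∀ i, Finite (Y i)]
    (f : ∀ i, X →* Y i) (hinj : ∀ x, (∀ i, f i x = 1) → x = 1) (c : ι → ℕ)
    (h : ∀ i, Com (Y i) (c i)) : Com X (∏ i, c i) :=
  (Com.pi c h).of_injective (MonoidHom.pi f) ((injective_iff_map_eq_one _).2 fun x hx =>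
    hinj x fun i => congrFun hx i)

end CfsgLib.LinClasses
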