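import Cfsg.Agent.LinClasses.SympTheorem
import Cfsg.Agent.Constrained.Fitting
import Mathlib.FieldTheory.IsAlgClosed.Basic
import Mathlib.Analysis.Complex.Polynomial.Basic

/-!
# Solvable complex linear groups have few classes modulo a nilpotent normal subgroup
-/

set_option autoImplicit false
set_option linter.style.haveILetI false

namespace CfsgLib.LinClasses

theorem kb_scalar {G : Type} [Group G] [Finite G] (hs : Group.IsSolvable G) {V : Type}
    [AddCommGroup V] [Module ℂ V] [FiniteDimensional ℂ V] [Nontrivial V]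
    (ρ : Representation ℂ G V) (hρ : Function.Injective ρ) {A : Subgroup G} (hA : MaxAb A)
    (hsc : ∀ a ∈ A, ∃ c : ℂ, ρ a = c • 1) :
    ∃ M : Subgroup G, ∃ _ : M.Normal, Group.IsNilpotent M ∧
      KB (G ⧸ M) (3 ^ (Module.finrank ℂ V - 1)) := by
  classical
  choose c hc using hsc
  have hinj : ∀ x y : ℂ, x • (1 : Module.End ℂ V) = y • 1 → x = y := fun x y h =>
    smul_left_injective ℂ (one_ne_zero) h
  let ι₀ : A →* ℂ :=
    { toFun := fun a => c a a.2
      map_one' := hinj _ _ (by rw [← hc, OneMemClass.coe_one, map_one, one_smul])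
      map_mul' := fun a b => hinj _ _ (by
        rw [← hc, Subgroup.coe_mul, map_mul, hc (a : G) a.2, hc (b : G) b.2, smul_mul_smul_comm, mul_one]) }
  have hι₀ : Function.Injective ι₀ := fun a b h => Subtype.ext (hρ (by
    rw [hc (a : G) a.2, hc (b : G) b.2]
    exact congrArg (· • (1 : Module.End ℂ V)) h))
  let ι : A →* ℂˣ := ι₀.toHomUnits
  have hι : Function.Injective ι := fun a b h => hι₀ (congrArg Units.val h)
  have hC : ∀ g : G, g ∈ Subgroup.centralizer (A : Set G) := fun g =>
    Subgroup.mem_centralizer_iff.2 fun a ha => hρ (by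
      rw [map_mul, map_mul, hc a ha, smul_mul_assoc, mul_smul_comm, one_mul, mul_one])
  obtain ⟨L⟩ := exists_layer hs hA
  have hU := L.card_U_le hι (ρ.comp L.B.subtype) fun a v => by
    show ρ ((⟨(a : G), L.hAB a.2⟩ : L.B) : G) v = _
    rw [hc (a : G) a.2, LinearMap.smul_apply, Module.End.one_apply]
    rfl
  haveI := finite_mulAut L.U
  haveI : Group.IsSolvable L.act.range := by
    haveI := hs
    exact Group.isSolvable_of_surjective L.act.rangeRestrict_surjective
  obtain ⟨m, hm, hkb, -, -⟩ := symp_all (Nat.card L.U) L.U ℂ (L.pair ι) L.act.range (L.isND_pair hι)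
    (by rintro _ ⟨g, rfl⟩; exact L.act_mem_isom ι (hC g))
    (fun W hW hiso => L.aniso hA hι W (fun x w hw => hW ⟨L.act x, x, rfl⟩ w hw) hiso)
    inferInstance rfl
  haveI : Finite L.act.range := Subtype.finite
  refine ⟨L.B, L.normal, L.isNilpotent, ?_⟩
  let f : G ⧸ L.B →* L.act.range := QuotientGroup.lift _ L.act.rangeRestrict fun g hg =>
    Subtype.ext (L.act_eq_one_of_mem hg)
  have hf : Function.Injective f := (injective_iff_map_eq_one f).2 fun q hq => by
    obtain ⟨g, rfl⟩ := QuotientGroup.mk_surjective q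
    exact (QuotientGroup.eq_one_iff _).2 (L.mem_of_act_eq_one hι (hC g) (congrArg Subtype.val hq))
  refine (KB.of_injective f hf hkb).mono (Nat.pow_le_pow_right (by norm_num) ?_)
  rw [hm] at hU
  have := Nat.mul_self_le_mul_self_iff.1 hU
  omega

theorem complex_main (r : ℕ) : ∀ {G : Type} [Group G] [Finite G], Group.IsSolvable G →
    ∀ {V : Type} [AddCommGroup V] [Module ℂ V] [FiniteDimensional ℂ V] [Nontrivial V]
      (ρ : Representation ℂ G V), Function.Injective ρ → Module.finrank ℂ V = r →
      ∃ M : Subgroup G, ∃ _ : M.Normal, Group.IsNilpotent M ∧ KB (G ⧸ M) (3 ^ (r - 1)) := by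
  induction r using Nat.strong_induction_on with
  | _ r ih =>
  intro G _ _ hs V _ _ _ _ ρ hρ hr
  classical
  subst hr
  obtain ⟨A, hAn, hAc, hmax⟩ := CfsgLib.Huppert.exists_maximal_abelian_normal (G := G)
  haveI := hAn
  haveI := hAc
  haveI : NeZero (Nat.card A : ℂ) := ⟨Nat.cast_ne_zero.2 Nat.card_pos.ne'⟩
  rcases dichotomy (ρ := ρ) A with hF | ⟨⟨S⟩⟩
  · refine kb_scalar hs ρ hρ ⟨hAn, hAc, hmax⟩ fun a ha => ?_
    haveI : IsDomain (algA ρ A) := hF.isDomain
    haveI : Module.Finite ℂ (algA ρ A) := inferInstance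
    haveI : Algebra.IsIntegral ℂ (algA ρ A) := Algebra.IsIntegral.of_finite ℂ _
    obtain ⟨c, hc⟩ := (IsAlgClosed.algebraMap_bijective_of_isIntegral (k := ℂ)
      (K := algA ρ A)).2 ⟨ρ a, rho_mem_algA ha⟩
    refine ⟨c, ?_⟩
    have h1 : algebraMap ℂ (Module.End ℂ V) c = ρ a := congrArg Subtype.val hc
    rw [← h1, Algebra.algebraMap_eq_smul_one]
  · haveI := S.finite_blockGroup
    have hsum := S.sum_finrank
    have hlt : ∀ i, Module.finrank ℂ (S.W i) < Module.finrank ℂ V := by
      intro i
      obtain ⟨j, hj⟩ : ∃ j, j ≠ i := by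
        haveI : Nontrivial (Fin S.m) := Fin.nontrivial_iff_two_le.2 S.two
        exact exists_ne i
      rw [← hsum]
      exact Finset.single_lt_sum (f := fun l => Module.finrank ℂ (S.W l)) hj (Finset.mem_univ i) (Finset.mem_univ j) (S.finrank_pos j)
        fun l _ _ => Nat.zero_le _
    have hnt : ∀ i, Nontrivial (S.W i) := fun i => Submodule.nontrivial_iff_ne_bot.2 (S.W_ne_bot i)
    have hex := fun i => @ih _ (hlt i) (S.blockGroup i) _ _ (S.isSolvable_blockGroup hs i) (S.W i) _ _ _ (hnt i)
      (S.tautRep i) (S.tautRep_injective i) rfl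
    choose M hMn hMnil hMkb using hex
    set N := S.perm.ker with hN
    haveI : ∀ i, Finite (S.blockGroup i ⧸ M i) := fun i => Quotient.finite _
    let g : ∀ i, N →* S.blockGroup i ⧸ M i := fun i => (QuotientGroup.mk' (M i)).comp (S.blockHom i)
    let gg : N →* ∀ i, S.blockGroup i ⧸ M i := Pi.monoidHom g
    set M₀ := gg.ker with hM₀
    have hM₀nil : Group.IsNilpotent M₀ := by
      let emb : M₀ →* ∀ i, M i := Pi.monoidHom fun i =>
        ((S.blockHom i).comp M₀.subtype).codRestrict (M i) fun z =>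
          (QuotientGroup.eq_one_iff _).1 (congrFun (MonoidHom.mem_ker.1 z.2) i)
      have hemb : Function.Injective emb := (injective_iff_map_eq_one emb).2 fun z hz =>
        Subtype.ext (S.blockHom_joint hρ z.1 fun i => congrArg Subtype.val (congrFun hz i))
      haveI := hMnil
      exact Group.nilpotent_of_mulEquiv (MonoidHom.ofInjective hemb).symm
    set M₁ := Cfsg.fittingSubgroup N with hM₁
    have hle : M₀ ≤ M₁ := le_sSup ⟨inferInstance, hM₀nil⟩
    haveI : (M₁.map N.subtype).Normal := ConjAct.normal_of_characteristic_of_normal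
    refine ⟨M₁.map N.subtype, inferInstance, ?_, ?_⟩
    · haveI : Group.IsNilpotent M₁ := by rw [hM₁]; infer_instance
      exact Group.nilpotent_of_mulEquiv (M₁.equivMapOfInjective N.subtype N.subtype_injective)
    · let gbar : ∀ i, N ⧸ M₀ →* S.blockGroup i ⧸ M i := fun i =>
        QuotientGroup.lift M₀ (g i) fun z hz => congrFun (MonoidHom.mem_ker.1 hz) i
      have h1 : KB (N ⧸ M₀) (∏ i, 3 ^ (Module.finrank ℂ (S.W i) - 1)) :=
        KB.of_joint _ hMkb Finset.univ gbar fun q hq => by
          obtain ⟨z, rfl⟩ := QuotientGroup.mk_surjective q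
          exact (QuotientGroup.eq_one_iff _).2 (MonoidHom.mem_ker.2 (funext fun i => hq i (Finset.mem_univ i)))
      let π : N ⧸ M₀ →* N.map (QuotientGroup.mk' (M₁.map N.subtype)) :=
        QuotientGroup.lift M₀ ((QuotientGroup.mk' (M₁.map N.subtype)).subgroupMap N) fun z hz =>
          Subtype.ext ((QuotientGroup.eq_one_iff _).2 ⟨z, hle hz, rfl⟩)
      have hπ : Function.Surjective π := fun y => by
        obtain ⟨z, rfl⟩ := (QuotientGroup.mk' (M₁.map N.subtype)).subgroupMap_surjective N y
        exact ⟨QuotientGroup.mk z, rfl⟩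
      let p : G ⧸ M₁.map N.subtype →* Equiv.Perm (Fin S.m) :=
        QuotientGroup.lift _ S.perm (Subgroup.map_subtype_le M₁)
      have hker : p.ker = N.map (QuotientGroup.mk' (M₁.map N.subtype)) := by
        rw [QuotientGroup.ker_lift]
      have h2 : KB p.ker (∏ i, 3 ^ (Module.finrank ℂ (S.W i) - 1)) := by
        rw [hker]; exact h1.of_surjective π hπ
      haveI : Nonempty (Fin S.m) := ⟨⟨0, by have := S.two; omega⟩⟩
      have h3 := KB.perm (Fin S.m)
      rw [Nat.card_fin] at h3
      refine (KB.of_ker p h2 h3).mono ?_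
      rw [Finset.prod_pow_eq_pow_sum]
      refine (Nat.mul_le_mul_left _ (Nat.pow_le_pow_left (by norm_num : 2 ≤ 3) _)).trans ?_
      rw [← pow_add]
      refine Nat.pow_le_pow_right (by norm_num) ?_
      have e : ∑ i, (Module.finrank ℂ (S.W i) - 1) + S.m = Module.finrank ℂ V := by
        have e1 : ∑ i, (Module.finrank ℂ (S.W i) - 1) + ∑ _i : Fin S.m, 1 = Module.finrank ℂ V := by
          rw [← hsum, ← Finset.sum_add_distrib]
          exact Finset.sum_congr rfl fun i _ => Nat.sub_add_cancel (S.finrank_pos i)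
        simpa using e1
      have := S.two
      omega

end CfsgLib.LinClasses
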