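import Cfsg.Agent.LinClasses.OrderBound
import Cfsg.Agent.LinClasses.ClassCount

/-!
# The field case: orders against class numbers
-/

set_option autoImplicit false
set_option linter.style.haveILetI false

namespace CfsgLib.LinClasses

open Matrix MatrixGroups

theorem det_eq_pow {K V : Type*} [Field K] [AddCommGroup V] [Module K V] (f : Module.End K V) (c : K)
    (h : ∀ v, f v = c • v) : LinearMap.det f = c ^ Module.finrank K V := by
  rw [show f = c • (1 : Module.End K V) from LinearMap.ext fun v => h v, LinearMap.det_smul, map_one,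
    mul_one]

theorem range_sl_three {Y : Type} [Group Y] [Finite Y] (F : Y →* SL(2, ZMod 3))
    (hF : Function.Injective F) : Nat.card Y ≤ 8 ∨ Nat.card (ConjClasses Y) = 7 := by
  rw [Nat.card_congr (MonoidHom.ofInjective hF).toEquiv, card_classes_congr (MonoidHom.ofInjective hF)]
  generalize hK : F.range = K
  have h1 := K.card_mul_index
  rw [card_sl_three] at h1
  by_cases h3 : 3 ≤ K.index
  · left
    have h4 : Nat.card K * 3 ≤ Nat.card K * K.index := Nat.mul_le_mul_left _ h3
    omega
  right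
  have htop : K = ⊤ := by
    rw [eq_top_iff]
    intro M _
    have h2 : K.index = 1 ∨ K.index = 2 := by
      have := (Subgroup.index_ne_zero_of_finite (H := K))
      omega
    rcases h2 with h2 | h2
    · rw [Subgroup.index_eq_one.1 h2]; trivial
    obtain ⟨a, b, hab⟩ := tup_eq_sq_mul_sq ((tupEquiv 3).symm M)
    have e : M = tupEquiv 3 a * tupEquiv 3 a * (tupEquiv 3 b * tupEquiv 3 b) :=
      (tupEquiv 3).symm.injective (Subtype.ext (by
        simp only [tupEquiv_symm_mul, Equiv.symm_apply_apply]; exact hab))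
    rw [e]
    exact mul_mem (Subgroup.mul_self_mem_of_index_two h2 _) (Subgroup.mul_self_mem_of_index_two h2 _)
  subst htop
  rw [card_classes_congr Subgroup.topEquiv]
  have h := card_comm_eq_card_conjClasses_mul_card SL(2, ZMod 3)
  rw [card_commute_sl_three, card_sl_three] at h
  omega

variable {p : ℕ} [hp : Fact p.Prime] {V : Type} [AddCommGroup V] [Module (ZMod p) V] [Finite V]
  {X : Type} [Group X] [Finite X] {ρ : Representation (ZMod p) X V}

theorem field_data (hρ : Function.Injective ρ) (hirr : Irr ρ) (hs : Group.IsSolvable X)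
    {A : Subgroup X} (hA : MaxAb A) (hF : IsField (algA ρ A)) :
    ∃ k d u J x : ℕ, k = Module.finrank (ZMod p) (algA ρ A) ∧ 0 < k ∧
      k * d = Module.finrank (ZMod p) V ∧ 0 < u ∧ u ≤ d ∧ Nat.card A ∣ p ^ k - 1 ∧
      (∀ q : ℕ, q.Prime → q ∣ u → q ∣ Nat.card A) ∧
      Nat.card X ≤ k * (Nat.card A * (u * u) * J) ∧
      Nat.card A * x ≤ d * (k * Nat.card (ConjClasses X)) ∧
      Nat.card A + x ≤ k * Nat.card (ConjClasses X) + 1 ∧
      1 ≤ x ∧ (2 ≤ u → 2 ≤ x) ∧ (2 ≤ u → 2 ≤ J → 3 ≤ x) ∧ (2 ≤ u → 6 < J → 5 ≤ x) ∧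
      J ≤ 27 ^ (u - 1) ∧ (u = 2 → J ≤ 6) ∧ (k = 1 → J ≤ jBound u) ∧
      (k = 1 → u = 3 → J ≤ 8 ∨ 8 ≤ x) ∧ (u = 2 → ∃ L : Layer A, Nat.card L.U = 4) := by
  classical
  obtain ⟨L⟩ := exists_layer hs hA
  haveI := hA.1
  haveI := hA.2.1
  haveI := hirr.1
  haveI : Module.Finite (ZMod p) V := Module.Finite.of_finite
  haveI : Finite (Module.End (ZMod p) V) := Finite.of_injective _ DFunLike.coe_injective
  haveI : Finite (algA ρ A) := Finite.of_injective _ Subtype.val_injective
  letI : Field (algA ρ A) := hF.toField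
  letI : Module (algA ρ A) V := Module.compHom V ((algA ρ A).val.toRingHom)
  haveI : IsScalarTower (ZMod p) (algA ρ A) V := ⟨fun r b v => rfl⟩
  haveI : Module.Finite (algA ρ A) V := Module.Finite.of_finite
  haveI : Module.Finite (ZMod p) (algA ρ A) := Module.Finite.of_finite
  set k := Module.finrank (ZMod p) (algA ρ A) with hk
  set d := Module.finrank (algA ρ A) V with hd
  have hkd : k * d = Module.finrank (ZMod p) V := Module.finrank_mul_finrank _ _ _
  let ι₀ : A →* algA ρ A :=
    { toFun := fun a => ⟨ρ a, rho_mem_algA a.2⟩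
      map_one' := Subtype.ext (map_one ρ)
      map_mul' := fun a b => Subtype.ext (map_mul ρ (a : X) b) }
  have hι₀ : Function.Injective ι₀ := fun a b h => Subtype.ext (hρ (congrArg Subtype.val h))
  let ι : A →* (algA ρ A)ˣ := ι₀.toHomUnits
  have hι : Function.Injective ι := fun a b h => hι₀ (congrArg Units.val h)
  set C := Subgroup.centralizer (A : Set X) with hC
  have hAC : A ≤ C := fun a ha => Subgroup.mem_centralizer_iff.2 fun b hb =>
    congrArg Subtype.val (hA.2.1.is_comm.comm (⟨b, hb⟩ : A) ⟨a, ha⟩)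
  let σ : C →* Module.End (algA ρ A) V :=
    { toFun := fun x =>
        { toFun := fun v => ρ (x : X) v
          map_add' := fun v w => map_add _ v w
          map_smul' := fun b v => LinearMap.congr_fun (commute_algA x.2 b.2) v }
      map_one' := LinearMap.ext fun v => by simp
      map_mul' := fun x y => LinearMap.ext fun v => by
        show ρ ((x * y : C) : X) v = ρ (x : X) (ρ (y : X) v)
        rw [Subgroup.coe_mul, map_mul, Module.End.mul_apply] }
  have hU := L.card_U_le hι (σ.comp (Subgroup.inclusion L.hBC)) (fun a v => rfl)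
  rw [← hd] at hU
  obtain ⟨u, hu⟩ : ∃ u, Nat.card L.U = u * u := by
    let ι' : Subgroup.center L.B →* algA ρ A :=
      { toFun := fun z => ι₀ ⟨((z : L.B) : X), Subgroup.mem_subgroupOf.1 (L.center_eq.le z.2)⟩
        map_one' := ι₀.map_one
        map_mul' := fun a b => by rw [← ι₀.map_mul]; rfl }
    have hι' : Function.Injective ι' := fun a b h => by
      have h1 := hι₀ h
      have h2 := congrArg (fun z : A => (z : X)) h1
      exact Subtype.ext (Subtype.ext h2)
    obtain ⟨S, hS⟩ := CfsgLib.Huppert.exists_sq_index_center L.hcomm ι' hι'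
    exact ⟨S, by rw [← Subgroup.index_eq_card, hS]⟩
  rw [hu] at hU
  have hu0 : 0 < u := Nat.pos_of_ne_zero fun h => by
    rw [h] at hu
    exact Nat.card_pos.ne' (hu.trans (mul_zero 0))
  have hud : u ≤ d := Nat.mul_self_le_mul_self_iff.1 hU
  have hcardA : Nat.card A ∣ p ^ k - 1 := by
    have h := Subgroup.card_dvd_of_injective ι hι
    rwa [Nat.card_units, Module.natCard_eq_pow_finrank (K := ZMod p) (V := algA ρ A), Nat.card_zmod] at h
  have hidx : C.index ≤ k := by
    have hle : (conjAlg (ρ := ρ) A).ker ≤ C := fun x hx => Subgroup.mem_centralizer_iff.2 fun a ha => by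
      have h1 := congrArg Subtype.val (DFunLike.congr_fun (MonoidHom.mem_ker.1 hx)
        (⟨ρ a, rho_mem_algA ha⟩ : algA ρ A))
      rw [conjAlg_apply, ← map_mul, ← map_mul] at h1
      exact (mul_inv_eq_iff_eq_mul.1 (hρ h1)).symm
    refine (Nat.le_of_dvd (Nat.pos_of_ne_zero Subgroup.index_ne_zero_of_finite)
      (Subgroup.index_dvd_of_le hle)).trans ?_
    rw [Subgroup.index_ker]
    refine (Subgroup.card_le_card_group _).trans ?_
    rw [Nat.card_eq_fintype_card]
    exact AlgEquiv.card_le
  have hk0 : 0 < k := Module.finrank_pos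
  haveI : Finite (MulAut L.U) := finite_mulAut L.U
  set φ : C →* MulAut L.U := L.act.comp C.subtype with hφ
  have hker : Nat.card φ.ker ≤ Nat.card L.B :=
    Nat.card_le_card_of_injective (fun g => (⟨((g : C) : X), L.mem_of_act_eq_one hι (g : C).2 g.2⟩ : L.B))
      fun a b h => Subtype.ext (Subtype.ext (congrArg (fun z : L.B => (z : X)) h))
  have hrange : φ.range ≤ isomGroup (L.pair ι) := by
    rintro _ ⟨g, rfl⟩
    exact L.act_mem_isom ι g.2
  set A' := A.subgroupOf C with hA'
  have hA'c : A' ≤ Subgroup.center C := fun a ha => Subgroup.mem_center_iff.2 fun g =>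
    Subtype.ext (Subgroup.mem_centralizer_iff.1 g.2 _ ha).symm
  haveI : A'.Normal := hA.1.subgroupOf C
  haveI : Finite φ.range := Subtype.finite
  let f : C ⧸ A' →* φ.range := QuotientGroup.lift A' φ.rangeRestrict fun g hg =>
    Subtype.ext (L.act_eq_one_of_mem (L.hAB hg))
  have hf : Function.Surjective f := fun y => by
    obtain ⟨g, hg⟩ := φ.rangeRestrict_surjective y
    exact ⟨QuotientGroup.mk g, hg⟩
  have hcardA' : Nat.card A' = Nat.card A := Nat.card_congr (Subgroup.subgroupOfEquivOfLe hAC).toEquiv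
  have hkC := (Cfsg.Agent.S4200.main C).1
  have hkC' : Nat.card (ConjClasses C) ≤ k * Nat.card (ConjClasses X) :=
    hkC.trans (Nat.mul_le_mul_right _ hidx)
  let χ : C →* (algA ρ A)ˣ := (LinearMap.det.comp σ).toHomUnits
  have hroots : Nat.card {a : A' // χ a = 1} ≤ d := by
    haveI : NeZero d := ⟨by omega⟩
    refine (Nat.card_le_card_of_injective
      (fun a => (⟨ι ⟨((a.1 : C) : X), a.1.2⟩, ?_⟩ : rootsOfUnity d (algA ρ A))) fun a b h => ?_).trans
      (card_rootsOfUnity _ d)
    · rw [mem_rootsOfUnity]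
      refine Units.ext ?_
      rw [Units.val_pow_eq_pow_val, Units.val_one]
      have h1 : LinearMap.det (σ (a.1 : C)) = 1 := congrArg Units.val a.2
      rw [det_eq_pow (σ (a.1 : C)) (ι₀ ⟨((a.1 : C) : X), a.1.2⟩) fun v => rfl, ← hd] at h1
      exact h1
    · have h1 := congrArg (fun z : A => (z : X)) (hι (congrArg Subtype.val h))
      exact Subtype.ext (Subtype.ext (Subtype.ext h1))
  have hdet := mul_classes_le_of_hom hA'c χ d hroots
  have hcent := card_central_add_le hA'c
  rw [hcardA'] at hdet hcent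
  have hsq : ∀ q : ℕ, q.Prime → ∀ x : L.U, x ^ (q * q) = 1 → x ^ q = 1 := by
    intro q hq x hx
    let T := (powMonoidHom (q * q) : L.U →* L.U).ker.map (powMonoidHom q)
    have h := L.aniso hA hι T (fun g v hv => by
        obtain ⟨w, hw, rfl⟩ := hv
        refine ⟨L.act g w, ?_, by simp⟩
        rw [SetLike.mem_coe, MonoidHom.mem_ker, powMonoidHom_apply] at hw ⊢
        rw [← map_pow, hw, map_one]) (by
        rintro _ ⟨a, ha, rfl⟩ _ ⟨b, hb, rfl⟩
        rw [SetLike.mem_coe, MonoidHom.mem_ker, powMonoidHom_apply] at ha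
        simp only [powMonoidHom_apply]
        rw [map_pow, map_pow, MonoidHom.pow_apply, ← pow_mul, ← MonoidHom.pow_apply, ← map_pow, ha,
          map_one, MonoidHom.one_apply])
    have h1 : x ^ q ∈ T := ⟨x, by simpa using hx, rfl⟩
    rwa [h, Subgroup.mem_bot] at h1
  have hqa : ∀ q : ℕ, q.Prime → q ∣ u → q ∣ Nat.card A := by
    intro q hq hqu
    haveI := Fact.mk hq
    obtain ⟨g, hg⟩ := exists_prime_orderOf_dvd_card' (G := L.U) q (hu ▸ dvd_mul_of_dvd_left hqu u)
    obtain ⟨v, hv⟩ : ∃ v, L.pair ι g v ≠ 1 := by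
      by_contra! hh
      rw [(L.isND_pair hι).nd g hh, orderOf_one] at hg
      exact hq.ne_one hg.symm
    have hpw : L.pair ι g v ^ q = 1 := by
      rw [← MonoidHom.pow_apply, ← map_pow, ← hg, pow_orderOf_eq_one, map_one, MonoidHom.one_apply]
    obtain ⟨c, hc⟩ : ∃ c : A, ι c = L.pair ι g v := by
      induction g using QuotientGroup.induction_on with
      | H x => induction v using QuotientGroup.induction_on with
        | H y => exact ⟨_, (L.pair_mk ι x y).symm⟩
    rw [← orderOf_eq_prime hpw hv, ← hc, orderOf_injective ι hι]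
    exact orderOf_dvd_natCard c
  have hJcls : 2 ≤ u → Nat.card (ConjClasses φ.range) + 1 ≤ Nat.card (ConjClasses (C ⧸ A')) := by
    intro hu2
    refine card_classes_lt f hf fun h0 => ?_
    obtain ⟨b, hb⟩ : ∃ b : L.B, (b : X) ∉ A := by
      by_contra! hh
      have h1 : L.B ≤ A := fun x hx => hh ⟨x, hx⟩
      have h2 : Nat.card L.B ≤ Nat.card A :=
        Nat.card_le_card_of_injective _ (Subgroup.inclusion_injective h1)
      rw [← L.card_U_mul, hu] at h2
      have h3 : Nat.card A * 2 ≤ Nat.card A * (u * u) :=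
        Nat.mul_le_mul_left _ (le_trans hu2 (Nat.le_mul_self u))
      have := Nat.card_pos (α := A)
      omega
    have h1 : (QuotientGroup.mk (⟨b, L.hBC b.2⟩ : C) : C ⧸ A') ∈ f.ker :=
      MonoidHom.mem_ker.2 (Subtype.ext (L.act_eq_one_of_mem b.2))
    rw [h0, Subgroup.mem_bot, QuotientGroup.eq_one_iff] at h1
    exact hb h1
  refine ⟨k, d, u, Nat.card φ.range, Nat.card (ConjClasses (C ⧸ A')), rfl, hk0, hkd, hu0, hud, hcardA,
    hqa, ?_, hdet.trans (Nat.mul_le_mul_left _ hkC'), hcent.trans (Nat.add_le_add_right hkC' 1),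
    card_classes_pos, fun h2 => ?_, fun h2 hJ => ?_, fun h2 hJ => ?_, ?_, ?_, ?_, ?_,
    fun h2 => ⟨L, by rw [hu, h2]⟩⟩
  · rw [← C.card_mul_index, mul_comm, ← φ.ker.card_mul_index, Subgroup.index_ker, ← hu, L.card_U_mul]
    exact Nat.mul_le_mul hidx (Nat.mul_le_mul_right _ hker)
  · exact le_trans (by have := card_classes_pos (X := φ.range); omega) (hJcls h2)
  · haveI : Nontrivial φ.range := Finite.one_lt_card_iff_nontrivial.1 hJ
    exact le_trans (Nat.succ_le_succ two_le_card_classes) (hJcls h2)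
  · refine le_trans (Nat.succ_le_succ ?_) (hJcls h2)
    by_contra hh
    have := card_le_six_of_classes (G := φ.range) (by omega)
    omega
  · obtain ⟨m, hm, hb⟩ := isom_le (Nat.card L.U) L.U (algA ρ A) (L.pair ι) (L.isND_pair hι) hsq rfl
    obtain rfl : m = u := Nat.mul_self_inj.1 (hm.symm.trans hu)
    exact (Nat.card_le_card_of_injective _ (Subgroup.inclusion_injective hrange)).trans hb
  · intro h2
    refine (Subgroup.card_le_card_group _).trans (card_mulAut_le.trans (le_of_eq ?_))
    rw [hu, h2]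
    rfl
  · intro hk1
    have hCtop : C = ⊤ := Subgroup.index_eq_one.1 (by
      have := (Subgroup.index_ne_zero_of_finite (H := C))
      omega)
    have hsolv : Group.IsSolvable φ.range := by
      haveI := hs
      exact Group.isSolvable_of_surjective φ.rangeRestrict_surjective
    obtain ⟨m, hm, hb⟩ := symp_order (Nat.card L.U) L.U (algA ρ A) (L.pair ι) φ.range (L.isND_pair hι)
      hrange (fun W hW hiso => L.aniso hA hι W (fun x w hw =>
        hW ⟨L.act x, ⟨⟨x, hCtop ▸ Subgroup.mem_top x⟩, rfl⟩⟩ w hw) hiso) hsolv rfl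
    obtain rfl : m = u := Nat.mul_self_inj.1 (hm.symm.trans hu)
    exact hb
  · intro _ h3
    subst h3
    haveI : Fact (Nat.Prime 3) := ⟨Nat.prime_three⟩
    have hcard : Nat.card L.U = 3 ^ 2 := hu
    have hexp : ∀ x : L.U, x ^ 3 = 1 := fun x => hsq 3 Nat.prime_three x (by
      rw [← pow_two, ← hcard]; exact pow_card_eq_one')
    obtain ⟨F, hF⟩ := exists_sl_hom (L.isND_pair hι) hexp hcard
    rcases range_sl_three (F.comp (Subgroup.inclusion hrange))
      (hF.comp (Subgroup.inclusion_injective hrange)) with h8 | h8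
    · exact Or.inl h8
    · exact Or.inr (le_trans (by rw [h8]) (hJcls (by norm_num)))

end CfsgLib.LinClasses
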