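import Cfsg.Agent.LinClasses.Symp
import Cfsg.Agent.Huppert.Main

/-!
# The symplectic layer over a maximal abelian normal subgroup of a solvable group
-/

set_option autoImplicit false

namespace CfsgLib.LinClasses

open scoped commutatorElement

/-- No isotropic subgroup other than the trivial one is stable. -/
def Aniso {U : Type*} [CommGroup U] {K : Type*} [Field K] {X : Type*} [Group X]
    (φ : X →* MulAut U) (β : U →* U →* Kˣ) : Prop :=
  ∀ W : Subgroup U, (∀ x, ∀ w ∈ W, φ x w ∈ W) → (∀ u ∈ W, ∀ v ∈ W, β u v = 1) → W = ⊥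

variable {X : Type*} [Group X]

/-- A maximal abelian normal subgroup. -/
def MaxAb (A : Subgroup X) : Prop :=
  A.Normal ∧ IsMulCommutative A ∧
    ∀ B : Subgroup X, B.Normal → IsMulCommutative B → A ≤ B → B = A

/-- A normal subgroup of class two above `A` whose centraliser is in `A`. -/
structure Layer (A : Subgroup X) where
  B : Subgroup X
  normal : B.Normal
  hAB : A ≤ B
  hBC : B ≤ Subgroup.centralizer (A : Set X)
  comm_mem : ∀ x ∈ B, ∀ y ∈ B, ⁅x, y⁆ ∈ A
  centB : Subgroup.centralizer (B : Set X) ≤ A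

theorem exists_layer [Finite X] (hs : Group.IsSolvable X) {A : Subgroup X} (hA : MaxAb A) :
    Nonempty (Layer A) := by
  classical
  haveI := hs
  haveI := hA.1
  have hc := hA.2.1
  have hAC : A ≤ Subgroup.centralizer (A : Set X) := fun a ha => Subgroup.mem_centralizer_iff.2
    fun b hb => congrArg Subtype.val (hc.is_comm.comm (⟨b, hb⟩ : A) ⟨a, ha⟩)
  let S : Set (Subgroup X) := {B | B.Normal ∧ A ≤ B ∧ B ≤ Subgroup.centralizer (A : Set X) ∧
    ∀ x ∈ B, ∀ y ∈ B, ⁅x, y⁆ ∈ A}
  obtain ⟨B, hB⟩ := (Set.toFinite S).exists_maximal ⟨A, hA.1, le_rfl, hAC, fun x hx y hy =>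
    mul_mem (mul_mem (mul_mem hx hy) (inv_mem hx)) (inv_mem hy)⟩
  obtain ⟨hBn, hAB, hBC, hcomm⟩ := hB.prop
  refine ⟨⟨B, hBn, hAB, hBC, hcomm, ?_⟩⟩
  haveI := hBn
  set D := Subgroup.centralizer (B : Set X) with hD
  haveI : D.Normal := by rw [hD]; infer_instance
  have hAD : A ≤ D := fun a ha => Subgroup.mem_centralizer_iff.2 fun b hb =>
    (Subgroup.mem_centralizer_iff.1 (hBC hb) a ha).symm
  have hDB : D ⊓ B ≤ A := by
    refine (hA.2.2 _ (Subgroup.normal_inf_normal D B) ⟨⟨fun x y => Subtype.ext
      (Subgroup.mem_centralizer_iff.1 y.2.1 x x.2.2)⟩⟩ (le_inf hAD hAB)).le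
  by_contra hle
  haveI : Group.IsSolvable (X ⧸ A) :=
    Group.isSolvable_of_surjective (f := QuotientGroup.mk' A) (QuotientGroup.mk'_surjective A)
  haveI : (D.map (QuotientGroup.mk' A)).Normal :=
    (inferInstance : D.Normal).map _ (QuotientGroup.mk'_surjective A)
  have hne : D.map (QuotientGroup.mk' A) ≠ ⊥ := fun e => hle (by
    rw [Subgroup.map_eq_bot_iff, QuotientGroup.ker_mk'] at e; exact e)
  obtain ⟨s, E, -, hEn, hEle, hE1, hEc, -⟩ := CfsgLib.Huppert.exists_elementary_le _ hne
  set E' := E.comap (QuotientGroup.mk' A) with hE'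
  have hE'D : E' ≤ D := fun b hb => by
    obtain ⟨c, hc, e⟩ := hEle hb
    have h1 : c⁻¹ * b ∈ A := QuotientGroup.eq.1 e
    have h2 := mul_mem hc (hAD h1)
    rwa [mul_inv_cancel_left] at h2
  have hE'c : ∀ x ∈ E', ∀ y ∈ E', ⁅x, y⁆ ∈ A := fun x hx y hy => by
    rw [← QuotientGroup.eq_one_iff]
    show QuotientGroup.mk' A ⁅x, y⁆ = 1
    rw [map_commutatorElement, commutatorElement_eq_one_iff_mul_comm]
    exact hEc _ hx _ hy
  haveI : E'.Normal := hEn.comap _
  have hmem : B ⊔ E' ∈ S := by
    refine ⟨Subgroup.sup_normal _ _, hAB.trans le_sup_left, sup_le hBC ?_, ?_⟩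
    · exact fun x hx => Subgroup.mem_centralizer_iff.2 fun a ha =>
        Subgroup.mem_centralizer_iff.1 (hE'D hx) a (hAB ha)
    · intro a ha b hb
      obtain ⟨c₁, hc₁, e₁, he₁, rfl⟩ := Subgroup.mem_sup_of_normal_right.mp ha
      obtain ⟨c₂, hc₂, e₂, he₂, rfl⟩ := Subgroup.mem_sup_of_normal_right.mp hb
      rw [← QuotientGroup.eq_one_iff]
      show QuotientGroup.mk' A ⁅c₁ * e₁, c₂ * e₂⁆ = 1
      have hcm : ∀ u v : X, ⁅u, v⁆ ∈ A → QuotientGroup.mk' A u * QuotientGroup.mk' A v =
          QuotientGroup.mk' A v * QuotientGroup.mk' A u := fun u v h => by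
        rw [← commutatorElement_eq_one_iff_mul_comm, ← map_commutatorElement]
        exact (QuotientGroup.eq_one_iff _).2 h
      have h1 : ∀ c ∈ B, ∀ e ∈ E', QuotientGroup.mk' A c * QuotientGroup.mk' A e =
          QuotientGroup.mk' A e * QuotientGroup.mk' A c := fun c hc e he => by
        rw [← map_mul, ← map_mul, Subgroup.mem_centralizer_iff.1 (hE'D he) c hc]
      rw [map_commutatorElement, commutatorElement_eq_one_iff_mul_comm, map_mul, map_mul]
      have hcc := hcm c₁ c₂ (hcomm _ hc₁ _ hc₂)
      have hee := hcm e₁ e₂ (hE'c _ he₁ _ he₂)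
      have hce := h1 _ hc₁ _ he₂
      have hec := (h1 _ hc₂ _ he₁).symm
      exact ((show Commute _ _ from hcc).mul_right hce).mul_left ((show Commute _ _ from hec).mul_right hee)
  have hle' : E' ≤ B := fun x hx =>
    hB.2 hmem le_sup_left (Subgroup.mem_sup_right hx)
  apply hE1
  rw [← Subgroup.map_comap_eq_self_of_surjective (QuotientGroup.mk'_surjective A) E,
    Subgroup.map_eq_bot_iff, QuotientGroup.ker_mk']
  exact fun x hx => hDB ⟨hE'D hx, hle' hx⟩

namespace Layer

variable {A : Subgroup X} (L : Layer A)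

instance : L.B.Normal := L.normal

theorem center_eq : Subgroup.center L.B = A.subgroupOf L.B := by
  ext z
  rw [Subgroup.mem_center_iff, Subgroup.mem_subgroupOf]
  exact ⟨fun h => L.centB (Subgroup.mem_centralizer_iff.2 fun b hb => congrArg Subtype.val (h ⟨b, hb⟩)),
    fun h b => Subtype.ext (Subgroup.mem_centralizer_iff.1 (L.hBC b.2) _ h).symm⟩

theorem hcomm (x y : L.B) : ⁅x, y⁆ ∈ Subgroup.center L.B := by
  rw [L.center_eq, Subgroup.mem_subgroupOf]
  exact L.comm_mem _ x.2 _ y.2

/-- The layer. -/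
abbrev U : Type _ := L.B ⧸ Subgroup.center L.B

instance : CommGroup L.U :=
  { (inferInstance : Group L.U) with
    mul_comm := fun a b => by
      induction a using QuotientGroup.induction_on with
      | H x => induction b using QuotientGroup.induction_on with
        | H y =>
          rw [← commutatorElement_eq_one_iff_mul_comm]
          show (QuotientGroup.mk' (Subgroup.center L.B)) ⁅x, y⁆ = 1
          exact (QuotientGroup.eq_one_iff _).2 (L.hcomm x y) }

/-- The action on the layer. -/
def act : X →* MulAut L.U where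
  toFun g := QuotientGroup.congr _ _ (MulAut.conjNormal g)
    (Subgroup.characteristic_iff_map_eq.1 inferInstance _)
  map_one' := by
    refine MulEquiv.ext fun w => ?_
    induction w using QuotientGroup.induction_on with
    | H z => rw [map_one]; rfl
  map_mul' g g' := by
    refine MulEquiv.ext fun w => ?_
    induction w using QuotientGroup.induction_on with
    | H z => rw [map_mul]; rfl

theorem act_mk (g : X) (x : L.B) :
    L.act g (QuotientGroup.mk x) = QuotientGroup.mk (MulAut.conjNormal g x) := rfl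

variable {K : Type*} [Field K]

/-- The commutator character. -/
def pre (ι : A →* Kˣ) (x : L.B) : L.B →* Kˣ where
  toFun y := ι ⟨⁅(x : X), y⁆, L.comm_mem _ x.2 _ y.2⟩
  map_one' := by
    rw [← map_one ι]; congr 1; exact Subtype.ext (by simp)
  map_mul' a b := by
    rw [← map_mul]
    congr 1
    have h := congrArg Subtype.val (CfsgLib.Huppert.commutator_mul_right L.hcomm x a b)
    exact Subtype.ext h

theorem pre_center (ι : A →* Kˣ) (x y : L.B) (hy : y ∈ Subgroup.center L.B) : L.pre ι x y = 1 := by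
  show ι _ = 1
  rw [← map_one ι]
  congr 1
  have h := congrArg Subtype.val
    (commutatorElement_eq_one_iff_mul_comm.2 (Subgroup.mem_center_iff.1 hy x))
  exact Subtype.ext h

theorem center_pre (ι : A →* Kˣ) (x y : L.B) (hx : x ∈ Subgroup.center L.B) : L.pre ι x y = 1 := by
  show ι _ = 1
  rw [← map_one ι]
  congr 1
  have h := congrArg Subtype.val
    (commutatorElement_eq_one_iff_mul_comm.2 (Subgroup.mem_center_iff.1 hx y).symm)
  exact Subtype.ext h

/-- The commutator pairing. -/
def pair (ι : A →* Kˣ) : L.U →* L.U →* Kˣ :=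
  QuotientGroup.lift _
    (MonoidHom.mk' (fun x => QuotientGroup.lift _ (L.pre ι x) fun y hy => L.pre_center ι x y hy)
      fun a b => MonoidHom.ext fun w => by
        induction w using QuotientGroup.induction_on with
        | H y =>
          show ι _ = ι _ * ι _
          rw [← map_mul]
          congr 1
          have h := congrArg Subtype.val (CfsgLib.Huppert.commutator_mul_left L.hcomm a b y)
          exact Subtype.ext h)
    fun x hx => MonoidHom.ext fun w => by
      induction w using QuotientGroup.induction_on with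
      | H y => exact L.center_pre ι x y hx

theorem pair_mk (ι : A →* Kˣ) (x y : L.B) :
    L.pair ι (QuotientGroup.mk x) (QuotientGroup.mk y) = ι ⟨⁅(x : X), y⁆, L.comm_mem _ x.2 _ y.2⟩ := rfl

theorem isND_pair {ι : A →* Kˣ} (hι : Function.Injective ι) : IsND (L.pair ι) where
  alt u := by
    induction u using QuotientGroup.induction_on with
    | H x =>
      rw [pair_mk, ← map_one ι]
      congr 1
      exact Subtype.ext (by simp)
  nd u hu := by
    induction u using QuotientGroup.induction_on with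
    | H x =>
      refine (QuotientGroup.eq_one_iff _).2 (Subgroup.mem_center_iff.2 fun y => Subtype.ext ?_)
      have h := hu (QuotientGroup.mk y)
      rw [pair_mk, ← map_one ι] at h
      exact (commutatorElement_eq_one_iff_mul_comm.1 (congrArg Subtype.val (hι h))).symm

theorem act_mem_isom (ι : A →* Kˣ) {g : X} (hg : g ∈ Subgroup.centralizer (A : Set X)) :
    L.act g ∈ isomGroup (L.pair ι) := by
  intro u v
  induction u using QuotientGroup.induction_on with
  | H x => induction v using QuotientGroup.induction_on with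
    | H y =>
      rw [act_mk, act_mk, pair_mk, pair_mk]
      congr 1
      refine Subtype.ext ?_
      have h := Subgroup.mem_centralizer_iff.1 hg _ (L.comm_mem _ x.2 _ y.2)
      simp only [MulAut.conjNormal_apply]
      rw [← conjugate_commutatorElement, ← h, mul_inv_cancel_right]

theorem aniso (hA : MaxAb A) {ι : A →* Kˣ} (hι : Function.Injective ι) :
    Aniso L.act (L.pair ι) := by
  intro W hW hiso
  set W' := (W.comap (QuotientGroup.mk' (Subgroup.center L.B))).map L.B.subtype with hW'
  have hn : W'.Normal := by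
    refine ⟨?_⟩
    rintro _ ⟨b, hb, rfl⟩ g
    exact ⟨MulAut.conjNormal g b, hW g _ hb, rfl⟩
  have hc : IsMulCommutative W' := ⟨⟨by
    rintro ⟨_, x, hx, rfl⟩ ⟨_, y, hy, rfl⟩
    refine Subtype.ext ?_
    have h := hiso _ hx _ hy
    change L.pair ι (QuotientGroup.mk x) (QuotientGroup.mk y) = 1 at h
    rw [pair_mk, ← map_one ι] at h
    exact commutatorElement_eq_one_iff_mul_comm.1 (congrArg Subtype.val (hι h))⟩⟩
  have hle : A ≤ W' := fun a ha => by
    refine ⟨⟨a, L.hAB ha⟩, ?_, rfl⟩
    show (QuotientGroup.mk (⟨a, L.hAB ha⟩ : L.B) : L.U) ∈ W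
    rw [(QuotientGroup.eq_one_iff _).2 (by rw [L.center_eq]; exact ha)]
    exact one_mem W
  have he := hA.2.2 W' hn hc hle
  rw [eq_bot_iff]
  intro u hu
  induction u using QuotientGroup.induction_on with
  | H x =>
    rw [Subgroup.mem_bot, QuotientGroup.eq_one_iff, L.center_eq, Subgroup.mem_subgroupOf]
    exact he.le ⟨x, hu, rfl⟩

theorem act_eq_one_of_mem {g : X} (hg : g ∈ L.B) : L.act g = 1 := by
  refine MulEquiv.ext fun u => ?_
  induction u using QuotientGroup.induction_on with
  | H x =>
    rw [act_mk, MulAut.one_apply, QuotientGroup.eq, L.center_eq, Subgroup.mem_subgroupOf]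
    have h := L.comm_mem _ hg _ (inv_mem x.2)
    have e : (((MulAut.conjNormal g x)⁻¹ * x : L.B) : X) = ⁅g, (x : X)⁻¹⁆ := by
      simp [commutatorElement_def, mul_assoc]
    rwa [e]

theorem mem_of_act_eq_one [Finite X] {ι : A →* Kˣ} (hι : Function.Injective ι) {g : X}
    (hg : g ∈ Subgroup.centralizer (A : Set X)) (h : L.act g = 1) : g ∈ L.B := by
  have hmem : ∀ y : L.B, ⁅g, (y : X)⁆ ∈ A := fun y => by
    have h1 := DFunLike.congr_fun h (QuotientGroup.mk y⁻¹ : L.U)
    rw [act_mk, MulAut.one_apply, QuotientGroup.eq, L.center_eq, Subgroup.mem_subgroupOf] at h1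
    have e : (((MulAut.conjNormal g y⁻¹)⁻¹ * y⁻¹ : L.B) : X) = ⁅g, (y : X)⁆ := by
      simp [commutatorElement_def, mul_assoc]
    rwa [e] at h1
  let χ₀ : L.B →* Kˣ :=
    { toFun := fun y => ι ⟨⁅g, (y : X)⁆, hmem y⟩
      map_one' := by rw [← map_one ι]; congr 1; exact Subtype.ext (by simp)
      map_mul' := fun a b => by
        rw [← map_mul]
        congr 1
        refine Subtype.ext ?_
        show ⁅g, (a : X) * b⁆ = ⁅g, (a : X)⁆ * ⁅g, (b : X)⁆
        have e : (a : X) * ⁅g, (b : X)⁆ * (a : X)⁻¹ = ⁅g, (b : X)⁆ := by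
          rw [← Subgroup.mem_centralizer_iff.1 (L.hBC a.2) _ (hmem b), mul_inv_cancel_right]
        calc ⁅g, (a : X) * b⁆ = ⁅g, (a : X)⁆ * ((a : X) * ⁅g, (b : X)⁆ * (a : X)⁻¹) := by
              simp only [commutatorElement_def]; group
          _ = _ := by rw [e] }
  let χ : L.U →* Kˣ := QuotientGroup.lift _ χ₀ fun y hy => by
    show ι _ = 1
    rw [← map_one ι]
    congr 1
    refine Subtype.ext (commutatorElement_eq_one_iff_mul_comm.2 ?_)
    rw [L.center_eq] at hy
    exact (Subgroup.mem_centralizer_iff.1 hg _ hy).symm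
  obtain ⟨u, hu⟩ := (L.isND_pair hι).exists_eq χ
  obtain ⟨b, rfl⟩ := QuotientGroup.mk_surjective u
  have hb : (b : X)⁻¹ * g ∈ A := L.centB (Subgroup.mem_centralizer_iff.2 fun y hy => by
    have h1 := DFunLike.congr_fun hu (QuotientGroup.mk (⟨y, hy⟩ : L.B))
    rw [pair_mk] at h1
    have h2 : ⁅(b : X), y⁆ = ⁅g, y⁆ := congrArg Subtype.val (hι h1)
    have h3 : (b : X) * y * (b : X)⁻¹ = g * y * g⁻¹ := mul_right_cancel h2
    calc y * ((b : X)⁻¹ * g) = (b : X)⁻¹ * ((b : X) * y * (b : X)⁻¹) * g := by group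
      _ = (b : X)⁻¹ * g * y := by rw [h3]; group)
  have h4 := mul_mem b.2 (L.hAB hb)
  rwa [mul_inv_cancel_left] at h4

theorem card_U_mul [Finite X] : Nat.card A * Nat.card L.U = Nat.card L.B := by
  rw [← (Subgroup.center L.B).card_mul_index, ← Subgroup.index_eq_card, L.center_eq,
    Nat.card_congr (Subgroup.subgroupOfEquivOfLe L.hAB).toEquiv]

theorem isNilpotent : Group.IsNilpotent L.B :=
  haveI : Group.IsNilpotent L.U := inferInstance
  Group.of_quotient_center_nilpotent inferInstance

/-- The layer is small in a representation on which `A` acts by scalars. -/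
theorem card_U_le [Finite X] {V : Type*} [AddCommGroup V] [Module K V] [FiniteDimensional K V]
    [Nontrivial V] {ι : A →* Kˣ} (hι : Function.Injective ι) (σ : L.B →* Module.End K V)
    (hσ : ∀ (a : A) (v : V), σ ⟨a, L.hAB a.2⟩ v = (ι a : K) • v) :
    Nat.card L.U ≤ Module.finrank K V * Module.finrank K V := by
  classical
  haveI : Fintype L.U := Fintype.ofFinite _
  have hinv : ∀ y : L.B, ∀ v : V, σ y⁻¹ (σ y v) = v := fun y v => by
    rw [← Module.End.mul_apply, ← map_mul, inv_mul_cancel, map_one, Module.End.one_apply]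
  have hli : LinearIndependent K (fun q : L.U => σ q.out) := by
    rw [Fintype.linearIndependent_iff]
    intro c hsum q₀
    by_contra hne
    obtain ⟨v, hv⟩ := exists_ne (0 : V)
    have hw : σ q₀.out v ≠ 0 := fun h0 => hv (by rw [← hinv q₀.out v, h0, map_zero])
    obtain ⟨φ, hφ⟩ : ∃ φ : Module.Dual K V, φ (σ q₀.out v) ≠ 0 := by
      by_contra! hall
      exact hw ((Module.forall_dual_apply_eq_zero_iff K _).1 hall)
    let F : L.U → (L.U →* K) := fun q => (Units.coeHom K).comp (L.pair ι q)
    have hchar : ∀ y : L.B, ∑ q : L.U, (c q * φ (σ q.out v)) * F q⁻¹ (QuotientGroup.mk y) = 0 := by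
      intro y
      have h1 : σ y ((∑ q : L.U, c q • σ q.out) (σ y⁻¹ v)) = 0 := by
        rw [hsum, LinearMap.zero_apply, map_zero]
      rw [LinearMap.sum_apply, map_sum] at h1
      have h2 := congrArg φ h1
      rw [map_sum, map_zero] at h2
      rw [← h2]
      refine Finset.sum_congr rfl fun q _ => ?_
      rw [LinearMap.smul_apply, map_smul, map_smul, ← Module.End.mul_apply, ← Module.End.mul_apply,
        ← map_mul, ← map_mul]
      have e : y * q.out * y⁻¹ = ⟨⁅(y : X), (q.out : L.B)⁆, L.hAB (L.comm_mem _ y.2 _ q.out.2)⟩ * q.out :=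
        Subtype.ext (by simp [commutatorElement_def])
      rw [e, map_mul, Module.End.mul_apply, hσ ⟨_, L.comm_mem _ y.2 _ q.out.2⟩, map_smul,
        smul_eq_mul, smul_eq_mul]
      have hF : F q⁻¹ (QuotientGroup.mk y) =
          (ι ⟨⁅(y : X), (q.out : L.B)⁆, L.comm_mem _ y.2 _ q.out.2⟩ : K) := by
        show ((L.pair ι q⁻¹ (QuotientGroup.mk y) : Kˣ) : K) = _
        rw [map_inv, MonoidHom.inv_apply, ← (L.isND_pair hι).skew]
        conv_lhs => rw [← QuotientGroup.out_eq' q]
        rfl
      rw [hF]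
      ring
    have hinj : Function.Injective (fun q : L.U => F q⁻¹) := by
      intro p p' h
      refine inv_injective ((L.isND_pair hι).injective (MonoidHom.ext fun w => Units.ext ?_))
      exact DFunLike.congr_fun h w
    have hli' := (linearIndependent_monoidHom L.U K).comp _ hinj
    rw [Fintype.linearIndependent_iff] at hli'
    have h0 := hli' (fun q => c q * φ (σ q.out v)) (funext fun w => by
      rw [Finset.sum_apply, Pi.zero_apply]
      obtain ⟨y, rfl⟩ := QuotientGroup.mk_surjective w
      exact hchar y) q₀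
    exact (mul_ne_zero hne hφ) h0
  have h := hli.fintype_card_le_finrank
  rw [Module.finrank_linearMap] at h
  rwa [Nat.card_eq_fintype_card]

end Layer

end CfsgLib.LinClasses
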