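import Cfsg.Agent.LinClasses.Blocks
import Cfsg.Agent.LinClasses.Layer
import Mathlib.LinearAlgebra.Matrix.GeneralLinearGroup.Card
import Mathlib.LinearAlgebra.FiniteDimensional.Basic

/-!
# Orders of small irreducible solvable linear groups over prime fields
-/

set_option autoImplicit false
set_option linter.style.haveILetI false

namespace CfsgLib.LinClasses

/-- Every irreducible solvable subgroup of `GL(n,p)` has order at most `b`. -/
def Bnd (p : ℕ) [Fact p.Prime] (n b : ℕ) : Prop :=
  ∀ (V : Type) [AddCommGroup V] [Module (ZMod p) V] [Finite V] (X : Type) [Group X] [Finite X]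
    (ρ : Representation (ZMod p) X V), Function.Injective ρ → Irr ρ → Group.IsSolvable X →
      Module.finrank (ZMod p) V = n → Nat.card X ≤ b

/-- The bound for anisotropic solvable groups on a layer of order sixteen. -/
def FourBound : Prop :=
  ∀ (U : Type) [CommGroup U] [Finite U] (K : Type) [Field K] (β : U →* U →* Kˣ)
    (Y : Subgroup (MulAut U)), IsND β → Y ≤ isomGroup β → Aniso Y.subtype β → Group.IsSolvable Y →
      Nat.card U = 16 → Nat.card Y ≤ 72

variable {p : ℕ} [hp : Fact p.Prime]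

theorem bnd_gl (n : ℕ) : Bnd p n (∏ i : Fin n, (p ^ n - p ^ (i : ℕ))) := by
  intro V _ _ _ X _ _ ρ hρ _ _ hn
  classical
  haveI : Module.Finite (ZMod p) V := Module.Finite.of_finite
  let b : Module.Basis (Fin n) (ZMod p) V := Module.finBasisOfFinrankEq _ _ hn
  let f : X → GL (Fin n) (ZMod p) := fun x =>
    Units.map (LinearMap.toMatrixAlgEquiv b).toMonoidHom (ρ.asGroupHom x)
  have hf : Function.Injective f := fun x y h => hρ (by
    have h1 := congrArg Units.val h
    have h2 := (LinearMap.toMatrixAlgEquiv b).injective h1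
    simpa [Representation.asGroupHom_apply] using h2)
  refine (Nat.card_le_card_of_injective f hf).trans (le_of_eq ?_)
  rw [Matrix.card_GL_field, ZMod.card]

section

variable {V : Type} [AddCommGroup V] [Module (ZMod p) V] [Finite V] {X : Type} [Group X] [Finite X]
  {ρ : Representation (ZMod p) X V}

theorem eq_bot_of_pGroup (hρ : Function.Injective ρ) (hirr : Irr ρ) (P : Subgroup X) [hn : P.Normal]
    (hP : IsPGroup p P) : P = ⊥ := by
  classical
  haveI : Module.Finite (ZMod p) V := Module.Finite.of_finite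
  haveI := hirr.1
  letI : MulAction P V :=
    { smul := fun g v => ρ (g : X) v
      one_smul := fun v => by show ρ ((1 : P) : X) v = v; simp
      mul_smul := fun a b v => by
        show ρ ((a * b : P) : X) v = ρ (a : X) (ρ (b : X) v)
        simp }
  let F : Submodule (ZMod p) V :=
    { carrier := {v | ∀ g ∈ P, ρ g v = v}
      zero_mem' := fun g _ => map_zero _
      add_mem' := fun {a b} ha hb g hg => by rw [map_add, ha g hg, hb g hg]
      smul_mem' := fun c {a} ha g hg => by rw [map_smul, ha g hg] }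
  have hF : ∀ x, ∀ v ∈ F, ρ x v ∈ F := fun x v hv g hg => by
    have h := hv _ (hn.conj_mem g hg x⁻¹)
    rw [inv_inv, map_mul, map_mul, Module.End.mul_apply, Module.End.mul_apply] at h
    conv_rhs => rw [← h]
    rw [← Module.End.mul_apply (ρ x), rho_mul_inv, Module.End.one_apply]
  rcases hirr.2 F hF with h | h
  · exfalso
    have hdvd : p ∣ Nat.card V := by
      rw [Module.natCard_eq_pow_finrank (K := ZMod p), Nat.card_zmod]
      exact dvd_pow_self p Module.finrank_pos.ne'
    obtain ⟨v, hv, hne⟩ := hP.exists_fixed_point_of_prime_dvd_card_of_fixed_point V hdvd (a := 0)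
      (fun g => map_zero (ρ (g : X)))
    refine hne.symm ((Submodule.mem_bot (ZMod p)).1 (h ▸ ?_ : v ∈ (⊥ : Submodule (ZMod p) V)))
    exact fun g hg => hv ⟨g, hg⟩
  · rw [eq_bot_iff]
    intro g hg
    refine Subgroup.mem_bot.2 (hρ ?_)
    rw [map_one]
    exact LinearMap.ext fun v => (h ▸ Submodule.mem_top : v ∈ F) g hg

theorem not_dvd_card_of_comm (hρ : Function.Injective ρ) (hirr : Irr ρ) (A : Subgroup X) [hn : A.Normal]
    [hA : IsMulCommutative A] : ¬ p ∣ Nat.card A := by
  intro h
  let P : Subgroup X :=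
    { carrier := {a | a ∈ A ∧ a ^ p = 1}
      one_mem' := ⟨one_mem A, one_pow p⟩
      mul_mem' := fun {a b} ha hb => ⟨mul_mem ha.1 hb.1, by
        rw [(show Commute a b from congrArg Subtype.val
          (hA.is_comm.comm (⟨a, ha.1⟩ : A) ⟨b, hb.1⟩)).mul_pow, ha.2, hb.2, one_mul]⟩
      inv_mem' := fun {a} ha => ⟨inv_mem ha.1, by rw [inv_pow, ha.2, inv_one]⟩ }
  haveI : P.Normal := ⟨fun a ha g => ⟨hn.conj_mem a ha.1 g, by rw [conj_pow, ha.2, mul_one, mul_inv_cancel]⟩⟩
  have hP := eq_bot_of_pGroup hρ hirr P (fun a => ⟨1, Subtype.ext (by simpa using a.2.2)⟩)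
  obtain ⟨a, ha⟩ := exists_prime_orderOf_dvd_card' p h
  have h1 : (a : X) ∈ P := ⟨a.2, by rw [← SubmonoidClass.coe_pow, ← ha, pow_orderOf_eq_one]; rfl⟩
  rw [hP, Subgroup.mem_bot, OneMemClass.coe_eq_one] at h1
  rw [h1, orderOf_one] at ha
  exact hp.out.ne_one ha.symm

theorem not_dvd_card_of_nilpotent (hρ : Function.Injective ρ) (hirr : Irr ρ) (B : Subgroup X)
    [hn : B.Normal] [Group.IsNilpotent B] : ¬ p ∣ Nat.card B := by
  intro h
  obtain ⟨P⟩ : Nonempty (Sylow p B) := Sylow.nonempty
  haveI hPn : (P : Subgroup B).Normal := Sylow.normal_of_normalizerCondition Group.normalizerCondition_of_isNilpotent P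
  haveI := P.characteristic_of_normal hPn
  haveI : ((P : Subgroup B).map B.subtype).Normal := ConjAct.normal_of_characteristic_of_normal
  have hP := eq_bot_of_pGroup hρ hirr ((P : Subgroup B).map B.subtype) (P.isPGroup'.map _)
  rw [Subgroup.map_eq_bot_iff_of_injective _ B.subtype_injective] at hP
  exact P.ne_bot_of_dvd_card h hP

theorem field_bound (hρ : Function.Injective ρ) (hirr : Irr ρ) (hs : Group.IsSolvable X)
    {A : Subgroup X} (hA : MaxAb A) (hF : IsField (algA ρ A)) :
    ∃ d u J : ℕ, Module.finrank (ZMod p) (algA ρ A) * d = Module.finrank (ZMod p) V ∧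
      0 < u ∧ u ≤ d ∧ ¬ p ∣ u ∧
      Nat.card A ∣ p ^ Module.finrank (ZMod p) (algA ρ A) - 1 ∧
      Nat.card X ≤ Module.finrank (ZMod p) (algA ρ A) * (Nat.card A * (u * u) * J) ∧
      J ≤ (u * u - 1).factorial ∧ (u.Prime → J ≤ u ^ 3) ∧
      (u = 4 → Module.finrank (ZMod p) (algA ρ A) = 1 → FourBound → J ≤ 72) := by
  classical
  obtain ⟨L⟩ := exists_layer hs hA
  haveI := hA.1
  haveI := hA.2.1
  haveI := hirr.1
  haveI : Module.Finite (ZMod p) V := Module.Finite.of_finite
  haveI : Finite (Module.End (ZMod p) V) := Finite.of_injective _ DFunLike.coe_injective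
  haveI : Finite (algA ρ A) := Finite.of_injective _ Subtype.val_injective
  letI : Field (algA ρ A) := hF.toField
  letI : Module (algA ρ A) V := Module.compHom V ((algA ρ A).val.toRingHom)
  haveI : IsScalarTower (ZMod p) (algA ρ A) V := ⟨fun r b v => rfl⟩
  haveI : Module.Finite (algA ρ A) V := Module.Finite.of_finite
  haveI : Module.Finite (ZMod p) (algA ρ A) := Module.Finite.of_finite
  set k := Module.finrank (ZMod p) (algA ρ A) with hk
  set d := Module.finrank (algA ρ A) V with hd
  have hkd : k * d = Module.finrank (ZMod p) V := Module.finrank_mul_finrank _ _ _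
  let ι₀ : A →* algA ρ A :=
    { toFun := fun a => ⟨ρ a, rho_mem_algA a.2⟩
      map_one' := Subtype.ext (map_one ρ)
      map_mul' := fun a b => Subtype.ext (map_mul ρ (a : X) b) }
  have hι₀ : Function.Injective ι₀ := fun a b h => Subtype.ext (hρ (congrArg Subtype.val h))
  let ι : A →* (algA ρ A)ˣ := ι₀.toHomUnits
  have hι : Function.Injective ι := fun a b h => hι₀ (congrArg Units.val h)
  set C := Subgroup.centralizer (A : Set X) with hC
  let σ : L.B →* Module.End (algA ρ A) V :=
    { toFun := fun x =>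
        { toFun := fun v => ρ (x : X) v
          map_add' := fun v w => map_add _ v w
          map_smul' := fun b v => LinearMap.congr_fun (commute_algA (L.hBC x.2) b.2) v }
      map_one' := LinearMap.ext fun v => by simp
      map_mul' := fun x y => LinearMap.ext fun v => by
        show ρ ((x * y : L.B) : X) v = ρ (x : X) (ρ (y : X) v)
        rw [Subgroup.coe_mul, map_mul, Module.End.mul_apply] }
  have hU := L.card_U_le hι σ (fun a v => rfl)
  obtain ⟨u, hu⟩ : ∃ u, Nat.card L.U = u * u := by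
    let ι' : Subgroup.center L.B →* algA ρ A :=
      { toFun := fun z => ι₀ ⟨((z : L.B) : X), Subgroup.mem_subgroupOf.1 (L.center_eq.le z.2)⟩
        map_one' := ι₀.map_one
        map_mul' := fun a b => by rw [← ι₀.map_mul]; rfl }
    have hι' : Function.Injective ι' := fun a b h => by
      have h1 := hι₀ h
      have h2 := congrArg (fun z : A => (z : X)) h1
      exact Subtype.ext (Subtype.ext h2)
    obtain ⟨S, hS⟩ := CfsgLib.Huppert.exists_sq_index_center L.hcomm ι' hι'
    exact ⟨S, by rw [← Subgroup.index_eq_card, hS]⟩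
  rw [hu] at hU
  have hu0 : 0 < u := Nat.pos_of_ne_zero fun h => by
    rw [h] at hu
    exact Nat.card_pos.ne' (hu.trans (mul_zero 0))
  have hpu : ¬ p ∣ u := fun h => by
    haveI := L.isNilpotent
    refine not_dvd_card_of_nilpotent hρ hirr L.B ?_
    rw [← L.card_U_mul, hu]
    exact Dvd.dvd.mul_left (h.mul_right u) _
  have hcardA : Nat.card A ∣ p ^ k - 1 := by
    have h := Subgroup.card_dvd_of_injective ι hι
    rwa [Nat.card_units, Module.natCard_eq_pow_finrank (K := ZMod p) (V := algA ρ A), Nat.card_zmod] at h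
  have hidx : C.index ≤ k := by
    have hle : (conjAlg (ρ := ρ) A).ker ≤ C := fun x hx => Subgroup.mem_centralizer_iff.2 fun a ha => by
      have h1 := congrArg Subtype.val (DFunLike.congr_fun (MonoidHom.mem_ker.1 hx)
        (⟨ρ a, rho_mem_algA ha⟩ : algA ρ A))
      rw [conjAlg_apply, ← map_mul, ← map_mul] at h1
      exact (mul_inv_eq_iff_eq_mul.1 (hρ h1)).symm
    refine (Nat.le_of_dvd (Nat.pos_of_ne_zero Subgroup.index_ne_zero_of_finite)
      (Subgroup.index_dvd_of_le hle)).trans ?_
    rw [Subgroup.index_ker]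
    refine (Subgroup.card_le_card_group _).trans ?_
    rw [Nat.card_eq_fintype_card]
    exact AlgEquiv.card_le
  haveI : Finite (MulAut L.U) := Finite.of_injective _ DFunLike.coe_injective
  set φ : C →* MulAut L.U := L.act.comp C.subtype with hφ
  have hker : Nat.card φ.ker ≤ Nat.card L.B :=
    Nat.card_le_card_of_injective (fun g => (⟨((g : C) : X), L.mem_of_act_eq_one hι (g : C).2 g.2⟩ : L.B))
      fun a b h => Subtype.ext (Subtype.ext (congrArg (fun z : L.B => (z : X)) h))
  have hrange : φ.range ≤ isomGroup (L.pair ι) := by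
    rintro _ ⟨g, rfl⟩
    exact L.act_mem_isom ι g.2
  refine ⟨d, u, Nat.card φ.range, hkd, hu0, Nat.mul_self_le_mul_self_iff.1 hU, hpu, hcardA, ?_, ?_, ?_, ?_⟩
  · rw [← C.card_mul_index, mul_comm, ← φ.ker.card_mul_index, Subgroup.index_ker, ← hu, L.card_U_mul]
    exact Nat.mul_le_mul hidx (Nat.mul_le_mul_right _ hker)
  · rw [← hu]
    exact (Subgroup.card_le_card_group _).trans card_mulAut_le
  · intro huP
    haveI := Fact.mk huP
    have hexp : ∀ w : L.U, w ^ u = 1 := by
      intro w
      let f : L.U →* L.U := powMonoidHom u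
      have h := L.aniso hA hι f.range (fun x v hv => by
        obtain ⟨v', rfl⟩ := hv
        exact ⟨L.act x v', by simp [f]⟩) (by
          rintro _ ⟨a, rfl⟩ _ ⟨b, rfl⟩
          simp only [f, powMonoidHom_apply]
          rw [map_pow, map_pow, MonoidHom.pow_apply, ← pow_mul, ← map_pow, ← hu, pow_card_eq_one', map_one])
      have h1 : f w ∈ f.range := ⟨w, rfl⟩
      rwa [h, Subgroup.mem_bot] at h1
    obtain ⟨a, ha, hb⟩ := card_isom_le (L.isND_pair hι) hexp
    have ha1 : a = 1 := by
      rw [hu, ← pow_two] at ha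
      have := Nat.pow_right_injective huP.two_le ha
      omega
    rw [ha1] at hb
    exact (Nat.card_le_card_of_injective _ (Subgroup.inclusion_injective hrange)).trans hb
  · intro h4 hk1 hFB
    have hCtop : C = ⊤ := Subgroup.index_eq_one.1 (by
      have := (Subgroup.index_ne_zero_of_finite (H := C))
      omega)
    have hsolv : Group.IsSolvable φ.range := by
      haveI := hs
      exact Group.isSolvable_of_surjective φ.rangeRestrict_surjective
    refine hFB L.U (algA ρ A) (L.pair ι) φ.range (L.isND_pair hι) hrange ?_ hsolv (by rw [hu, h4])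
    intro W hW hiso
    refine L.aniso hA hι W (fun x w hw => ?_) hiso
    exact hW ⟨L.act x, ⟨⟨x, hCtop ▸ Subgroup.mem_top x⟩, rfl⟩⟩ w hw

/-- The case analysis. -/
theorem irr_cases (hρ : Function.Injective ρ) (hirr : Irr ρ) (hs : Group.IsSolvable X) :
    Nat.card X ≤ 1 ∨
    (∃ d m : ℕ, 2 ≤ m ∧ d * m = Module.finrank (ZMod p) V ∧ ∀ b, Bnd p d b → Nat.card X ≤ b ^ m * m.factorial) ∨
    (∃ a k d u J : ℕ, 0 < k ∧ k * d = Module.finrank (ZMod p) V ∧ 0 < u ∧ u ≤ d ∧ ¬ p ∣ u ∧
      1 < a ∧ a ∣ p ^ k - 1 ∧ Nat.card X ≤ k * (a * (u * u) * J) ∧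
      J ≤ (u * u - 1).factorial ∧ (u.Prime → J ≤ u ^ 3) ∧ (u = 4 → k = 1 → FourBound → J ≤ 72)) := by
  classical
  by_cases h1 : Nat.card X ≤ 1
  · exact Or.inl h1
  right
  haveI : Module.Finite (ZMod p) V := Module.Finite.of_finite
  haveI := hirr.1
  obtain ⟨A, hAn, hAc, hmax⟩ := CfsgLib.Huppert.exists_maximal_abelian_normal (G := X)
  haveI := hAn
  haveI := hAc
  have hAne : A ≠ ⊥ := by
    intro hb
    haveI := hs
    have htop : (⊤ : Subgroup X) ≠ ⊥ := fun h => h1 (by
      rw [← Subgroup.card_top (G := X), h, Subgroup.card_bot])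
    obtain ⟨s, E, -, hEn, -, hE1, hEc, -⟩ := CfsgLib.Huppert.exists_elementary_le (⊤ : Subgroup X) htop
    exact hE1 ((hmax E hEn ⟨⟨fun x y => Subtype.ext (hEc x x.2 y y.2)⟩⟩ (hb ▸ bot_le)).trans hb)
  haveI : NeZero (Nat.card A : ZMod p) :=
    ⟨fun h => not_dvd_card_of_comm hρ hirr A ((ZMod.natCast_eq_zero_iff _ _).1 h)⟩
  rcases dichotomy (ρ := ρ) A with hF | ⟨⟨S⟩⟩
  · right
    obtain ⟨d, u, J, h2, h3, h4, h5, h6, h7, h8, h9, h10⟩ :=
      field_bound hρ hirr hs ⟨hAn, hAc, hmax⟩ hF
    have ha : 1 < Nat.card A := Subgroup.one_lt_card_iff_ne_bot _ |>.2 hAne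
    refine ⟨_, _, d, u, J, Nat.pos_of_ne_zero fun h => ?_, h2, h3, h4, h5, ha, h6, h7, h8, h9, h10⟩
    rw [h, pow_zero] at h6
    rw [h] at h7
    have := Nat.card_pos (α := X)
    omega
  · left
    refine ⟨Module.finrank (ZMod p) (S.W ⟨0, by have := S.two; omega⟩), S.m, S.two,
      S.finrank_mul hirr _, fun b hb => ?_⟩
    refine (S.card_le hρ (fun _ => b) fun i => ?_).trans (le_of_eq (by simp))
    haveI := S.finite_blockGroup i
    exact hb _ _ (S.tautRep i) (S.tautRep_injective i) (S.irr_tautRep hirr i)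
      (S.isSolvable_blockGroup hs i) (S.finrank_eq_of_irr hirr i _)

end

end CfsgLib.LinClasses
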