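import Cfsg.Agent.LinClasses.GFBound
import Cfsg.Agent.LinClasses.ClassSquare
import Cfsg.Agent.Constrained.Fitting

/-!
# The class number against primes dividing the index of the Fitting subgroup
-/

set_option autoImplicit false
set_option linter.style.haveILetI false

namespace CfsgLib.LinClasses

open scoped commutatorElement

/-- The classes inside an abelian normal subgroup, over a normal subgroup centralising it. -/
theorem classes_in_centralized {G : Type} [Group G] [Finite G] (V C : Subgroup G) [V.Normal] [C.Normal]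
    (hVC : V ≤ C) (hC : C ≤ Subgroup.centralizer (V : Set G)) :
    ∃ x, Nat.card (ConjClasses (G ⧸ C)) + x ≤ Nat.card (ConjClasses G) ∧
      Nat.card V ≤ x * C.index + 1 := by
  classical
  haveI := finite_classes (G := G)
  haveI := finite_classes (G := G ⧸ C)
  set f := QuotientGroup.mk' C with hf
  let S := {c : ConjClasses G // c ≠ ConjClasses.mk 1 ∧ ∃ v ∈ V, ConjClasses.mk v = c}
  let s := Function.surjInv (ConjClasses.map_surjective (f := f) (QuotientGroup.mk'_surjective C))
  have hs : ∀ q, ConjClasses.map f (s q) = q := Function.surjInv_eq _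
  let Φ : S ⊕ ConjClasses (G ⧸ C) → ConjClasses G :=
    Sum.elim Subtype.val fun q => if q = ConjClasses.mk 1 then ConjClasses.mk 1 else s q
  have hmap : ∀ q, ConjClasses.map f (Φ (Sum.inr q)) = q := by
    intro q
    simp only [Φ, Sum.elim_inr]
    split_ifs with h
    · rw [map_mk, map_one, h]
    · exact hs q
  have hS : ∀ a : S, ConjClasses.map f (Φ (Sum.inl a)) = ConjClasses.mk 1 := by
    rintro ⟨_, -, v, hv, rfl⟩
    simp only [Φ, Sum.elim_inl]
    rw [map_mk]
    exact congrArg ConjClasses.mk ((QuotientGroup.eq_one_iff v).2 (hVC hv))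
  have hΦ : Function.Injective Φ := by
    rintro (a | a) (b | b) h
    · exact congrArg Sum.inl (Subtype.ext h)
    · exfalso
      have h1 := congrArg (ConjClasses.map f) h
      rw [hmap, hS] at h1
      refine a.2.1 (h.trans ?_)
      simp only [Φ, Sum.elim_inr, ← h1, if_true]
    · exfalso
      have h1 := congrArg (ConjClasses.map f) h
      rw [hmap, hS] at h1
      refine b.2.1 (h.symm.trans ?_)
      simp only [Φ, Sum.elim_inr, h1, if_true]
    · have h1 := congrArg (ConjClasses.map f) h
      rw [hmap, hmap] at h1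
      rw [h1]
  have h1 := Nat.card_le_card_of_injective Φ hΦ
  rw [Nat.card_sum] at h1
  refine ⟨Nat.card S, by omega, ?_⟩
  let T := {n : V // n ≠ 1}
  have hT : Nat.card T + 1 = Nat.card V := by
    haveI := Fintype.ofFinite V
    have h := Nat.card_pos (α := V)
    rw [Nat.card_eq_fintype_card] at h ⊢
    rw [Fintype.card_subtype_compl, Fintype.card_subtype_eq, Nat.card_eq_fintype_card]
    omega
  rw [← hT, Subgroup.index_eq_card, ← Nat.card_prod]
  refine Nat.add_le_add_right ?_ 1
  let cl : T → S := fun n => ⟨ConjClasses.mk ((n.1 : V) : G),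
    fun e => n.2 (Subtype.ext (isConj_one_left.1 (ConjClasses.mk_eq_mk_iff_isConj.1 e))),
    _, n.1.2, rfl⟩
  let r := Function.surjInv (ConjClasses.mk_surjective (α := G))
  have hrep : ∀ n : T, ∃ g : G, g * r (cl n).1 * g⁻¹ = ((n.1 : V) : G) := fun n =>
    isConj_iff.1 (ConjClasses.mk_eq_mk_iff_isConj.1 (Function.surjInv_eq ConjClasses.mk_surjective (cl n).1))
  choose g hg using hrep
  refine Nat.card_le_card_of_injective (fun n => (cl n, (g n : G ⧸ C))) fun n m h => ?_
  have h2 : r (cl n).1 = r (cl m).1 := congrArg (fun z : S × (G ⧸ C) => r z.1.1) h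
  have h3 : (g m)⁻¹ * g n ∈ C := QuotientGroup.eq.1 (congrArg Prod.snd h).symm
  have hout : r (cl n).1 ∈ V := by
    have e : r (cl n).1 = (g n)⁻¹ * ((n.1 : V) : G) * (g n)⁻¹⁻¹ := by rw [← hg n]; group
    rw [e]
    exact (inferInstance : V.Normal).conj_mem _ n.1.2 _
  have h4 : (g m)⁻¹ * g n * r (cl n).1 = r (cl n).1 * ((g m)⁻¹ * g n) :=
    (Subgroup.mem_centralizer_iff.1 (hC h3) _ hout).symm
  refine Subtype.ext (Subtype.ext ?_)
  rw [← hg n, ← hg m, ← h2]
  calc g n * r (cl n).1 * (g n)⁻¹ = g m * ((g m)⁻¹ * g n * r (cl n).1) * (g n)⁻¹ := by group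
    _ = g m * (r (cl n).1 * ((g m)⁻¹ * g n)) * (g n)⁻¹ := by rw [h4]
    _ = _ := by group

/-- The structure of an irreducible group relative to a normal subgroup of prime order. -/
theorem split_bound {r : ℕ} [hr : Fact r.Prime] {p : ℕ} [hp : Fact p.Prime] (hp108 : 108 ≤ p) (n : ℕ) :
    ∀ (V : Type) [AddCommGroup V] [Module (ZMod r) V] [Finite V] (X : Type) [Group X] [Finite X]
      (ρ : Representation (ZMod r) X V), Function.Injective ρ → Irr ρ → Group.IsSolvable X →
        Module.finrank (ZMod r) V = n → ∀ (P : Subgroup X) [P.Normal], Nat.card P = p →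
          ∃ t W, (Subgroup.centralizer (P : Set X)).index ≤ t ∧ p < r ^ t ∧
            Com (Subgroup.centralizer (P : Set X)) W ∧ W * r ^ t ≤ r ^ n := by
  induction n using Nat.strong_induction_on with
  | _ n ih =>
  intro V _ _ _ X _ _ ρ hρ hirr hs hn P _ hP
  classical
  haveI := hs
  haveI := hirr.1
  haveI : Module.Finite (ZMod r) V := Module.Finite.of_finite
  haveI : IsCyclic P := isCyclic_of_prime_card hP
  letI := IsCyclic.commGroup (α := P)
  haveI hPc : IsMulCommutative P := ⟨⟨mul_comm⟩⟩
  haveI : NeZero (Nat.card P : ZMod r) :=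
    ⟨fun h => not_dvd_card_of_comm hρ hirr P ((ZMod.natCast_eq_zero_iff _ _).1 h)⟩
  set C := Subgroup.centralizer (P : Set X) with hC
  rcases dichotomy_mem (ρ := ρ) P with hF | ⟨S, hS⟩
  · haveI : Finite (Module.End (ZMod r) V) := Finite.of_injective _ DFunLike.coe_injective
    haveI : Finite (algA ρ P) := Finite.of_injective _ Subtype.val_injective
    letI : Field (algA ρ P) := hF.toField
    letI : Module (algA ρ P) V := Module.compHom V ((algA ρ P).val.toRingHom)
    haveI : Module.Finite (algA ρ P) V := Module.Finite.of_finite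
    haveI : Module.Finite (ZMod r) (algA ρ P) := Module.Finite.of_finite
    haveI : CharP (algA ρ P) r :=
      charP_of_injective_algebraMap (algebraMap (ZMod r) (algA ρ P)).injective r
    set t := Module.finrank (ZMod r) (algA ρ P) with ht
    set d := Module.finrank (algA ρ P) V with hd
    have hq : Nat.card (algA ρ P) = r ^ t := by
      rw [Module.natCard_eq_pow_finrank (K := ZMod r), Nat.card_zmod]
    have htd : t * d = n := by
      have h1 : Nat.card V = Nat.card (algA ρ P) ^ d := Module.natCard_eq_pow_finrank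
      rw [hq, ← pow_mul, Module.natCard_eq_pow_finrank (K := ZMod r) (V := V), Nat.card_zmod, hn] at h1
      exact (Nat.pow_right_injective hr.out.two_le h1).symm
    let ι₀ : P →* algA ρ P :=
      { toFun := fun a => ⟨ρ a, rho_mem_algA a.2⟩
        map_one' := Subtype.ext (map_one ρ)
        map_mul' := fun a b => Subtype.ext (map_mul ρ (a : X) b) }
    have hι₀ : Function.Injective ι₀ := fun a b h => Subtype.ext (hρ (congrArg Subtype.val h))
    have hι : Function.Injective ι₀.toHomUnits := fun a b h => hι₀ (congrArg Units.val h)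
    have hdvd := Subgroup.card_dvd_of_injective _ hι
    rw [Nat.card_units, hP, hq] at hdvd
    have hpt : p < r ^ t := by
      have h1 : 1 < Nat.card (algA ρ P) := Finite.one_lt_card
      rw [hq] at h1
      have := Nat.le_of_dvd (by omega) hdvd
      omega
    have hidx : C.index ≤ t := by
      have hle : (conjAlg (ρ := ρ) P).ker ≤ C := fun x hx => Subgroup.mem_centralizer_iff.2 fun a ha => by
        have h1 := congrArg Subtype.val (DFunLike.congr_fun (MonoidHom.mem_ker.1 hx)
          (⟨ρ a, rho_mem_algA ha⟩ : algA ρ P))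
        rw [conjAlg_apply, ← map_mul, ← map_mul] at h1
        exact (mul_inv_eq_iff_eq_mul.1 (hρ h1)).symm
      refine (Nat.le_of_dvd (Nat.pos_of_ne_zero Subgroup.index_ne_zero_of_finite)
        (Subgroup.index_dvd_of_le hle)).trans ?_
      rw [Subgroup.index_ker]
      refine (Subgroup.card_le_card_group _).trans ?_
      rw [Nat.card_eq_fintype_card]
      exact AlgEquiv.card_le
    let σ : C →* Module.End (algA ρ P) V :=
      { toFun := fun x =>
          { toFun := fun v => ρ (x : X) v
            map_add' := fun v w => map_add _ v w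
            map_smul' := fun b v => LinearMap.congr_fun (commute_algA x.2 b.2) v }
        map_one' := LinearMap.ext fun v => by simp
        map_mul' := fun x y => LinearMap.ext fun v => by
          show ρ ((x * y : C) : X) v = ρ (x : X) (ρ (y : X) v)
          rw [Subgroup.coe_mul, map_mul, Module.End.mul_apply] }
    have hσinj : Function.Injective σ := fun x y h =>
      Subtype.ext (hρ (LinearMap.ext fun v => LinearMap.congr_fun h v))
    have hσ : IsPGroup r σ.ker := by
      rw [(MonoidHom.ker_eq_bot_iff _).2 hσinj]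
      exact IsPGroup.of_bot
    obtain ⟨M, hMn, hMp, hMc⟩ := gf_com (r := r) (by rw [hq]; omega) d V C σ hσ inferInstance hd.symm
    haveI : C.Normal := by rw [hC]; infer_instance
    have hM : M = ⊥ := by
      rw [← Subgroup.map_eq_bot_iff_of_injective _ C.subtype_injective, eq_bot_iff]
      refine ((Subgroup.map_mono (CfsgLib.Constrained.le_pCore hMn hMp)).trans
        (CfsgLib.Constrained.map_pCore_subgroup_le C)).trans (le_of_eq ?_)
      haveI : (Cfsg.pCore r X).Normal := inferInstance
      exact eq_bot_of_pGroup hρ hirr _ CfsgLib.Constrained.isPGroup_pCore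
    subst hM
    refine ⟨t, Nat.card (algA ρ P) ^ (d - 1), hidx, hpt, hMc.congr QuotientGroup.quotientBot, ?_⟩
    rw [hq, ← pow_mul, ← pow_add]
    refine Nat.pow_le_pow_right hr.out.pos (le_of_eq ?_)
    obtain ⟨c, hc⟩ : ∃ c, d = c + 1 := ⟨d - 1, by have := Module.finrank_pos (R := algA ρ P) (M := V); omega⟩
    rw [← htd, hc, Nat.add_sub_cancel]
    ring
  · haveI := S.finite_blockGroup
    let g : ∀ i, S.stab i →* S.blockGroup i := fun i => (S.blockRep i).asGroupHom.rangeRestrict
    have hgsurj : ∀ i, Function.Surjective (g i) := fun i =>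
      (S.blockRep i).asGroupHom.rangeRestrict_surjective
    have hgapp : ∀ i (x : S.stab i) (v : S.W i), ((S.tautRep i (g i x) v : S.W i) : V) = ρ (x : X) v :=
      fun i x v => rfl
    have hfix : ∀ x : X, (∀ i, Commute (ρ x) (S.e i)) → x ∈ S.perm.ker := by
      intro x hx
      refine MonoidHom.mem_ker.2 (Equiv.ext fun i => S.e_injective ?_)
      show S.e (S.σ x i) = S.e i
      have h1 := congrArg (· * ρ x⁻¹) (S.conj x i)
      rw [(hx i).eq] at h1
      simp only [mul_assoc, rho_mul_inv, mul_one] at h1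
      exact h1.symm
    have hCker : C ≤ S.perm.ker := fun x hx => hfix x fun i => commute_algA hx (hS i)
    have hPC : P ≤ C := fun a ha => Subgroup.mem_centralizer_iff.2 fun b hb =>
      congrArg Subtype.val (hPc.is_comm.comm (⟨b, hb⟩ : P) ⟨a, ha⟩)
    have hCs : ∀ i, C ≤ S.stab i := fun i => hCker.trans (S.ker_le_stab i)
    let P₀ : ∀ i, Subgroup (S.blockGroup i) := fun i => (P.subgroupOf (S.stab i)).map (g i)
    haveI : ∀ i, (P₀ i).Normal := fun i =>
      ((inferInstance : P.Normal).subgroupOf (S.stab i)).map (g i) (hgsurj i)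
    have htriv : ∀ i, ∀ a : X, a ∈ P → ∀ h : a ∈ S.stab i, g i ⟨a, h⟩ = 1 → a = 1 := by
      intro i a ha hmem h1
      by_contra hne
      have hgen : ∀ b ∈ P, ∀ v ∈ S.W i, ρ b v = v := by
        intro b hb v hv
        obtain ⟨j, hj⟩ := mem_powers_of_prime_card (g := (⟨a, ha⟩ : P)) (g' := ⟨b, hb⟩) hP
          (fun h => hne (congrArg Subtype.val h))
        have hb' : b = a ^ j := (congrArg Subtype.val hj).symm
        have hfa : ρ a v = v := by
          have h2 := hgapp i ⟨a, hmem⟩ ⟨v, hv⟩
          rw [h1, map_one] at h2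
          exact h2.symm
        rw [hb', map_pow]
        clear hj hb'
        induction j with
        | zero => simp
        | succ j ihj => rw [pow_succ, Module.End.mul_apply, hfa, ihj]
      refine hne (hρ ?_)
      rw [map_one]
      refine LinearMap.ext fun v => ?_
      rw [← S.sum_apply_eq v, map_sum, map_sum]
      refine Finset.sum_congr rfl fun j _ => ?_
      obtain ⟨y, hy⟩ := S.transitive hirr j i
      have hw := S.map_mem_W y (i := j) (v := S.e j v) ⟨v, rfl⟩
      rw [hy] at hw
      have h3 := hgen _ ((inferInstance : P.Normal).conj_mem a ha y) _ hw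
      rw [← Module.End.mul_apply, ← map_mul, inv_mul_cancel_right, map_mul, Module.End.mul_apply] at h3
      have h4 := congrArg (ρ y⁻¹) h3
      simpa only [← Module.End.mul_apply, ← mul_assoc, rho_inv_mul, one_mul] using h4
    have hP₀ : ∀ i, Nat.card (P₀ i) = p := by
      intro i
      have hinj : Function.Injective ((g i).comp (Subgroup.inclusion (hPC.trans (hCs i)))) :=
        (injective_iff_map_eq_one _).2 fun a h => Subtype.ext (htriv i a a.2 _ h)
      rw [← hP, Nat.card_congr (MonoidHom.ofInjective hinj).toEquiv]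
      congr 2
      ext y
      constructor
      · rintro ⟨x, hx, rfl⟩
        exact ⟨⟨(x : X), hx⟩, rfl⟩
      · rintro ⟨a, rfl⟩
        exact ⟨⟨(a : X), hPC.trans (hCs i) a.2⟩, a.2, rfl⟩
    have hlt : ∀ i, Module.finrank (ZMod r) (S.W i) < n := fun i => by
      rw [← hn, ← S.finrank_mul hirr i]
      exact lt_mul_of_one_lt_right (S.finrank_pos i) S.two
    have hex := fun i => ih _ (hlt i) (S.W i) (S.blockGroup i) (S.tautRep i) (S.tautRep_injective i)
      (S.irr_tautRep hirr i) (S.isSolvable_blockGroup hs i) rfl (P₀ i) (hP₀ i)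
    choose t W ht hpt hW hnum using hex
    let f : ∀ i, C →* Subgroup.centralizer (P₀ i : Set (S.blockGroup i)) := fun i =>
      ((g i).comp (Subgroup.inclusion (hCs i))).codRestrict _ fun c => Subgroup.mem_centralizer_iff.2 (by
        rintro _ ⟨x, hx, rfl⟩
        rw [MonoidHom.comp_apply, ← map_mul, ← map_mul]
        congr 1
        exact Subtype.ext (Subgroup.mem_centralizer_iff.1 c.2 _ hx))
    have hCom : Com C (∏ i, W i) := Com.of_joint f (fun c hc => by
      have h1 := S.blockHom_joint hρ ⟨(c : X), hCker c.2⟩ fun i => congrArg Subtype.val (hc i)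
      exact Subtype.ext (show (c : X) = 1 from congrArg (fun z : S.perm.ker => (z : X)) h1)) W hW
    obtain ⟨j, -, hj⟩ := Finset.exists_min_image Finset.univ t
      (⟨⟨0, by have := S.two; omega⟩, Finset.mem_univ _⟩ : (Finset.univ : Finset (Fin S.m)).Nonempty)
    refine ⟨∑ i, t i, ∏ i, W i, ?_, ?_, hCom, ?_⟩
    · rw [← Subgroup.relIndex_mul_index (hCs j)]
      have h1 : (S.stab j).index ≤ S.m := by
        rw [BlockSys.stab, Subgroup.index_comap]
        refine (Subgroup.relIndex_le_of_le_right le_top (by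
          rw [Subgroup.relIndex_top_right]; exact Subgroup.index_ne_zero_of_finite)).trans (le_of_eq ?_)
        rw [Subgroup.relIndex_top_right, MulAction.index_stabilizer_of_transitive, Nat.card_fin]
      have h2 : C.relIndex (S.stab j) ≤ t j := by
        refine le_trans ?_ (ht j)
        rw [← Subgroup.index_comap_of_surjective (f := g j) _ (hgsurj j)]
        refine Nat.le_of_dvd (Nat.pos_of_ne_zero Subgroup.index_ne_zero_of_finite)
          (Subgroup.index_dvd_of_le ?_)
        intro x hx
        refine Subgroup.mem_centralizer_iff.2 fun a ha => ?_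
        have hmem : (x : X) * a * (x : X)⁻¹ * a⁻¹ ∈ P :=
          mul_mem ((inferInstance : P.Normal).conj_mem a ha _) (inv_mem ha)
        have ha' : a ∈ S.stab j := hPC.trans (hCs j) ha
        have h3 := Subgroup.mem_centralizer_iff.1 (Subgroup.mem_comap.1 hx) (g j ⟨a, ha'⟩)
          (Subgroup.mem_map_of_mem _ (show (⟨a, ha'⟩ : S.stab j) ∈ P.subgroupOf (S.stab j) from ha))
        have h4 := htriv j _ hmem
          (mul_mem (mul_mem (mul_mem x.2 ha') (inv_mem x.2)) (inv_mem ha')) (by
            show g j (x * ⟨a, ha'⟩ * x⁻¹ * ⟨a, ha'⟩⁻¹) = 1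
            rw [map_mul, map_mul, map_mul, map_inv, map_inv, ← h3, mul_inv_cancel_right, mul_inv_cancel])
        rw [mul_inv_eq_one, mul_inv_eq_iff_eq_mul] at h4
        exact h4.symm
      refine (Nat.mul_le_mul h2 h1).trans ?_
      rw [mul_comm]
      calc S.m * t j = ∑ _i : Fin S.m, t j := by simp
        _ ≤ ∑ i, t i := Finset.sum_le_sum fun i _ => hj i (Finset.mem_univ i)
    · exact (hpt j).trans_le (Nat.pow_le_pow_right hr.out.pos
        (Finset.single_le_sum (fun i _ => Nat.zero_le (t i)) (Finset.mem_univ j)))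
    · rw [← Finset.prod_pow_eq_pow_sum, ← Finset.prod_mul_distrib, ← hn, ← S.sum_finrank,
        ← Finset.prod_pow_eq_pow_sum]
      exact Finset.prod_le_prod' fun i _ => hnum i

theorem pow_six_le {e : ℕ} (he : 27 ≤ e) : e ^ 6 ≤ 2 ^ (e + 21) := by
  induction e, he using Nat.le_induction with
  | base => norm_num
  | succ j hj ih =>
    have h1 : (27 * (j + 1)) ^ 6 ≤ (28 * j) ^ 6 := Nat.pow_le_pow_left (by omega) 6
    rw [mul_pow, mul_pow] at h1
    norm_num at h1
    rw [show j + 1 + 21 = (j + 21) + 1 by omega, pow_succ 2]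
    omega

theorem class_log_core {r : ℕ} [hr : Fact r.Prime] {p : ℕ} [hp : Fact p.Prime] {V : Type} [AddCommGroup V]
    [Module (ZMod r) V] [Finite V] {X : Type} [Group X] [Finite X] {ρ : Representation (ZMod r) X V}
    (hρ : Function.Injective ρ) (hirr : Irr ρ) (hs : Group.IsSolvable X) (P : Subgroup X) [P.Normal]
    (hP : Nat.card P = p) {n k x : ℕ} (hn : Module.finrank (ZMod r) V = n)
    (hk : Nat.card (ConjClasses X) + x ≤ k) (hQ : r ^ n ≤ x * Nat.card X + 1) :
    2 ^ p ≤ p ^ (3 * k) := by
  classical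
  have hp2 := hp.out.two_le
  haveI : IsCyclic P := isCyclic_of_prime_card hP
  letI := IsCyclic.commGroup (α := P)
  haveI : IsMulCommutative P := ⟨⟨mul_comm⟩⟩
  set C := Subgroup.centralizer (P : Set X) with hC
  haveI : C.Normal := by rw [hC]; infer_instance
  set e := C.index with he
  have hkH : p ≤ e * Nat.card (ConjClasses X) := by
    set P' := P.subgroupOf C with hP'
    have hPC : P ≤ C := fun a ha => Subgroup.mem_centralizer_iff.2 fun b hb =>
      congrArg Subtype.val (mul_comm (⟨b, hb⟩ : P) ⟨a, ha⟩)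
    have hc : P' ≤ Subgroup.center C := fun a ha => Subgroup.mem_center_iff.2 fun g =>
      Subtype.ext (Subgroup.mem_centralizer_iff.1 g.2 _ ha).symm
    haveI : P'.Normal := (inferInstance : P.Normal).subgroupOf C
    have h1 := card_central_add_le hc
    have h2 := card_classes_pos (X := C ⧸ P')
    have h3 : Nat.card P' = p := (Nat.card_congr (Subgroup.subgroupOfEquivOfLe hPC).toEquiv).trans hP
    have h4 : Nat.card (ConjClasses C) ≤ e * Nat.card (ConjClasses X) := (Cfsg.Agent.S4200.main C).1
    omega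
  have heH : e ≤ Nat.card (ConjClasses X) := by
    have hcomm : ∀ a b : X ⧸ C, a * b = b * a := fun a b => by
      induction a using QuotientGroup.induction_on with
      | H g => induction b using QuotientGroup.induction_on with
        | H h =>
          rw [← commutatorElement_eq_one_iff_mul_comm]
          refine (map_commutatorElement (QuotientGroup.mk' C) g h).symm.trans
            ((QuotientGroup.eq_one_iff _).2 (Subgroup.mem_centralizer_iff.2 fun a ha => ?_))
          exact (mul_inv_eq_iff_eq_mul.1 (commutator_centralizes P (hP.symm ▸ hp.out) g h a ha)).symm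
    have h1 : Nat.card (X ⧸ C) ≤ 1 * Nat.card (ConjClasses (X ⧸ C)) := Com.of_comm hcomm
    rw [one_mul, ← Subgroup.index_eq_card] at h1
    exact h1.trans (card_classes_le_of_surjective _ (QuotientGroup.mk'_surjective C))
  set kH := Nat.card (ConjClasses X) with hkHdef
  rcases Nat.lt_or_ge p 512 with h512 | h512
  · set b := Nat.log 2 p with hb
    have h2b : 2 ^ b ≤ p := Nat.pow_log_le_self 2 (by omega)
    have hb1 : 1 ≤ b := Nat.le_log_of_pow_le (by norm_num) (by omega)
    have hlt : p < 2 ^ (b + 1) := Nat.lt_pow_succ_log_self (by norm_num) p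
    have hb8 : b ≤ 8 := by
      by_contra hh
      have h9 : 2 ^ 9 ≤ 2 ^ b := Nat.pow_le_pow_right (by norm_num) (by omega)
      omega
    have h9b : p ≤ 9 * (b * b) := by interval_cases b <;> omega
    have hsq : p ≤ kH * kH := hkH.trans (Nat.mul_le_mul_right _ heH)
    have h3 : p ≤ 3 * b * k := by
      refine Nat.mul_self_le_mul_self_iff.1 ?_
      calc p * p ≤ 9 * (b * b) * (k * k) := Nat.mul_le_mul h9b
            (hsq.trans (Nat.mul_le_mul (by omega) (by omega)))
        _ = 3 * b * k * (3 * b * k) := by ring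
    calc 2 ^ p ≤ 2 ^ (3 * b * k) := Nat.pow_le_pow_right (by norm_num) h3
      _ = (2 ^ b) ^ (3 * k) := by rw [← pow_mul]; ring_nf
      _ ≤ p ^ (3 * k) := Nat.pow_le_pow_left h2b _
  rcases Nat.lt_or_ge (p ^ 3) (2 ^ e) with hbig | hsmall
  swap
  · calc 2 ^ p ≤ 2 ^ (e * kH) := Nat.pow_le_pow_right (by norm_num) hkH
      _ = (2 ^ e) ^ kH := pow_mul 2 e kH
      _ ≤ (p ^ 3) ^ kH := Nat.pow_le_pow_left hsmall _
      _ ≤ (p ^ 3) ^ k := Nat.pow_le_pow_right (by positivity) (by omega)
      _ = p ^ (3 * k) := (pow_mul p 3 k).symm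
  have he27 : 27 ≤ e := by
    by_contra hh
    have h1 : 2 ^ e ≤ 2 ^ 26 := Nat.pow_le_pow_right (by norm_num) (by omega)
    have h2 : 512 ^ 3 ≤ p ^ 3 := Nat.pow_le_pow_left h512 3
    omega
  obtain ⟨t, W, ht, hpt, hW, hnum⟩ := split_bound (p := p) (by omega) n V X ρ hρ hirr hs hn P hP
  change e ≤ t at ht
  change Nat.card C ≤ W * Nat.card (ConjClasses C) at hW
  have hW0 : 0 < W := by
    have h1 := Nat.card_pos (α := C)
    rcases Nat.eq_zero_or_pos W with h | h
    · rw [h, zero_mul] at hW; omega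
    · exact h
  have hh : Nat.card X ≤ e * e * kH * W := by
    rw [← C.card_mul_index]
    calc Nat.card C * e ≤ W * Nat.card (ConjClasses C) * e := Nat.mul_le_mul_right _ hW
      _ ≤ W * (e * kH) * e := Nat.mul_le_mul_right _ (Nat.mul_le_mul_left _ (Cfsg.Agent.S4200.main C).1)
      _ = e * e * kH * W := by ring
  have h2n : 2 ≤ r ^ n := by
    have h1 : 2 ≤ W * r ^ t := le_trans (by omega : 2 ≤ r ^ t) (Nat.le_mul_of_pos_left _ hW0)
    omega
  have hWQ : 2 ^ e * W ≤ 2 * (x * (e * e * kH)) * W := by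
    calc 2 ^ e * W ≤ r ^ t * W := Nat.mul_le_mul_right _ ((Nat.pow_le_pow_left hr.out.two_le e).trans
          (Nat.pow_le_pow_right hr.out.pos ht))
      _ = W * r ^ t := mul_comm _ _
      _ ≤ r ^ n := hnum
      _ ≤ 2 * (x * Nat.card X) := by omega
      _ ≤ 2 * (x * (e * e * kH * W)) := Nat.mul_le_mul_left _ (Nat.mul_le_mul_left _ hh)
      _ = 2 * (x * (e * e * kH)) * W := by ring
  have h2e := Nat.le_of_mul_le_mul_right hWQ hW0
  have hkk : 4 * (x * kH) ≤ k * k := by
    refine le_trans ?_ (Nat.mul_le_mul hk hk)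
    nlinarith [sq_nonneg ((kH : ℤ) - x)]
  have hkey : 2 * 2 ^ e ≤ e * e * (k * k) := by
    calc 2 * 2 ^ e ≤ 2 * (2 * (x * (e * e * kH))) := Nat.mul_le_mul_left _ h2e
      _ = e * e * (4 * (x * kH)) := by ring
      _ ≤ _ := Nat.mul_le_mul_left _ hkk
  have hp8 : p ≤ 8 * k := by
    by_contra hh'
    have h1 : 128 * 2 ^ e ≤ e * e * (p * p) := by
      calc 128 * 2 ^ e = 64 * (2 * 2 ^ e) := by ring
        _ ≤ 64 * (e * e * (k * k)) := Nat.mul_le_mul_left _ hkey
        _ = e * e * ((8 * k) * (8 * k)) := by ring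
        _ ≤ e * e * (p * p) := Nat.mul_le_mul_left _ (Nat.mul_le_mul (by omega) (by omega))
    have h3 : e * e * (p * p) * (e * e * (p * p)) * (e * e * (p * p)) = e ^ 6 * (p ^ 3 * p ^ 3) := by ring
    have h4 : e ^ 6 * (p ^ 3 * p ^ 3) < 2 ^ (e + 21) * (2 ^ e * 2 ^ e) :=
      lt_of_lt_of_le (Nat.mul_lt_mul_of_pos_left (Nat.mul_lt_mul'' hbig hbig) (by positivity))
        (Nat.mul_le_mul_right _ (pow_six_le he27))
    have h5 : 2 ^ (e + 21) * (2 ^ e * 2 ^ e) = (128 * 2 ^ e) * (128 * 2 ^ e) * (128 * 2 ^ e) := by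
      rw [pow_add]; ring
    have h6 := Nat.mul_le_mul (Nat.mul_le_mul h1 h1) h1
    omega
  calc 2 ^ p ≤ 2 ^ (8 * k) := Nat.pow_le_pow_right (by norm_num) hp8
    _ = (2 ^ 8) ^ k := pow_mul 2 8 k
    _ ≤ (p ^ 3) ^ k := Nat.pow_le_pow_left
        (le_trans (by norm_num : 2 ^ 8 ≤ 512 ^ 3) (Nat.pow_le_pow_left h512 3)) _
    _ = p ^ (3 * k) := (pow_mul p 3 k).symm

theorem two_pow_mono {p k k' : ℕ} (hp : 0 < p) (h : k ≤ k') (h2 : 2 ^ p ≤ p ^ (3 * k)) :
    2 ^ p ≤ p ^ (3 * k') :=
  h2.trans (Nat.pow_le_pow_right hp (by omega))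

theorem class_log_elem {r p : ℕ} [Fact r.Prime] [Fact p.Prime] {U : Type} [CommGroup U] [Finite U]
    [Nontrivial U] [Module (ZMod r) (Additive U)] {H : Type} [Group H] [Finite H] (hs : Group.IsSolvable H)
    (φ : H →* (⊤ : Subgroup (MulAut U))) (hφ : Function.Injective φ)
    (hirr : ∀ W : Subgroup U, (∀ h, ∀ w ∈ W, (φ h : MulAut U) w ∈ W) → W = ⊥ ∨ W = ⊤)
    (P : Subgroup H) [P.Normal] (hP : Nat.card P = p) {n k x : ℕ} (hn : Nat.card U = r ^ n)
    (hk : Nat.card (ConjClasses H) + x ≤ k) (hQ : r ^ n ≤ x * Nat.card H + 1) :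
    2 ^ p ≤ p ^ (3 * k) := by
  obtain ⟨ρ, hρ, hI⟩ := exists_rep (p := r) φ hφ hirr
  haveI : Finite (Additive U) := inferInstanceAs (Finite U)
  exact class_log_core hρ hI hs P hP (finrank_linRep (p := r) hn) hk hQ

theorem class_log_aux {p : ℕ} [hp : Fact p.Prime] (N : ℕ) : ∀ (G : Type) [Group G] [Finite G],
    Group.IsSolvable G → p ∣ (Cfsg.fittingSubgroup G).index → Nat.card G = N →
      2 ^ p ≤ p ^ (3 * Nat.card (ConjClasses G)) := by
  induction N using Nat.strong_induction_on with
  | _ N ih =>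
  intro G _ _ hs hdvd hN
  classical
  haveI := hs
  have hp2 := hp.out.two_le
  haveI : Nontrivial G := by
    rcases subsingleton_or_nontrivial G with h | h
    · exfalso
      have h1 := hdvd.trans (Subgroup.index_dvd_card _)
      rw [Nat.card_of_subsingleton (1 : G), Nat.dvd_one] at h1
      omega
    · exact h
  obtain ⟨V, hV⟩ := (Set.toFinite {N : Subgroup G | N.Normal ∧ N ≠ ⊥}).exists_minimal
    ⟨⊤, (inferInstance : (⊤ : Subgroup G).Normal), top_ne_bot⟩
  obtain ⟨hVn, hV1⟩ := hV.prop
  haveI := hVn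
  have hmin : ∀ W : Subgroup G, W.Normal → W ≤ V → W = ⊥ ∨ W = V := fun W hW hle =>
    or_iff_not_imp_left.2 fun h => le_antisymm hle (hV.2 ⟨hW, h⟩ hle)
  obtain ⟨r, E, hr, hEn, hEV, hE1, hEc, hEr⟩ := CfsgLib.Huppert.exists_elementary_le V hV1
  obtain rfl : E = V := (hmin E hEn hEV).resolve_left hE1
  haveI := Fact.mk hr
  obtain ⟨n, hn⟩ := (IsPGroup.iff_card (p := r) (G := E)).1 fun x => ⟨1, Subtype.ext (by
    rw [pow_one, SubmonoidClass.coe_pow, hEr _ x.2]; rfl)⟩
  have hlt : ∀ M : Subgroup G, M ≠ ⊥ → M.index < N := fun M hM => by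
    rw [← hN, ← M.card_mul_index]
    exact lt_mul_of_one_lt_left (Nat.pos_of_ne_zero Subgroup.index_ne_zero_of_finite)
      (Subgroup.one_lt_card_iff_ne_bot _ |>.2 hM)
  haveI hsq : Group.IsSolvable (G ⧸ E) := Group.isSolvable_of_surjective (QuotientGroup.mk'_surjective E)
  by_cases h1 : p ∣ (Cfsg.fittingSubgroup (G ⧸ E)).index
  · refine two_pow_mono hp.out.pos (card_classes_le_of_surjective _ (QuotientGroup.mk'_surjective E))
      (ih _ ?_ (G ⧸ E) hsq h1 rfl)
    rw [← Subgroup.index_eq_card]
    exact hlt E hV1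
  set C := Subgroup.centralizer (E : Set G) with hC
  haveI : C.Normal := by rw [hC]; infer_instance
  have hEC : E ≤ C := fun a ha => Subgroup.mem_centralizer_iff.2 fun b hb => hEc b hb a ha
  have hpC : p ∣ C.index := by
    set Fb := Cfsg.fittingSubgroup (G ⧸ E) with hFb
    haveI : Fb.Normal := inferInstance
    set M := Fb.comap (QuotientGroup.mk' E) with hM
    haveI : M.Normal := (inferInstance : Fb.Normal).comap _
    set K := M ⊓ C with hK
    haveI : K.Normal := Subgroup.normal_inf_normal M C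
    have hKnil : Group.IsNilpotent K := by
      haveI : Group.IsNilpotent Fb := CfsgLib.Constrained.isNilpotent_fitting
      let f : K →* Fb := ((QuotientGroup.mk' E).comp K.subtype).codRestrict Fb fun x => x.2.1
      refine Subgroup.isNilpotent_of_ker_le_center f (fun x hx => Subgroup.mem_center_iff.2 fun y => ?_)
      have hxE : (x : G) ∈ E :=
        (QuotientGroup.eq_one_iff _).1 (congrArg Subtype.val (MonoidHom.mem_ker.1 hx))
      exact Subtype.ext (Subgroup.mem_centralizer_iff.1 y.2.2 _ hxE).symm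
    have h2 : p ∣ K.index :=
      hdvd.trans (Subgroup.index_dvd_of_le (CfsgLib.Constrained.le_fitting inferInstance hKnil))
    rw [← Subgroup.relIndex_mul_index (inf_le_left : K ≤ M), Subgroup.inf_relIndex_left] at h2
    rcases hp.out.dvd_mul.1 h2 with h3 | h3
    · exact h3.trans (Subgroup.relIndex_dvd_index_of_normal C M)
    · rw [hM, Subgroup.index_comap_of_surjective _ (QuotientGroup.mk'_surjective E)] at h3
      exact absurd h3 h1
  obtain ⟨x, hx, hQ⟩ := classes_in_centralized E C hEC le_rfl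
  rw [hn, Subgroup.index_eq_card] at hQ
  have hCne : C ≠ ⊥ := fun h => hV1 (le_bot_iff.1 (h ▸ hEC))
  haveI hsH : Group.IsSolvable (G ⧸ C) := Group.isSolvable_of_surjective (QuotientGroup.mk'_surjective C)
  by_cases h2 : p ∣ (Cfsg.fittingSubgroup (G ⧸ C)).index
  · refine two_pow_mono hp.out.pos (le_trans (Nat.le_add_right _ x) hx) (ih _ ?_ (G ⧸ C) hsH h2 rfl)
    rw [← Subgroup.index_eq_card]
    exact hlt C hCne
  by_cases h3 : p ^ 2 ∣ Nat.card (G ⧸ C)
  · have h4 := class_bound (p := p) hsH h3
    refine two_pow_mono hp.out.pos (le_trans (Nat.le_add_right _ x) hx) ?_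
    exact (Nat.pow_le_pow_right (by norm_num) (by omega : p ≤ 3 * Nat.card (ConjClasses (G ⧸ C)))).trans
      (Nat.pow_le_pow_left hp2 _)
  set Fh := Cfsg.fittingSubgroup (G ⧸ C) with hFh
  haveI : Fh.Normal := inferInstance
  haveI : Group.IsNilpotent Fh := CfsgLib.Constrained.isNilpotent_fitting
  obtain ⟨S⟩ : Nonempty (Sylow p Fh) := Sylow.nonempty
  haveI hSn : (S : Subgroup Fh).Normal :=
    Sylow.normal_of_normalizerCondition Group.normalizerCondition_of_isNilpotent S
  haveI := S.characteristic_of_normal hSn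
  set P := (S : Subgroup Fh).map Fh.subtype with hPdef
  haveI : P.Normal := ConjAct.normal_of_characteristic_of_normal
  have hpF : p ∣ Nat.card Fh := by
    have h4 : p ∣ Nat.card Fh * Fh.index := by
      rw [Fh.card_mul_index, ← Subgroup.index_eq_card]
      exact hpC
    exact (hp.out.dvd_mul.1 h4).resolve_right h2
  have hPcard : Nat.card P = p := by
    rw [hPdef, Subgroup.card_map_of_injective Fh.subtype_injective]
    obtain ⟨j, hj⟩ := (IsPGroup.iff_card (p := p)).1 S.isPGroup'
    have hj0 : j ≠ 0 := fun h => by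
      rw [h, pow_zero] at hj
      exact S.ne_bot_of_dvd_card hpF (Subgroup.card_eq_one.1 hj)
    have hj2 : j < 2 := by
      by_contra hh
      refine h3 ((pow_dvd_pow p (by omega : 2 ≤ j)).trans ?_)
      rw [← hj]
      exact (Subgroup.card_subgroup_dvd_card _).trans (Subgroup.card_subgroup_dvd_card _)
    rw [hj, show j = 1 by omega, pow_one]
  letI : CommGroup E :=
    { (inferInstance : Group E) with mul_comm := fun a b => Subtype.ext (hEc _ a.2 _ b.2) }
  haveI : Nontrivial E := Finite.one_lt_card_iff_nontrivial.1 (Subgroup.one_lt_card_iff_ne_bot _ |>.2 hV1)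
  letI : Module (ZMod r) (Additive E) := AddCommGroup.zmodModule fun v =>
    (Subtype.ext (hEr _ (Additive.toMul v).2) : Additive.toMul v ^ r = 1)
  refine class_log_elem (r := r) hsH (conjQuot C E le_rfl) (conjQuot_injective C E le_rfl le_rfl)
    (fun W hW => ?_) P hPcard hn hx hQ
  have hWn : (W.map E.subtype).Normal := ⟨by
    rintro _ ⟨w, hw, rfl⟩ g
    exact ⟨_, hW (QuotientGroup.mk g) w hw, rfl⟩⟩
  rcases hmin _ hWn (Subgroup.map_subtype_le W) with h | h
  · exact Or.inl ((Subgroup.map_eq_bot_iff_of_injective _ E.subtype_injective).1 h)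
  · refine Or.inr (Subgroup.map_injective E.subtype_injective ?_)
    rw [h, ← MonoidHom.range_eq_map, E.range_subtype]

theorem class_log_bound {G : Type*} [Group G] [Finite G] (hs : Group.IsSolvable G) {p : ℕ}
    [hp : Fact p.Prime] (hdvd : p ∣ (Cfsg.fittingSubgroup G).index) :
    2 ^ p ≤ p ^ (3 * Nat.card (ConjClasses G)) := by
  haveI := hs
  let ψ : G →* Equiv.Perm (Fin (Nat.card G)) :=
    (Finite.equivFin G).permCongrHom.toMonoidHom.comp (MulAction.toPermHom G G)
  have hψ : Function.Injective ψ :=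
    (Finite.equivFin G).permCongrHom.injective.comp MulAction.toPerm_injective
  let e := MonoidHom.ofInjective hψ
  rw [card_classes_congr e]
  refine class_log_aux _ ψ.range (Group.isSolvable_of_surjective (f := e.toMonoidHom) e.surjective) ?_ rfl
  rw [← CfsgLib.Constrained.fitting_map e]
  exact hdvd.trans (dvd_of_eq (Subgroup.index_map_equiv _ e).symm)

end CfsgLib.LinClasses
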