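import Cfsg.Agent.LinClasses.SympTheorem
import Mathlib.Algebra.Module.ZMod
import Mathlib.GroupTheory.GroupAction.Quotient

/-!
# Solvable permutation groups of degree `t` have order at most `3 ^ (t - 1)`
-/

set_option autoImplicit false
set_option linter.style.haveILetI false

namespace CfsgLib.LinClasses

theorem card_le_gl {p : ℕ} [Fact p.Prime] {V : Type} [AddCommGroup V] [Module (ZMod p) V] [Finite V]
    {X : Type} [Group X] (ρ : X →* Module.End (ZMod p) V) (hρ : Function.Injective ρ) {n : ℕ}
    (hn : Module.finrank (ZMod p) V = n) : Nat.card X ≤ ∏ i : Fin n, (p ^ n - p ^ (i : ℕ)) := by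
  classical
  haveI : Module.Finite (ZMod p) V := Module.Finite.of_finite
  let b : Module.Basis (Fin n) (ZMod p) V := Module.finBasisOfFinrankEq _ _ hn
  let f : X → GL (Fin n) (ZMod p) := fun x =>
    Units.map (LinearMap.toMatrixAlgEquiv b).toMonoidHom (ρ.toHomUnits x)
  have hf : Function.Injective f := fun x y h => hρ (by
    have h1 := congrArg Units.val h
    exact (LinearMap.toMatrixAlgEquiv b).injective h1)
  refine (Nat.card_le_card_of_injective f hf).trans (le_of_eq ?_)
  rw [Matrix.card_GL_field, ZMod.card]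

theorem card_mulAut_le_gl {s : ℕ} [Fact s.Prime] {U : Type} [CommGroup U] [Finite U]
    (hexp : ∀ u : U, u ^ s = 1) {e : ℕ} (he : Nat.card U = s ^ e) :
    Nat.card (MulAut U) ≤ ∏ i : Fin e, (s ^ e - s ^ (i : ℕ)) := by
  letI : Module (ZMod s) (Additive U) := AddCommGroup.zmodModule fun x => hexp (Additive.toMul x)
  haveI : Finite (Additive U) := inferInstanceAs (Finite U)
  rw [← Subgroup.card_top (G := MulAut U)]
  exact card_le_gl (linRep (p := s) ⊤) (linRep_injective _) (finrank_linRep he)

theorem two_mul_le_pow {q e₀ : ℕ} (hq : 2 ≤ q) (h0 : 2 * e₀ + 2 ≤ q ^ e₀) {e : ℕ} (he : e₀ ≤ e) :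
    2 * e + 2 ≤ q ^ e := by
  induction e, he using Nat.le_induction with
  | base => exact h0
  | succ m _ ih =>
    have h3 : q ^ m * 2 ≤ q ^ m * q := Nat.mul_le_mul_left _ hq
    rw [pow_succ]
    omega

theorem pow_aff_le {q e₀ : ℕ} (hq : 2 ≤ q) (hb : q ^ (e₀ + e₀ * e₀) ≤ 3 ^ (q ^ e₀ - 1))
    (h0 : 2 * e₀ + 2 ≤ q ^ e₀) {e : ℕ} (he : e₀ ≤ e) : q ^ (e + e * e) ≤ 3 ^ (q ^ e - 1) := by
  induction e, he using Nat.le_induction with
  | base => exact hb
  | succ m hm ih =>
    have e1 : m + 1 + (m + 1) * (m + 1) = (m + m * m) + (2 * m + 2) := by ring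
    obtain ⟨c, hc⟩ : ∃ c, q = c + 1 := ⟨q - 1, by omega⟩
    have e2 : q ^ (m + 1) - 1 = (q ^ m - 1) + q ^ m * (q - 1) := by
      have : 1 ≤ q ^ m := Nat.one_le_pow _ _ (by omega)
      rw [pow_succ, hc, Nat.add_sub_cancel, Nat.mul_add, mul_one]
      rw [hc] at this
      omega
    rw [e1, e2, pow_add q (m + m * m) (2 * m + 2), pow_add 3 (q ^ m - 1)]
    refine Nat.mul_le_mul ih ?_
    rw [mul_comm (q ^ m), pow_mul]
    exact (Nat.pow_le_pow_left (self_le q hq) _).trans
      (Nat.pow_le_pow_right (Nat.one_le_pow _ _ (by norm_num)) (two_mul_le_pow hq h0 hm))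

theorem affine_le {q e : ℕ} (hq : q.Prime) (h : 5 ≤ q ^ e) :
    q ^ e * ∏ i : Fin e, (q ^ e - q ^ (i : ℕ)) ≤ 3 ^ (q ^ e - 1) := by
  have h2 := hq.two_le
  by_cases h8 : q = 2 ∧ e = 3
  · obtain ⟨rfl, rfl⟩ := h8
    decide
  have hprod : ∏ i : Fin e, (q ^ e - q ^ (i : ℕ)) ≤ q ^ (e * e) := by
    refine (Finset.prod_le_prod' fun i _ => Nat.sub_le _ _).trans (le_of_eq ?_)
    rw [Finset.prod_const, Finset.card_univ, Fintype.card_fin, ← pow_mul]
  refine (Nat.mul_le_mul_left _ hprod).trans ?_
  rw [← pow_add]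
  rcases Nat.lt_or_ge q 7 with h7 | h7
  · interval_cases q
    · rcases Nat.lt_or_ge e 4 with he | he
      · interval_cases e <;> first | exact absurd ⟨rfl, rfl⟩ h8 | norm_num at h
      · exact pow_aff_le le_rfl (by norm_num) (by norm_num) he
    · rcases Nat.lt_or_ge e 2 with he | he
      · interval_cases e <;> norm_num at h
      · exact pow_aff_le (by norm_num) (by norm_num) (by norm_num) he
    · exact absurd hq (by norm_num)
    · rcases Nat.eq_zero_or_pos e with rfl | he
      · norm_num at h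
      · exact pow_aff_le (by norm_num) (by norm_num) (by norm_num) he
    · exact absurd hq (by norm_num)
  · rcases Nat.eq_zero_or_pos e with rfl | he
    · simp at h
    refine pow_aff_le h2 ?_ (by simp; omega) he
    refine le_trans ?_ (by simpa using cube_le q h7)
    exact Nat.pow_le_pow_right (by omega) (by norm_num)

/-- **Solvable permutation groups are small.** -/
theorem solvable_perm_le (n : ℕ) : ∀ (Ω : Type) [Finite Ω] (Y : Subgroup (Equiv.Perm Ω)),
    Group.IsSolvable Y → Nat.card Ω = n → Nat.card Y ≤ 3 ^ (n - 1) := by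
  induction n using Nat.strong_induction_on with
  | _ n ih =>
  intro Ω _ Y hs hn
  classical
  haveI := hs
  rcases Nat.lt_or_ge n 5 with h5 | h5
  · refine (Subgroup.card_le_card_group _).trans ?_
    rw [Nat.card_perm, hn]
    interval_cases n <;> decide
  rcases subsingleton_or_nontrivial Y with hY | hY
  · rw [Nat.card_of_subsingleton (1 : Y)]
    exact Nat.one_le_pow _ _ (by norm_num)
  obtain ⟨s, E, hsp, hEn, -, hE1, hEc, hEs⟩ := CfsgLib.Huppert.exists_elementary_le (⊤ : Subgroup Y)
    (fun h => (not_subsingleton Y) (Subgroup.subsingleton_iff.1 (subsingleton_of_bot_eq_top h.symm)))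
  haveI := hEn
  haveI := Fact.mk hsp
  let r : Setoid Ω := MulAction.orbitRel E Ω
  let f : Ω → Quotient r := Quotient.mk r
  haveI : Finite (Quotient r) := Quotient.finite r
  haveI : Fintype (Quotient r) := Fintype.ofFinite _
  have hmove : ∀ (g : Y) (a b : Ω), f a = f b → f ((g : Equiv.Perm Ω) a) = f ((g : Equiv.Perm Ω) b) := by
    intro g a b h
    obtain ⟨x, hx⟩ := Quotient.exact h
    refine Quotient.sound ⟨⟨g * x * g⁻¹, hEn.conj_mem _ x.2 g⟩, ?_⟩
    change ((x : Y) : Equiv.Perm Ω) b = a at hx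
    show ((g * x * g⁻¹ : Y) : Equiv.Perm Ω) ((g : Equiv.Perm Ω) b) = (g : Equiv.Perm Ω) a
    rw [← hx]
    simp
  let m : Y → Quotient r → Quotient r := fun g =>
    Quotient.map' (fun a => (g : Equiv.Perm Ω) a) fun a b h => Quotient.exact (hmove g a b (Quotient.sound h))
  have hm : ∀ g a, m g (f a) = f ((g : Equiv.Perm Ω) a) := fun g a => rfl
  let ψ : Y →* Equiv.Perm (Quotient r) := MonoidHom.mk' (fun g =>
    { toFun := m g
      invFun := m g⁻¹
      left_inv := fun q => Quotient.inductionOn q fun a => by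
        show m g⁻¹ (m g (f a)) = f a
        rw [hm, hm]; simp
      right_inv := fun q => Quotient.inductionOn q fun a => by
        show m g (m g⁻¹ (f a)) = f a
        rw [hm, hm]; simp })
    fun g g' => Equiv.ext fun q => Quotient.inductionOn q fun a => by
      show m (g * g') (f a) = m g (m g' (f a))
      rw [hm, hm, hm]; rfl
  have hsum : ∑ q, Nat.card {a // f a = q} = n := by
    rw [← Nat.card_sigma, Nat.card_congr (Equiv.sigmaFiberEquiv f), hn]
  have hpos : ∀ q, 0 < Nat.card {a // f a = q} := fun q => by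
    obtain ⟨a, rfl⟩ := Quotient.mk_surjective q
    exact Nat.card_pos_iff.2 ⟨⟨⟨a, rfl⟩⟩, inferInstance⟩
  have hQn : Nat.card (Quotient r) < n := by
    rw [← hn]
    refine lt_of_le_of_ne (Nat.card_le_card_of_surjective f Quotient.mk_surjective) fun he => hE1 ?_
    have hf := ((Nat.bijective_iff_surjective_and_card f).2 ⟨Quotient.mk_surjective, he.symm⟩).1
    rw [eq_bot_iff]
    intro x hx
    refine Subgroup.mem_bot.2 (Subtype.ext (Equiv.ext fun a => hf (Quotient.sound ⟨⟨x, hx⟩, rfl⟩)))
  by_cases h2 : 2 ≤ Nat.card (Quotient r)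
  · have hK : ∀ q, ∀ g : ψ.ker, ∀ a, f ((((g : Y) : Equiv.Perm Ω)) a) = q ↔ f a = q := by
      intro q g a
      have h1 := DFunLike.congr_fun (MonoidHom.mem_ker.1 g.2) (f a)
      rw [← hm]
      exact ⟨fun h => h1.symm.trans h, fun h => h1.trans h⟩
    let res : ∀ q, ψ.ker →* Equiv.Perm {a // f a = q} := fun q =>
      MonoidHom.mk' (fun g => ((g : Y) : Equiv.Perm Ω).subtypePerm (hK q g)) fun g g' => by ext; rfl
    have hlt : ∀ q, Nat.card {a // f a = q} < n := by
      intro q
      obtain ⟨q', hq'⟩ : ∃ q', q' ≠ q := by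
        haveI : Nontrivial (Quotient r) := Finite.one_lt_card_iff_nontrivial.1 h2
        exact exists_ne q
      rw [← hsum]
      exact Finset.single_lt_sum (f := fun l => Nat.card {a // f a = l}) hq' (Finset.mem_univ q) (Finset.mem_univ q') (hpos q')
        fun l _ _ => Nat.zero_le (Nat.card {a // f a = l})
    have hker : Nat.card ψ.ker ≤ ∏ q, 3 ^ (Nat.card {a // f a = q} - 1) := by
      refine card_le_of_joint Finset.univ res _ (fun q _ => ?_) fun g hg => ?_
      · exact ih _ (hlt q) _ (res q).range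
          (Group.isSolvable_of_surjective (res q).rangeRestrict_surjective) rfl
      · refine Subtype.ext (Subtype.ext (Equiv.ext fun a => ?_))
        exact congrArg Subtype.val (DFunLike.congr_fun (hg (f a) (Finset.mem_univ _)) ⟨a, rfl⟩)
    rw [← ψ.ker.card_mul_index, Subgroup.index_ker]
    refine (Nat.mul_le_mul hker (ih _ hQn _ ψ.range
      (Group.isSolvable_of_surjective ψ.rangeRestrict_surjective) rfl)).trans ?_
    rw [Finset.prod_pow_eq_pow_sum, ← pow_add]
    refine Nat.pow_le_pow_right (by norm_num) ?_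
    have e : ∑ q, (Nat.card {a // f a = q} - 1) + Nat.card (Quotient r) = n := by
      rw [Nat.card_eq_fintype_card, ← Finset.card_univ, Finset.card_eq_sum_ones, ← Finset.sum_add_distrib]
      refine (Finset.sum_congr rfl fun q _ => ?_).trans hsum
      exact Nat.sub_add_cancel (hpos q)
    omega
  · haveI : Subsingleton (Quotient r) := Finite.card_le_one_iff_subsingleton.1 (by omega)
    obtain ⟨a₀⟩ : Nonempty Ω := (Nat.card_pos_iff.1 (by omega)).1
    haveI : MulAction.IsPretransitive E Ω := ⟨fun a b => by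
      obtain ⟨x, hx⟩ := Quotient.exact (Subsingleton.elim (f b) (f a))
      exact ⟨x, hx⟩⟩
    letI : CommGroup E := { (inferInstance : Group E) with mul_comm := fun x y => Subtype.ext (hEc _ x.2 _ y.2) }
    have hfree : ∀ (x : E) (a : Ω), x • a = a → x = 1 := by
      intro x a h
      refine Subtype.ext (Subtype.ext (Equiv.ext fun b => ?_))
      obtain ⟨y, rfl⟩ := MulAction.exists_smul_eq E a b
      show x • y • a = y • a
      rw [← mul_smul, mul_comm, mul_smul, h]
    have hE : Nat.card E = n := by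
      rw [← hn]
      refine Nat.card_eq_of_bijective (fun x => x • a₀) ⟨fun x y h => ?_, MulAction.exists_smul_eq E a₀⟩
      exact (inv_mul_eq_one.1 (hfree (y⁻¹ * x) a₀ (by rw [mul_smul]; exact inv_smul_eq_iff.2 h))).symm
    haveI : MulAction.IsPretransitive Y Ω := ⟨fun a b => by
      obtain ⟨x, hx⟩ := MulAction.exists_smul_eq E a b
      exact ⟨(x : Y), hx⟩⟩
    set S := MulAction.stabilizer Y a₀
    have hidx : S.index = n := by
      rw [MulAction.index_stabilizer_of_transitive, hn]
    rw [← S.card_mul_index, hidx, mul_comm]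
    obtain ⟨e, he⟩ : ∃ e, n = s ^ e := by
      obtain ⟨e, he⟩ := (IsPGroup.iff_card (p := s) (G := E)).1 fun x => ⟨1, Subtype.ext (by
        rw [pow_one, SubmonoidClass.coe_pow, hEs _ x.2]; rfl)⟩
      exact ⟨e, hE.symm.trans he⟩
    let c : S →* MulAut E := MulAut.conjNormal.comp S.subtype
    have hc : Function.Injective c := by
      refine (injective_iff_map_eq_one c).2 fun g hg => Subtype.ext (Subtype.ext (Equiv.ext fun b => ?_))
      obtain ⟨x, rfl⟩ := MulAction.exists_smul_eq E a₀ b
      have h2 := congrArg Subtype.val (DFunLike.congr_fun hg x)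
      simp only [c, MonoidHom.comp_apply, Subgroup.coe_subtype, MulAut.one_apply, MulAut.conjNormal_apply,
        mul_inv_eq_iff_eq_mul] at h2
      show (g : Y) • (x : Y) • a₀ = (x : Y) • a₀
      rw [← mul_smul, h2, mul_smul, g.2]
    haveI : Finite (MulAut E) := Finite.of_injective _ DFunLike.coe_injective
    refine (Nat.mul_le_mul_left _ ((Nat.card_le_card_of_injective c hc).trans
      (card_mulAut_le_gl (U := E) (fun x => Subtype.ext (by
        rw [SubmonoidClass.coe_pow, hEs _ x.2]; rfl)) (hE.trans he)))).trans ?_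
    rw [he]
    exact affine_le hsp (he ▸ h5)

end CfsgLib.LinClasses
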