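import Cfsg.Agent.LinClasses.OrderBound
import Cfsg.Agent.LinClasses.PermBound
import Cfsg.Agent.LinClasses.ClassCount
import Mathlib.FieldTheory.Finite.Basic

/-!
# Solvable linear groups over a large finite field
-/

set_option autoImplicit false
set_option linter.style.haveILetI false

namespace CfsgLib.LinClasses

theorem Com.prod {X Y₁ Y₂ : Type} [Group X] [Group Y₁] [Group Y₂] [Finite Y₁] [Finite Y₂] {a b : ℕ}
    (f : X →* Y₁ × Y₂) (hf : Function.Injective f) (h₁ : Com Y₁ a) (h₂ : Com Y₂ b) : Com X (a * b) := by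
  refine Com.of_injective f hf ?_
  unfold Com at *
  rw [Nat.card_prod]
  refine (Nat.mul_le_mul h₁ h₂).trans ?_
  rw [mul_mul_mul_comm]
  refine Nat.mul_le_mul_left _ ?_
  rw [← Nat.card_prod]
  haveI := finite_classes (G := Y₁ × Y₂)
  refine Nat.card_le_card_of_surjective (fun q : ConjClasses (Y₁ × Y₂) =>
    (ConjClasses.map (MonoidHom.fst Y₁ Y₂) q, ConjClasses.map (MonoidHom.snd Y₁ Y₂) q)) ?_
  rintro ⟨x, y⟩
  obtain ⟨g, rfl⟩ := ConjClasses.mk_surjective x
  obtain ⟨g', rfl⟩ := ConjClasses.mk_surjective y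
  exact ⟨ConjClasses.mk (g, g'), rfl⟩

variable {F : Type} [Field F] [Finite F] {r : ℕ} [hr : Fact r.Prime] [hchar : CharP F r]

theorem dvd_card_field : r ∣ Nat.card F := by
  haveI := Fintype.ofFinite F
  rw [Nat.card_eq_fintype_card, ← CharP.cast_eq_zero_iff F r]
  exact Nat.cast_card_eq_zero F

section

variable {V : Type} [AddCommGroup V] [Module F V] [Finite V] {X : Type} [Group X] [Finite X]
  {ρ : Representation F X V}

theorem eq_bot_of_charGroup (hρ : Function.Injective ρ) (hirr : Irr ρ) (P : Subgroup X) [hn : P.Normal]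
    (hP : IsPGroup r P) : P = ⊥ := by
  classical
  haveI : Module.Finite F V := Module.Finite.of_finite
  haveI := hirr.1
  letI : MulAction P V :=
    { smul := fun g v => ρ (g : X) v
      one_smul := fun v => by show ρ ((1 : P) : X) v = v; simp
      mul_smul := fun a b v => by
        show ρ ((a * b : P) : X) v = ρ (a : X) (ρ (b : X) v)
        simp }
  let W : Submodule F V :=
    { carrier := {v | ∀ g ∈ P, ρ g v = v}
      zero_mem' := fun g _ => map_zero _
      add_mem' := fun {a b} ha hb g hg => by rw [map_add, ha g hg, hb g hg]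
      smul_mem' := fun c {a} ha g hg => by rw [map_smul, ha g hg] }
  have hW : ∀ x, ∀ v ∈ W, ρ x v ∈ W := fun x v hv g hg => by
    have h := hv _ (hn.conj_mem g hg x⁻¹)
    rw [inv_inv, map_mul, map_mul, Module.End.mul_apply, Module.End.mul_apply] at h
    conv_rhs => rw [← h]
    rw [← Module.End.mul_apply (ρ x), rho_mul_inv, Module.End.one_apply]
  rcases hirr.2 W hW with h | h
  · exfalso
    have hdvd : r ∣ Nat.card V := by
      rw [Module.natCard_eq_pow_finrank (K := F)]
      exact dvd_pow dvd_card_field Module.finrank_pos.ne'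
    obtain ⟨v, hv, hne⟩ := hP.exists_fixed_point_of_prime_dvd_card_of_fixed_point V hdvd (a := 0)
      (fun g => map_zero (ρ (g : X)))
    refine hne.symm ((Submodule.mem_bot F).1 (h ▸ ?_ : v ∈ (⊥ : Submodule F V)))
    exact fun g hg => hv ⟨g, hg⟩
  · rw [eq_bot_iff]
    intro g hg
    refine Subgroup.mem_bot.2 (hρ ?_)
    rw [map_one]
    exact LinearMap.ext fun v => (h ▸ Submodule.mem_top : v ∈ W) g hg

include hr hchar in
theorem neZero_card_comm (hρ : Function.Injective ρ) (hirr : Irr ρ) (A : Subgroup X) [hn : A.Normal]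
    [hA : IsMulCommutative A] : NeZero (Nat.card A : F) := by
  refine ⟨fun h => ?_⟩
  rw [CharP.cast_eq_zero_iff F r] at h
  let P : Subgroup X :=
    { carrier := {a | a ∈ A ∧ a ^ r = 1}
      one_mem' := ⟨one_mem A, one_pow r⟩
      mul_mem' := fun {a b} ha hb => ⟨mul_mem ha.1 hb.1, by
        rw [(show Commute a b from congrArg Subtype.val
          (hA.is_comm.comm (⟨a, ha.1⟩ : A) ⟨b, hb.1⟩)).mul_pow, ha.2, hb.2, one_mul]⟩
      inv_mem' := fun {a} ha => ⟨inv_mem ha.1, by rw [inv_pow, ha.2, inv_one]⟩ }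
  haveI : P.Normal :=
    ⟨fun a ha g => ⟨hn.conj_mem a ha.1 g, by rw [conj_pow, ha.2, mul_one, mul_inv_cancel]⟩⟩
  have hP := eq_bot_of_charGroup hρ hirr P (fun a => ⟨1, Subtype.ext (by simpa using a.2.2)⟩)
  obtain ⟨a, ha⟩ := exists_prime_orderOf_dvd_card' r h
  have h1 : (a : X) ∈ P := ⟨a.2, by rw [← SubmonoidClass.coe_pow, ← ha, pow_orderOf_eq_one]; rfl⟩
  rw [hP, Subgroup.mem_bot, OneMemClass.coe_eq_one] at h1
  rw [h1, orderOf_one] at ha
  exact hr.out.ne_one ha.symm

end

theorem field_weak {V : Type} [AddCommGroup V] [Module F V] [Finite V] [Nontrivial V] {X : Type}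
    [Group X] [Finite X] {ρ : Representation F X V} (hρ : Function.Injective ρ) (hs : Group.IsSolvable X)
    {A : Subgroup X} (hA : MaxAb A) (hF : IsField (algA ρ A)) :
    ∃ k d u J : ℕ, 0 < k ∧ k * d = Module.finrank F V ∧ 0 < u ∧ u ≤ d ∧ J ≤ 27 ^ (u - 1) ∧
      Nat.card X ≤ k * (Nat.card A * (u * u) * J) ∧ Nat.card A ≤ k * Nat.card (ConjClasses X) := by
  classical
  obtain ⟨L⟩ := exists_layer hs hA
  haveI := hA.1
  haveI := hA.2.1
  haveI : Module.Finite F V := Module.Finite.of_finite
  haveI : Finite (Module.End F V) := Finite.of_injective _ DFunLike.coe_injective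
  haveI : Finite (algA ρ A) := Finite.of_injective _ Subtype.val_injective
  letI : Field (algA ρ A) := hF.toField
  letI : Module (algA ρ A) V := Module.compHom V ((algA ρ A).val.toRingHom)
  haveI : IsScalarTower F (algA ρ A) V := ⟨fun r b v => rfl⟩
  haveI : Module.Finite (algA ρ A) V := Module.Finite.of_finite
  haveI : Module.Finite F (algA ρ A) := Module.Finite.of_finite
  set k := Module.finrank F (algA ρ A) with hk
  set d := Module.finrank (algA ρ A) V with hd
  have hkd : k * d = Module.finrank F V := by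
    have h1 : Nat.card V = Nat.card (algA ρ A) ^ d := Module.natCard_eq_pow_finrank
    rw [Module.natCard_eq_pow_finrank (K := F) (V := algA ρ A), ← pow_mul,
      Module.natCard_eq_pow_finrank (K := F) (V := V)] at h1
    exact (Nat.pow_right_injective Finite.one_lt_card h1).symm
  let ι₀ : A →* algA ρ A :=
    { toFun := fun a => ⟨ρ a, rho_mem_algA a.2⟩
      map_one' := Subtype.ext (map_one ρ)
      map_mul' := fun a b => Subtype.ext (map_mul ρ (a : X) b) }
  have hι₀ : Function.Injective ι₀ := fun a b h => Subtype.ext (hρ (congrArg Subtype.val h))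
  let ι : A →* (algA ρ A)ˣ := ι₀.toHomUnits
  have hι : Function.Injective ι := fun a b h => hι₀ (congrArg Units.val h)
  set C := Subgroup.centralizer (A : Set X) with hC
  have hAC : A ≤ C := fun a ha => Subgroup.mem_centralizer_iff.2 fun b hb =>
    congrArg Subtype.val (hA.2.1.is_comm.comm (⟨b, hb⟩ : A) ⟨a, ha⟩)
  let σ : L.B →* Module.End (algA ρ A) V :=
    { toFun := fun x =>
        { toFun := fun v => ρ (x : X) v
          map_add' := fun v w => map_add _ v w
          map_smul' := fun b v => LinearMap.congr_fun (commute_algA (L.hBC x.2) b.2) v }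
      map_one' := LinearMap.ext fun v => by simp
      map_mul' := fun x y => LinearMap.ext fun v => by
        show ρ ((x * y : L.B) : X) v = ρ (x : X) (ρ (y : X) v)
        rw [Subgroup.coe_mul, map_mul, Module.End.mul_apply] }
  have hU := L.card_U_le hι σ (fun a v => rfl)
  rw [← hd] at hU
  obtain ⟨u, hu⟩ : ∃ u, Nat.card L.U = u * u := by
    let ι' : Subgroup.center L.B →* algA ρ A :=
      { toFun := fun z => ι₀ ⟨((z : L.B) : X), Subgroup.mem_subgroupOf.1 (L.center_eq.le z.2)⟩
        map_one' := ι₀.map_one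
        map_mul' := fun a b => by rw [← ι₀.map_mul]; rfl }
    have hι' : Function.Injective ι' := fun a b h => by
      have h1 := hι₀ h
      have h2 := congrArg (fun z : A => (z : X)) h1
      exact Subtype.ext (Subtype.ext h2)
    obtain ⟨S, hS⟩ := CfsgLib.Huppert.exists_sq_index_center L.hcomm ι' hι'
    exact ⟨S, by rw [← Subgroup.index_eq_card, hS]⟩
  rw [hu] at hU
  have hu0 : 0 < u := Nat.pos_of_ne_zero fun h => by
    rw [h] at hu
    exact Nat.card_pos.ne' (hu.trans (mul_zero 0))
  have hidx : C.index ≤ k := by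
    have hle : (conjAlg (ρ := ρ) A).ker ≤ C := fun x hx => Subgroup.mem_centralizer_iff.2 fun a ha => by
      have h1 := congrArg Subtype.val (DFunLike.congr_fun (MonoidHom.mem_ker.1 hx)
        (⟨ρ a, rho_mem_algA ha⟩ : algA ρ A))
      rw [conjAlg_apply, ← map_mul, ← map_mul] at h1
      exact (mul_inv_eq_iff_eq_mul.1 (hρ h1)).symm
    refine (Nat.le_of_dvd (Nat.pos_of_ne_zero Subgroup.index_ne_zero_of_finite)
      (Subgroup.index_dvd_of_le hle)).trans ?_
    rw [Subgroup.index_ker]
    refine (Subgroup.card_le_card_group _).trans ?_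
    rw [Nat.card_eq_fintype_card]
    exact AlgEquiv.card_le
  haveI : Finite (MulAut L.U) := finite_mulAut L.U
  set φ : C →* MulAut L.U := L.act.comp C.subtype with hφ
  have hker : Nat.card φ.ker ≤ Nat.card L.B :=
    Nat.card_le_card_of_injective (fun g => (⟨((g : C) : X), L.mem_of_act_eq_one hι (g : C).2 g.2⟩ : L.B))
      fun a b h => Subtype.ext (Subtype.ext (congrArg (fun z : L.B => (z : X)) h))
  have hrange : φ.range ≤ isomGroup (L.pair ι) := by
    rintro _ ⟨g, rfl⟩
    exact L.act_mem_isom ι g.2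
  have hsq : ∀ q : ℕ, q.Prime → ∀ x : L.U, x ^ (q * q) = 1 → x ^ q = 1 := by
    intro q hq x hx
    let T := (powMonoidHom (q * q) : L.U →* L.U).ker.map (powMonoidHom q)
    have h := L.aniso hA hι T (fun g v hv => by
        obtain ⟨w, hw, rfl⟩ := hv
        refine ⟨L.act g w, ?_, by simp⟩
        rw [SetLike.mem_coe, MonoidHom.mem_ker, powMonoidHom_apply] at hw ⊢
        rw [← map_pow, hw, map_one]) (by
        rintro _ ⟨a, ha, rfl⟩ _ ⟨b, hb, rfl⟩
        rw [SetLike.mem_coe, MonoidHom.mem_ker, powMonoidHom_apply] at ha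
        simp only [powMonoidHom_apply]
        rw [map_pow, map_pow, MonoidHom.pow_apply, ← pow_mul, ← MonoidHom.pow_apply, ← map_pow, ha,
          map_one, MonoidHom.one_apply])
    have h1 : x ^ q ∈ T := ⟨x, by simpa using hx, rfl⟩
    rwa [h, Subgroup.mem_bot] at h1
  haveI : Finite φ.range := Subtype.finite
  refine ⟨k, d, u, Nat.card φ.range, Module.finrank_pos, hkd, hu0,
    Nat.mul_self_le_mul_self_iff.1 hU, ?_, ?_, ?_⟩
  · obtain ⟨m, hm, hb⟩ := isom_le (Nat.card L.U) L.U (algA ρ A) (L.pair ι) (L.isND_pair hι) hsq rfl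
    obtain rfl : m = u := Nat.mul_self_inj.1 (hm.symm.trans hu)
    exact (Nat.card_le_card_of_injective _ (Subgroup.inclusion_injective hrange)).trans hb
  · rw [← C.card_mul_index, mul_comm, ← φ.ker.card_mul_index, Subgroup.index_ker, ← hu, L.card_U_mul]
    exact Nat.mul_le_mul hidx (Nat.mul_le_mul_right _ hker)
  · set A' := A.subgroupOf C with hA'
    have hA'c : A' ≤ Subgroup.center C := fun a ha => Subgroup.mem_center_iff.2 fun g =>
      Subtype.ext (Subgroup.mem_centralizer_iff.1 g.2 _ ha).symm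
    haveI : A'.Normal := hA.1.subgroupOf C
    have h := card_central_add_le hA'c
    have h1 := card_classes_pos (X := C ⧸ A')
    have h2 : Nat.card A' = Nat.card A := Nat.card_congr (Subgroup.subgroupOfEquivOfLe hAC).toEquiv
    have h3 := (Cfsg.Agent.S4200.main C).1
    have h4 := h3.trans (Nat.mul_le_mul_right (Nat.card (ConjClasses X)) hidx)
    omega

theorem lift_ker_injective {G M : Type} [Group G] [Monoid M] (σ : G →* M) :
    Function.Injective (QuotientGroup.lift σ.ker σ le_rfl) := by
  intro a b h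
  induction a using QuotientGroup.induction_on with
  | H x => induction b using QuotientGroup.induction_on with
    | H y =>
      rw [QuotientGroup.eq, MonoidHom.mem_ker, map_mul]
      have h1 : σ x = σ y := h
      rw [← h1, ← map_mul, inv_mul_cancel, map_one]

theorem sq_mul_pow_le {q : ℕ} (hq : 108 ≤ q) {n : ℕ} (hn : 1 ≤ n) :
    n * n * 27 ^ (n - 1) ≤ q ^ (n - 1) := by
  induction n, hn using Nat.le_induction with
  | base => simp
  | succ j hj ih =>
    have e : j + 1 - 1 = (j - 1) + 1 := by omega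
    rw [e, pow_succ, pow_succ]
    have h1 : (j + 1) * (j + 1) * 27 ≤ j * j * 108 := by
      have h2 : (j + 1) * (j + 1) ≤ (2 * j) * (2 * j) := Nat.mul_le_mul (by omega) (by omega)
      have h3 : 2 * j * (2 * j) = 4 * (j * j) := by ring
      omega
    calc (j + 1) * (j + 1) * (27 ^ (j - 1) * 27) = (j + 1) * (j + 1) * 27 * 27 ^ (j - 1) := by ring
      _ ≤ j * j * 108 * 27 ^ (j - 1) := Nat.mul_le_mul_right _ h1
      _ = j * j * 27 ^ (j - 1) * 108 := by ring
      _ ≤ q ^ (j - 1) * q := Nat.mul_le_mul ih hq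

include hr hchar in
theorem cb_gf (hq : 108 ≤ Nat.card F) (n : ℕ) : ∀ (V : Type) [AddCommGroup V] [Module F V] [Finite V]
    (X : Type) [Group X] [Finite X] (ρ : Representation F X V), Function.Injective ρ → Irr ρ →
      Group.IsSolvable X → Module.finrank F V = n → Com X (Nat.card F ^ (n - 1)) := by
  induction n using Nat.strong_induction_on with
  | _ n ih =>
  intro V _ _ _ X _ _ ρ hρ hirr hs hn
  classical
  haveI : Module.Finite F V := Module.Finite.of_finite
  haveI := hirr.1
  obtain ⟨A, hAn, hAc, hmax⟩ := CfsgLib.Huppert.exists_maximal_abelian_normal (G := X)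
  haveI := hAn
  haveI := hAc
  haveI : NeZero (Nat.card A : F) := neZero_card_comm (r := r) hρ hirr A
  rcases dichotomy (ρ := ρ) A with hF | ⟨⟨S⟩⟩
  · obtain ⟨k, d, u, J, hk, hkd, hu, hud, hJ, hh, ha⟩ := field_weak hρ hs ⟨hAn, hAc, hmax⟩ hF
    rw [hn] at hkd
    have hn1 : 1 ≤ n := by rw [← hn]; exact Module.finrank_pos
    have hdn : d ≤ n := Nat.le_of_dvd hn1 ⟨k, by rw [← hkd, mul_comm]⟩
    unfold Com
    calc Nat.card X ≤ k * (Nat.card A * (u * u) * J) := hh
      _ ≤ k * (k * Nat.card (ConjClasses X) * (d * d) * 27 ^ (n - 1)) := Nat.mul_le_mul_left _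
          (Nat.mul_le_mul (Nat.mul_le_mul ha (Nat.mul_le_mul hud hud))
            (hJ.trans (Nat.pow_le_pow_right (by norm_num) (by omega))))
      _ = (k * d) * (k * d) * 27 ^ (n - 1) * Nat.card (ConjClasses X) := by ring
      _ ≤ Nat.card F ^ (n - 1) * Nat.card (ConjClasses X) := by
          rw [hkd]; exact Nat.mul_le_mul_right _ (sq_mul_pow_le hq hn1)
  · haveI := S.finite_blockGroup
    set i₀ : Fin S.m := ⟨0, by have := S.two; omega⟩
    set d := Module.finrank F (S.W i₀) with hd
    have hdm : d * S.m = n := (S.finrank_mul hirr i₀).trans hn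
    have hd0 : 0 < d := S.finrank_pos i₀
    have hlt : d < n := by rw [← hdm]; exact lt_mul_of_one_lt_right hd0 S.two
    have h1 : Com S.perm.ker ((Nat.card F ^ (d - 1)) ^ S.m) := by
      have h := Com.of_joint S.blockHom (S.blockHom_joint hρ) (fun _ => Nat.card F ^ (d - 1)) fun i =>
        ih d hlt _ _ (S.tautRep i) (S.tautRep_injective i) (S.irr_tautRep hirr i)
          (S.isSolvable_blockGroup hs i) (S.finrank_eq_of_irr hirr i _)
      rwa [Finset.prod_const, Finset.card_univ, Fintype.card_fin] at h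
    refine (Com.of_index S.perm.ker (i := 3 ^ (S.m - 1)) ?_ h1).mono ?_
    · rw [Subgroup.index_ker]
      haveI := hs
      exact solvable_perm_le S.m (Fin S.m) S.perm.range
        (Group.isSolvable_of_surjective S.perm.rangeRestrict_surjective) (Nat.card_fin _)
    · rw [← mul_pow 3 3]
      refine (Nat.mul_le_mul_left _ (Nat.pow_le_pow_left (show 3 * 3 ≤ Nat.card F by omega) _)).trans ?_
      rw [← pow_mul, ← pow_add]
      refine Nat.pow_le_pow_right (by omega) ?_
      obtain ⟨c, hc⟩ : ∃ c, d = c + 1 := ⟨d - 1, by omega⟩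
      have := S.two
      rw [hc, add_mul, one_mul] at hdm
      rw [hc, Nat.add_sub_cancel]
      omega

/-- Modulo a normal subgroup of `r`-power order every solvable linear group is of this kind. -/
theorem gf_com (hq : 108 ≤ Nat.card F) (n : ℕ) : ∀ (V : Type) [AddCommGroup V] [Module F V] [Finite V]
    [Nontrivial V] (X : Type) [Group X] [Finite X] (σ : X →* Module.End F V), IsPGroup r σ.ker →
      Group.IsSolvable X → Module.finrank F V = n →
        ∃ M : Subgroup X, ∃ _ : M.Normal, IsPGroup r M ∧ Com (X ⧸ M) (Nat.card F ^ (n - 1)) := by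
  induction n using Nat.strong_induction_on with
  | _ n ih =>
  intro V _ _ _ _ X _ _ σ hσ hs hn
  classical
  haveI := hs
  haveI : Module.Finite F V := Module.Finite.of_finite
  by_cases hirr : ∀ W : Submodule F V, (∀ x, ∀ v ∈ W, σ x v ∈ W) → W = ⊥ ∨ W = ⊤
  · refine ⟨σ.ker, inferInstance, hσ, ?_⟩
    let ρ : Representation F (X ⧸ σ.ker) V := QuotientGroup.lift σ.ker σ le_rfl
    have hρ : Function.Injective ρ := lift_ker_injective σ
    exact cb_gf (r := r) hq n V _ ρ hρ ⟨inferInstance, fun W hW => hirr W fun x v hv =>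
      hW (QuotientGroup.mk x) v hv⟩ (Group.isSolvable_of_surjective (QuotientGroup.mk'_surjective _)) hn
  · push Not at hirr
    obtain ⟨W, hW, hW1, hWt⟩ := hirr
    let σ₁ : X →* Module.End F W :=
      { toFun := fun x => (σ x).restrict (hW x)
        map_one' := by ext v; simp [LinearMap.restrict_apply]
        map_mul' := fun a b => by ext v; simp [LinearMap.restrict_apply] }
    let σ₂ : X →* Module.End F (V ⧸ W) :=
      { toFun := fun x => W.mapQ W (σ x) fun v hv => hW x v hv
        map_one' := by ext v; simp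
        map_mul' := fun a b => by ext v; simp }
    haveI : Nontrivial W := Submodule.nontrivial_iff_ne_bot.2 hW1
    haveI : Nontrivial (V ⧸ W) := Submodule.Quotient.nontrivial_iff.2 hWt
    haveI : Finite (V ⧸ W) := Finite.of_surjective _ (Submodule.mkQ_surjective W)
    have hsum := Submodule.finrank_quotient_add_finrank W
    have h1 : 0 < Module.finrank F W := Module.finrank_pos
    have h2 : 0 < Module.finrank F (V ⧸ W) := Module.finrank_pos
    have hker₁ : IsPGroup r (QuotientGroup.lift σ₁.ker σ₁ le_rfl).ker := by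
      rw [(MonoidHom.ker_eq_bot_iff _).2 (lift_ker_injective σ₁)]
      exact IsPGroup.of_bot
    have hker₂ : IsPGroup r (QuotientGroup.lift σ₂.ker σ₂ le_rfl).ker := by
      rw [(MonoidHom.ker_eq_bot_iff _).2 (lift_ker_injective σ₂)]
      exact IsPGroup.of_bot
    obtain ⟨M₁, hn₁, hp₁, hc₁⟩ := ih _ (by omega : Module.finrank F W < n) W (X ⧸ σ₁.ker)
      (QuotientGroup.lift σ₁.ker σ₁ le_rfl) hker₁ (Group.isSolvable_of_surjective (QuotientGroup.mk'_surjective _)) rfl
    obtain ⟨M₂, hn₂, hp₂, hc₂⟩ := ih _ (by omega : Module.finrank F (V ⧸ W) < n) (V ⧸ W) (X ⧸ σ₂.ker)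
      (QuotientGroup.lift σ₂.ker σ₂ le_rfl) hker₂ (Group.isSolvable_of_surjective (QuotientGroup.mk'_surjective _)) rfl
    haveI := hn₁
    haveI := hn₂
    let f₁ : X →* (X ⧸ σ₁.ker) ⧸ M₁ := (QuotientGroup.mk' M₁).comp (QuotientGroup.mk' σ₁.ker)
    let f₂ : X →* (X ⧸ σ₂.ker) ⧸ M₂ := (QuotientGroup.mk' M₂).comp (QuotientGroup.mk' σ₂.ker)
    refine ⟨(f₁.prod f₂).ker, inferInstance, ?_, ?_⟩
    · rintro ⟨g, hg⟩
      rw [MonoidHom.mem_ker, MonoidHom.prod_apply, Prod.mk_eq_one] at hg
      have hg₁ : (g : X ⧸ σ₁.ker) ∈ M₁ := (QuotientGroup.eq_one_iff _).1 hg.1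
      have hg₂ : (g : X ⧸ σ₂.ker) ∈ M₂ := (QuotientGroup.eq_one_iff _).1 hg.2
      obtain ⟨a, ha⟩ := hp₁ ⟨_, hg₁⟩
      obtain ⟨b, hb⟩ := hp₂ ⟨_, hg₂⟩
      have ha' : g ^ r ^ a ∈ σ₁.ker := (QuotientGroup.eq_one_iff _).1 (congrArg Subtype.val ha)
      have hb' : g ^ r ^ b ∈ σ₂.ker := (QuotientGroup.eq_one_iff _).1 (congrArg Subtype.val hb)
      set y := g ^ r ^ (a + b) with hy
      have hy₁ : y ∈ σ₁.ker := by
        rw [hy, pow_add, pow_mul]; exact pow_mem ha' _
      have hy₂ : y ∈ σ₂.ker := by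
        rw [hy, add_comm, pow_add, pow_mul]; exact pow_mem hb' _
      set N := σ y - 1 with hN
      have hNW : ∀ v ∈ W, N v = 0 := fun v hv => by
        rw [hN, LinearMap.sub_apply, Module.End.one_apply, sub_eq_zero]
        exact congrArg Subtype.val (LinearMap.congr_fun (MonoidHom.mem_ker.1 hy₁) ⟨v, hv⟩)
      have hNV : ∀ v, N v ∈ W := fun v => by
        rw [hN, LinearMap.sub_apply, Module.End.one_apply]
        exact (Submodule.Quotient.eq W).1
          (LinearMap.congr_fun (MonoidHom.mem_ker.1 hy₂) (Submodule.Quotient.mk v))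
      have hN2 : N * N = 0 := LinearMap.ext fun v => hNW _ (hNV v)
      have hpow : ∀ i : ℕ, σ (y ^ i) = 1 + i • N := by
        intro i
        induction i with
        | zero => rw [pow_zero, map_one, zero_nsmul, add_zero]
        | succ i ih =>
          rw [pow_succ, map_mul, ih, show σ y = 1 + N by rw [hN]; abel, add_mul, one_mul, mul_add,
            mul_one, smul_mul_assoc, hN2, smul_zero, add_zero, succ_nsmul]
          abel
      have hyr : y ^ r ∈ σ.ker := by
        rw [MonoidHom.mem_ker, hpow, ← Nat.cast_smul_eq_nsmul F, CharP.cast_eq_zero F r, zero_smul,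
          add_zero]
      obtain ⟨c, hc⟩ := hσ ⟨_, hyr⟩
      refine ⟨a + b + 1 + c, Subtype.ext ?_⟩
      have h3 := congrArg Subtype.val hc
      simp only [SubmonoidClass.coe_pow, OneMemClass.coe_one, hy, ← pow_mul, ← pow_succ, ← pow_add] at h3 ⊢
      exact h3
    · refine (Com.prod (QuotientGroup.kerLift (f₁.prod f₂)) (QuotientGroup.kerLift_injective _)
        hc₁ hc₂).mono ?_
      rw [← pow_add]
      exact Nat.pow_le_pow_right (by omega) (by omega)

end CfsgLib.LinClasses
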