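import Cfsg.Agent.S4201
import Cfsg.Agent.ClassesPerm.Bound

/-!
# Groups all of whose subgroups have few classes

`KB X N`: every subgroup of `X` has at most `N` conjugacy classes.
-/

set_option autoImplicit false

namespace CfsgLib.LinClasses

/-- Every subgroup of `X` has at most `N` classes. -/
def KB (X : Type*) [Group X] (N : ℕ) : Prop :=
  ∀ K : Subgroup X, Nat.card (ConjClasses K) ≤ N

variable {X : Type*} [Group X] {N : ℕ}

theorem card_classes_le_card [Finite X] : Nat.card (ConjClasses X) ≤ Nat.card X :=
  Nat.card_le_card_of_surjective _ ConjClasses.mk_surjective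

theorem card_classes_le_of_surjective {Y : Type*} [Group Y] [Finite X] (f : X →* Y)
    (hf : Function.Surjective f) : Nat.card (ConjClasses Y) ≤ Nat.card (ConjClasses X) :=
  Nat.card_le_card_of_surjective _ (ConjClasses.map_surjective hf)

theorem card_classes_congr {Y : Type*} [Group Y] [Finite X] [Finite Y] (e : X ≃* Y) :
    Nat.card (ConjClasses X) = Nat.card (ConjClasses Y) :=
  le_antisymm (card_classes_le_of_surjective e.symm.toMonoidHom e.symm.surjective)
    (card_classes_le_of_surjective e.toMonoidHom e.surjective)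

theorem KB.of_card_le [Finite X] (h : Nat.card X ≤ N) : KB X N :=
  fun K => card_classes_le_card.trans (K.card_le_card_group.trans h)

theorem KB.mono {M : ℕ} (h : KB X M) (hMN : M ≤ N) : KB X N := fun K => (h K).trans hMN

theorem KB.of_injective {Y : Type*} [Group Y] [Finite Y] (f : X →* Y) (hf : Function.Injective f)
    (h : KB Y N) : KB X N := fun K => by
  haveI : Finite X := Finite.of_injective f hf
  rw [card_classes_congr (K.equivMapOfInjective f hf)]
  exact h _

theorem KB.of_surjective {Y : Type*} [Group Y] [Finite X] (f : X →* Y) (hf : Function.Surjective f)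
    (h : KB X N) : KB Y N := fun K => by
  haveI : Finite Y := Finite.of_surjective f hf
  refine (card_classes_le_of_surjective (f.subgroupComap K) ?_).trans (h _)
  rintro ⟨y, hy⟩
  obtain ⟨x, rfl⟩ := hf y
  exact ⟨⟨x, hy⟩, rfl⟩

theorem KB.of_ker {Y : Type*} [Group Y] [Finite X] [Finite Y] (f : X →* Y) {a b : ℕ}
    (ha : KB f.ker a) (hb : KB Y b) : KB X (a * b) := fun K => by
  let g := f.comp K.subtype
  refine (Cfsg.Agent.S4201.class_number_le g.ker).trans (Nat.mul_le_mul ?_ ?_)
  · let i : g.ker →* f.ker :=
      { toFun := fun x => ⟨((x : K) : X), x.2⟩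
        map_one' := rfl
        map_mul' := fun x y => rfl }
    have hi : Function.Injective i := fun x y h =>
      Subtype.ext (Subtype.ext (congrArg (fun z : f.ker => (z : X)) h))
    rw [card_classes_congr (MonoidHom.ofInjective hi)]
    exact ha _
  · rw [card_classes_congr (QuotientGroup.quotientKerEquivRange g)]
    exact hb _

/-- Jointly injective homomorphisms. -/
theorem KB.of_joint {ι : Type*} {Y : ι → Type*} [∀ i, Group (Y i)] [∀ i, Finite (Y i)]
    (c : ι → ℕ) (hY : ∀ i, KB (Y i) (c i)) (s : Finset ι) :
    ∀ {Z : Type*} [Group Z] [Finite Z] (f : ∀ i, Z →* Y i),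
      (∀ z, (∀ i ∈ s, f i z = 1) → z = 1) → KB Z (∏ i ∈ s, c i) := by
  classical
  induction s using Finset.induction with
  | empty =>
    intro Z _ _ f h
    refine KB.of_card_le ?_
    haveI : Subsingleton Z := ⟨fun a b => by rw [h a (by simp), h b (by simp)]⟩
    simp
  | insert j t hj ih =>
    intro Z _ _ f h
    rw [Finset.prod_insert hj, mul_comm]
    refine KB.of_ker (f j) (ih (fun i => (f i).comp (f j).ker.subtype) fun z hz => ?_) (hY j)
    refine Subtype.ext (h z fun i hi => ?_)
    rcases Finset.mem_insert.1 hi with rfl | hi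
    · exact z.2
    · exact hz i hi

/-- Jointly injective homomorphisms bound the order. -/
theorem card_le_of_joint {ι : Type*} {Y : ι → Type*} [∀ i, Group (Y i)] [∀ i, Finite (Y i)]
    (s : Finset ι) {Z : Type*} [Group Z] (f : ∀ i, Z →* Y i) (c : ι → ℕ)
    (hc : ∀ i ∈ s, Nat.card (f i).range ≤ c i)
    (h : ∀ z, (∀ i ∈ s, f i z = 1) → z = 1) : Nat.card Z ≤ ∏ i ∈ s, c i := by
  classical
  let g : Z →* ∀ i : s, (f i).range := Pi.monoidHom fun i => (f i).rangeRestrict
  have hg : Function.Injective g := (injective_iff_map_eq_one g).2 fun z hz =>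
    h z fun i hi => congrArg Subtype.val (congrFun hz ⟨i, hi⟩)
  refine (Nat.card_le_card_of_injective g hg).trans ?_
  rw [Nat.card_pi]
  exact (Finset.prod_le_prod' (s := (Finset.univ : Finset s)) fun i _ => hc i.1 i.2).trans
    (le_of_eq (Finset.prod_coe_sort s c))

theorem KB.perm (ι : Type) [Finite ι] [Nonempty ι] :
    KB (Equiv.Perm ι) (2 ^ (Nat.card ι - 1)) := by
  refine KB.of_injective (Y := Equiv.Perm (Fin (Nat.card ι)))
    (Finite.equivFin ι).permCongrHom.toMonoidHom (MulEquiv.injective _) fun K => ?_
  exact CfsgLib.ClassesPerm.card_conjClasses_le Nat.card_pos K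

theorem card_commute_perm_three :
    Nat.card {q : Equiv.Perm (Fin 3) × Equiv.Perm (Fin 3) // Commute q.1 q.2} = 18 := by
  classical
  rw [Nat.card_eq_fintype_card, Fintype.card_subtype]
  simp only [commute_iff_eq]
  decide

theorem KB.perm_three : KB (Equiv.Perm (Fin 3)) 3 := fun K => by
  classical
  have h6 : Nat.card (Equiv.Perm (Fin 3)) = 6 := by
    rw [Nat.card_perm, Nat.card_fin]; rfl
  rcases eq_or_ne K ⊤ with rfl | hK
  · rw [card_classes_congr Subgroup.topEquiv]
    have h := card_comm_eq_card_conjClasses_mul_card (Equiv.Perm (Fin 3))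
    rw [card_commute_perm_three, h6] at h
    omega
  · refine card_classes_le_card.trans ?_
    have h1 := K.card_mul_index
    rw [h6] at h1
    have h2 : K.index ≠ 1 := fun h => hK (Subgroup.index_eq_one.1 h)
    have h3 : 2 ≤ K.index := by
      have := (Subgroup.index_ne_zero_of_finite (H := K))
      omega
    have h4 : Nat.card K * 2 ≤ Nat.card K * K.index := Nat.mul_le_mul_left _ h3
    omega

end CfsgLib.LinClasses
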