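import Mathlib

/-!
# The generic size of a symplectic group against `3 ^ (p ^ a - 1)`
-/

set_option autoImplicit false

namespace CfsgLib.LinClasses

theorem cube_le (p : ℕ) (hp : 7 ≤ p) : p ^ 3 ≤ 3 ^ (p - 1) := by
  induction p, hp using Nat.le_induction with
  | base => norm_num
  | succ n hn ih =>
    have e : n + 1 - 1 = (n - 1) + 1 := by omega
    rw [e, pow_succ' 3 (n - 1)]
    refine le_trans ?_ (Nat.mul_le_mul_left 3 ih)
    have h1 : 49 ≤ n * n := Nat.mul_le_mul hn hn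
    have h2 : 7 * (n * n) ≤ n * (n * n) := Nat.mul_le_mul_right _ hn
    nlinarith

theorem self_le (p : ℕ) (hp : 2 ≤ p) : p ≤ 3 ^ (p - 1) := by
  induction p, hp using Nat.le_induction with
  | base => norm_num
  | succ n hn ih =>
    have e : n + 1 - 1 = (n - 1) + 1 := by omega
    rw [e, pow_succ' 3 (n - 1)]
    omega

theorem linear_le_pow {p a₀ : ℕ} (hp : 2 ≤ p) (h0 : 4 * a₀ + 3 ≤ p ^ a₀) (h1 : 4 ≤ p ^ a₀) {a : ℕ}
    (ha : a₀ ≤ a) : 4 * a + 3 ≤ p ^ a := by
  induction a, ha using Nat.le_induction with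
  | base => exact h0
  | succ n hn ih =>
    have h2 : 4 ≤ p ^ n := h1.trans (Nat.pow_le_pow_right (by omega) hn)
    have h3 : p ^ n * 2 ≤ p ^ n * p := Nat.mul_le_mul_left _ hp
    rw [pow_succ]
    omega

theorem pow_symp_le {p a₀ : ℕ} (hp : 2 ≤ p) (hb : p ^ (a₀ * (2 * a₀ + 1)) ≤ 3 ^ (p ^ a₀ - 1))
    (h0 : 4 * a₀ + 3 ≤ p ^ a₀) (h1 : 4 ≤ p ^ a₀) {a : ℕ} (ha : a₀ ≤ a) :
    p ^ (a * (2 * a + 1)) ≤ 3 ^ (p ^ a - 1) := by
  induction a, ha using Nat.le_induction with
  | base => exact hb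
  | succ n hn ih =>
    have e1 : (n + 1) * (2 * (n + 1) + 1) = n * (2 * n + 1) + (4 * n + 3) := by ring
    obtain ⟨c, hc⟩ : ∃ c, p = c + 1 := ⟨p - 1, by omega⟩
    have e2 : p ^ (n + 1) - 1 = (p ^ n - 1) + p ^ n * (p - 1) := by
      have : 1 ≤ p ^ n := Nat.one_le_pow _ _ (by omega)
      rw [pow_succ, hc, Nat.add_sub_cancel, Nat.mul_add, mul_one]
      rw [hc] at this
      omega
    rw [e1, e2, pow_add p (n * (2 * n + 1)) (4 * n + 3), pow_add 3 (p ^ n - 1)]
    refine Nat.mul_le_mul ih ?_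
    rw [mul_comm (p ^ n), pow_mul]
    refine (Nat.pow_le_pow_left (self_le p hp) _).trans
      (Nat.pow_le_pow_right (Nat.one_le_pow _ _ (by norm_num)) (linear_le_pow hp h0 h1 hn))

theorem good_cases {p a : ℕ} (hp : p.Prime) (ha : 1 ≤ a) :
    p ^ (a * (2 * a + 1)) ≤ 3 ^ (p ^ a - 1) ∨
      (p = 2 ∧ a ≤ 5) ∨ (p = 3 ∧ a ≤ 2) ∨ (p = 5 ∧ a = 1) := by
  rcases Nat.lt_or_ge p 7 with h7 | h7
  · have h2 := hp.two_le
    interval_cases p
    · rcases Nat.lt_or_ge a 6 with h | h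
      · omega
      · exact Or.inl (pow_symp_le le_rfl (by norm_num) (by norm_num) (by norm_num) h)
    · rcases Nat.lt_or_ge a 3 with h | h
      · omega
      · exact Or.inl (pow_symp_le (by norm_num) (by norm_num) (by norm_num) (by norm_num) h)
    · exact absurd hp (by norm_num)
    · rcases Nat.lt_or_ge a 2 with h | h
      · omega
      · exact Or.inl (pow_symp_le (by norm_num) (by norm_num) (by norm_num) (by norm_num) h)
    · exact absurd hp (by norm_num)
  · exact Or.inl (pow_symp_le (by omega) (by simpa using cube_le p h7) (by simpa using h7)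
      (by simp; omega) ha)

end CfsgLib.LinClasses
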