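import Cfsg.Agent.LinClasses.SympTheorem

/-!
# Orders of isometry groups of layers
-/

set_option autoImplicit false
set_option linter.style.haveILetI false

namespace CfsgLib.LinClasses

open Matrix MatrixGroups

/-- The bound for solvable anisotropic isometry groups of a layer of order `m * m`. -/
def jBound (m : ℕ) : ℕ :=
  if m ≤ 1 then 1 else if m = 2 then 6 else if m = 3 then 24 else if m = 4 then 72 else 3 ^ (m - 1)

theorem jBound_big {m : ℕ} (h : 5 ≤ m) : jBound m = 3 ^ (m - 1) := by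
  simp only [jBound, if_neg (show ¬ m ≤ 1 by omega), if_neg (show m ≠ 2 by omega),
    if_neg (show m ≠ 3 by omega), if_neg (show m ≠ 4 by omega)]

theorem jBound_le_pow {m : ℕ} (h : 2 ≤ m) : jBound m ≤ 3 ^ m := by
  rcases Nat.lt_or_ge m 5 with h5 | h5
  · interval_cases m <;> decide
  · rw [jBound_big h5]
    exact Nat.pow_le_pow_right (by norm_num) (by omega)

theorem jBound_mul {a b : ℕ} (ha : 2 ≤ a) (hb : 2 ≤ b) : jBound a * jBound b ≤ jBound (a * b) := by
  by_cases h22 : a = 2 ∧ b = 2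
  · obtain ⟨rfl, rfl⟩ := h22
    decide
  · have h5 : 5 ≤ a * b := by
      rcases Nat.lt_or_ge a 3 with h | h
      · obtain rfl : a = 2 := by omega
        omega
      · have := Nat.mul_le_mul h hb
        omega
    rw [jBound_big h5]
    refine (Nat.mul_le_mul (jBound_le_pow ha) (jBound_le_pow hb)).trans ?_
    rw [← pow_add]
    refine Nat.pow_le_pow_right (by norm_num) ?_
    obtain ⟨x, rfl⟩ : ∃ x, a = x + 2 := ⟨a - 2, by omega⟩
    obtain ⟨y, rfl⟩ : ∃ y, b = y + 2 := ⟨b - 2, by omega⟩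
    have : (x + 2) * (y + 2) = x * y + 2 * x + 2 * y + 4 := by ring
    omega

section Split

variable {U : Type} [CommGroup U] [Finite U] {K : Type} [Field K] {β : U →* U →* Kˣ}

theorem split_of_inf (W : Subgroup U) (hW : W ⊓ orth β W = ⊥) :
    Nat.card U = Nat.card W * Nat.card (orth β W) ∧ ∀ u, ∃ w ∈ W, ∃ v ∈ orth β W, u = w * v := by
  let m : W × orth β W → U := fun x => x.1 * x.2
  have hm : Function.Injective m := by
    rintro ⟨a, b⟩ ⟨a', b'⟩ hab
    have h1 : (a' : U)⁻¹ * a = b' * (b : U)⁻¹ := by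
      rw [eq_mul_inv_iff_mul_eq, mul_assoc, inv_mul_eq_iff_eq_mul]
      exact hab
    have h2 : (a' : U)⁻¹ * a ∈ W ⊓ orth β W :=
      Subgroup.mem_inf.2 ⟨W.mul_mem (W.inv_mem a'.2) a.2,
        h1.symm ▸ (orth β W).mul_mem b'.2 ((orth β W).inv_mem b.2)⟩
    rw [hW, Subgroup.mem_bot, inv_mul_eq_one] at h2
    have h3 : a = a' := Subtype.ext h2.symm
    subst h3
    exact Prod.ext rfl (Subtype.ext (mul_left_cancel hab))
  have hcard : Nat.card U = Nat.card W * Nat.card (orth β W) := by
    refine le_antisymm ?_ ?_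
    · rw [mul_comm]; exact card_le_orth_mul W
    · rw [← Nat.card_prod]; exact Nat.card_le_card_of_injective m hm
  refine ⟨hcard, fun u => ?_⟩
  obtain ⟨⟨w, v⟩, rfl⟩ := ((Nat.bijective_iff_injective_and_card m).2
    ⟨hm, by rw [Nat.card_prod, hcard]⟩).2 u
  exact ⟨w, w.2, v, v.2, rfl⟩

theorem card_le_res {Y : Subgroup (MulAut U)} {W W' : Subgroup U} (hW : Stable Y W) (hW' : Stable Y W')
    (hdec : ∀ u, ∃ w ∈ W, ∃ v ∈ W', u = w * v) :
    Nat.card Y ≤ Nat.card (resHom hW).range * Nat.card (resHom hW').range := by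
  haveI := finite_mulAut W
  haveI := finite_mulAut W'
  rw [← Nat.card_prod]
  refine Nat.card_le_card_of_injective ((resHom hW).rangeRestrict.prod (resHom hW').rangeRestrict)
    ((injective_iff_map_eq_one _).2 fun y hy => Subtype.ext (MulEquiv.ext fun u => ?_))
  obtain ⟨w, hw, v, hv, rfl⟩ := hdec u
  have h1 := congrArg (fun g : (resHom hW).range × (resHom hW').range =>
    (((g.1 : MulAut W) ⟨w, hw⟩ : W) : U)) hy
  have h2 := congrArg (fun g : (resHom hW).range × (resHom hW').range =>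
    (((g.2 : MulAut W') ⟨v, hv⟩ : W') : U)) hy
  show (y : MulAut U) (w * v) = w * v
  rw [map_mul]
  exact congrArg₂ (· * ·) h1 h2

theorem one_lt_both {W : Subgroup U} (hcard : Nat.card U = Nat.card W * Nat.card (orth β W))
    (hW1 : W ≠ ⊥) (hWt : W ≠ ⊤) :
    Nat.card W < Nat.card U ∧ Nat.card (orth β W) < Nat.card U ∧ 1 < Nat.card W ∧
      1 < Nat.card (orth β W) := by
  have h2 : 1 < Nat.card W := Subgroup.one_lt_card_iff_ne_bot _ |>.2 hW1
  have h2' : 1 < Nat.card (orth β W) := by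
    by_contra hh
    refine hWt (Subgroup.eq_top_of_card_eq W ?_)
    have h0 : Nat.card (orth β W) = 1 := by
      have := Nat.card_pos (α := orth β W)
      omega
    rw [hcard, h0, mul_one]
  refine ⟨?_, ?_, h2, h2'⟩
  · rw [hcard]; exact lt_mul_of_one_lt_right (by omega) h2'
  · rw [hcard]; exact lt_mul_of_one_lt_left (by omega) h2

end Split

theorem symp_order (n : ℕ) : ∀ (U : Type) [CommGroup U] [Finite U] (K : Type) [Field K]
    (β : U →* U →* Kˣ) (Y : Subgroup (MulAut U)), IsND β → Y ≤ isomGroup β → Aniso Y.subtype β →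
      Group.IsSolvable Y → Nat.card U = n → ∃ m, n = m * m ∧ Nat.card Y ≤ jBound m := by
  induction n using Nat.strong_induction_on with
  | _ n ih =>
  intro U _ _ K _ β Y h hiso hani hs hn
  classical
  haveI := finite_mulAut U
  haveI : Finite Y := Subtype.finite
  rcases subsingleton_or_nontrivial U with hU | hU
  · refine ⟨1, by rw [← hn, Nat.card_of_subsingleton 1], ?_⟩
    haveI : Subsingleton (MulAut U) := ⟨fun a b => MulEquiv.ext fun x => Subsingleton.elim _ _⟩
    simp [Nat.card_of_subsingleton (1 : Y), jBound]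
  by_cases hirr : ∀ W : Subgroup U, Stable Y W → W = ⊥ ∨ W = ⊤
  swap
  · push Not at hirr
    obtain ⟨W, hW, hW1, hWt⟩ := hirr
    obtain ⟨hcard, hdec⟩ := split_card h hani hiso hW
    have hW' := stable_orth hiso hW
    obtain ⟨l1, l2, g1, g2⟩ := one_lt_both hcard hW1 hWt
    rw [hn] at l1 l2
    obtain ⟨a1, a2, a3, a4⟩ := res_hyps h hiso hani hs hW
    obtain ⟨b1, b2, b3, b4⟩ := res_hyps h hiso hani hs hW'
    obtain ⟨m₁, e₁, k₁⟩ := ih _ l1 W K _ _ a1 a2 a3 a4 rfl
    obtain ⟨m₂, e₂, k₂⟩ := ih _ l2 (orth β W) K _ _ b1 b2 b3 b4 rfl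
    refine ⟨m₁ * m₂, by rw [← hn, hcard, e₁, e₂]; ring, ?_⟩
    refine (card_le_res hW hW' hdec).trans ((Nat.mul_le_mul k₁ k₂).trans (jBound_mul ?_ ?_))
    · rcases m₁ with _ | _ | m <;> omega
    · rcases m₂ with _ | _ | m <;> omega
  set p := (Nat.card U).minFac with hpdef
  have hp : p.Prime := Nat.minFac_prime (by
    have := Finite.one_lt_card (α := U)
    omega)
  haveI := Fact.mk hp
  have hexp : ∀ u : U, u ^ p = 1 := by
    rcases hirr (powMonoidHom p : U →* U).ker (fun y w hw => by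
        rw [MonoidHom.mem_ker, powMonoidHom_apply] at hw ⊢
        rw [← map_pow, hw, map_one]) with h0 | h0
    · exfalso
      obtain ⟨g, hg⟩ := exists_prime_orderOf_dvd_card' (G := U) p (Nat.minFac_dvd _)
      have h1 : g ∈ (powMonoidHom p : U →* U).ker := by
        rw [MonoidHom.mem_ker, powMonoidHom_apply, ← hg, pow_orderOf_eq_one]
      rw [h0, Subgroup.mem_bot] at h1
      rw [h1, orderOf_one] at hg
      exact hp.ne_one hg.symm
    · intro u
      have h1 : u ∈ (powMonoidHom p : U →* U).ker := h0 ▸ Subgroup.mem_top u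
      rwa [MonoidHom.mem_ker, powMonoidHom_apply] at h1
  obtain ⟨a, ha, hcard⟩ := card_isom_le h hexp
  have hYc : Nat.card Y ≤ p ^ (a * (2 * a + 1)) :=
    (Nat.card_le_card_of_injective _ (Subgroup.inclusion_injective hiso)).trans hcard
  have ha1 : 1 ≤ a := by
    by_contra hh
    obtain rfl : a = 0 := by omega
    have := Finite.one_lt_card (α := U)
    rw [ha] at this
    simp at this
  letI : Module (ZMod p) (Additive U) := AddCommGroup.zmodModule fun x => hexp (Additive.toMul x)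
  haveI : Finite (Additive U) := inferInstanceAs (Finite U)
  have hrk : Module.finrank (ZMod p) (Additive U) = 2 * a := finrank_linRep ha
  have hbnd : ∀ b, Bnd p (2 * a) b → Nat.card Y ≤ b := fun b hb =>
    hb (Additive U) Y (linRep Y) (linRep_injective Y) (linRep_irr Y hirr) hs hrk
  refine ⟨p ^ a, by rw [← hn, ha, two_mul, pow_add], ?_⟩
  by_cases h22 : p = 2 ∧ a = 2
  · obtain ⟨h2, rfl⟩ := h22
    clear_value p
    subst h2
    exact hbnd _ bnd_two_four
  by_cases h21 : p = 2 ∧ a = 1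
  · obtain ⟨h2, rfl⟩ := h21
    refine (Subgroup.card_le_card_group _).trans (card_mulAut_le.trans ?_)
    rw [ha, h2]
    decide
  by_cases hsmall : a = 1 ∧ (p = 3 ∨ p = 5)
  · obtain ⟨rfl, hp35⟩ := hsmall
    obtain ⟨f, hf⟩ := exists_sl_hom h hexp (ha : Nat.card U = p ^ 2)
    let F := f.comp (Subgroup.inclusion hiso)
    have hF : Function.Injective F := hf.comp (Subgroup.inclusion_injective hiso)
    have h1 : Nat.card Y ≤ Nat.card F.range :=
      Nat.card_le_card_of_injective F.rangeRestrict (fun x y hxy => hF (congrArg Subtype.val hxy))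
    refine h1.trans ?_
    rcases hp35 with h1 | h1
    · clear_value p
      subst h1
      exact (Subgroup.card_le_card_group _).trans (by rw [card_sl_three]; decide)
    · clear_value p
      subst h1
      haveI := hs
      exact (card_le_of_isSolvable_sl_five F.range
        (Group.isSolvable_of_surjective F.rangeRestrict_surjective)).trans (by decide)
  have hp2 := hp.two_le
  have h5 : 5 ≤ p ^ a := by
    rcases Nat.lt_or_ge p 5 with hp5 | hp5
    · interval_cases p
      · have : 2 ^ 3 ≤ 2 ^ a := Nat.pow_le_pow_right (by norm_num) (by omega)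
        omega
      · have : 3 ^ 2 ≤ 3 ^ a := Nat.pow_le_pow_right (by norm_num) (by omega)
        omega
      · exact absurd hp (by norm_num)
    · exact hp5.trans (Nat.le_self_pow (by omega) p)
  rw [jBound_big h5]
  rcases good_cases hp ha1 with hg | ⟨h2, ha5⟩ | ⟨h3, ha3⟩ | ⟨h5', rfl⟩
  · exact hYc.trans hg
  · clear_value p
    subst h2
    rcases (by omega : a = 3 ∨ a = 4 ∨ a = 5) with rfl | rfl | rfl
    · exact (hbnd _ bnd_two_six).trans (by norm_num)
    · exact (hbnd _ bnd_two_eight).trans (by norm_num)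
    · exact (hbnd _ bnd_two_ten).trans (by norm_num)
  · clear_value p
    subst h3
    obtain rfl : a = 2 := by omega
    exact (hbnd _ (bnd_three_four fourBound)).trans (by norm_num)
  · exact absurd ⟨rfl, Or.inr h5'⟩ hsmall

theorem pow_isom_le {q a : ℕ} (hq : q.Prime) (ha : 1 ≤ a) :
    q ^ (a * (2 * a + 1)) ≤ 27 ^ (q ^ a - 1) := by
  rcases good_cases hq ha with hg | ⟨rfl, ha5⟩ | ⟨rfl, ha2⟩ | ⟨rfl, rfl⟩
  · exact hg.trans (Nat.pow_le_pow_left (by norm_num) _)
  · interval_cases a <;> norm_num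
  · interval_cases a <;> norm_num
  · norm_num

/-- The isometry group of a layer without elements of square order. -/
theorem isom_le (n : ℕ) : ∀ (U : Type) [CommGroup U] [Finite U] (K : Type) [Field K]
    (β : U →* U →* Kˣ), IsND β →
      (∀ q : ℕ, q.Prime → ∀ x : U, x ^ (q * q) = 1 → x ^ q = 1) → Nat.card U = n →
        ∃ m, n = m * m ∧ Nat.card (isomGroup β) ≤ 27 ^ (m - 1) := by
  induction n using Nat.strong_induction_on with
  | _ n ih =>
  intro U _ _ K _ β h hsq hn
  classical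
  haveI := finite_mulAut U
  rcases subsingleton_or_nontrivial U with hU | hU
  · refine ⟨1, by rw [← hn, Nat.card_of_subsingleton 1], ?_⟩
    haveI : Subsingleton (MulAut U) := ⟨fun a b => MulEquiv.ext fun x => Subsingleton.elim _ _⟩
    simp
  set q := (Nat.card U).minFac with hqdef
  have hq : q.Prime := Nat.minFac_prime (by
    have := Finite.one_lt_card (α := U)
    omega)
  haveI := Fact.mk hq
  set W := (powMonoidHom q : U →* U).ker with hWdef
  have hmemW : ∀ x, x ∈ W ↔ x ^ q = 1 := fun x => by rw [hWdef, MonoidHom.mem_ker, powMonoidHom_apply]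
  by_cases hWt : W = ⊤
  · have hexp : ∀ u : U, u ^ q = 1 := fun u => (hmemW u).1 (hWt ▸ Subgroup.mem_top u)
    obtain ⟨a, ha, hb⟩ := card_isom_le h hexp
    refine ⟨q ^ a, by rw [← hn, ha, two_mul, pow_add], hb.trans ?_⟩
    rcases Nat.eq_zero_or_pos a with rfl | ha1
    · simp
    · exact pow_isom_le hq ha1
  have hinf : W ⊓ orth β W = ⊥ := by
    rw [eq_bot_iff]
    rintro x ⟨hx, hx'⟩
    rw [Subgroup.mem_bot]
    refine h.nd x fun v => ?_
    obtain ⟨r, hr1, hr2⟩ : ∃ r, Nat.Coprime q r ∧ (v ^ r) ^ q = 1 := by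
      by_cases hd : q ∣ orderOf v
      · obtain ⟨r, hr⟩ := hd
        refine ⟨r, (Nat.Prime.coprime_iff_not_dvd hq).2 fun ⟨t, ht⟩ => ?_,
          by rw [← pow_mul, mul_comm, ← hr, pow_orderOf_eq_one]⟩
        have h1 : (v ^ t) ^ q = 1 := hsq q hq (v ^ t) (by
          rw [← pow_mul, show t * (q * q) = orderOf v by rw [hr, ht]; ring, pow_orderOf_eq_one])
        rw [← pow_mul, ← orderOf_dvd_iff_pow_eq_one, hr, ht, mul_comm t q] at h1
        have hpos := orderOf_pos v
        rw [hr, ht] at hpos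
        have h2 := Nat.le_of_dvd (Nat.pos_of_mul_pos_left hpos) h1
        have h3 : 1 * (q * t) < q * (q * t) := Nat.mul_lt_mul_of_pos_right hq.one_lt
          (Nat.pos_of_mul_pos_left hpos)
        omega
      · exact ⟨orderOf v, (Nat.Prime.coprime_iff_not_dvd hq).2 hd,
          by rw [pow_orderOf_eq_one, one_pow]⟩
    have h1 : β x v ^ q = 1 := by
      rw [← MonoidHom.pow_apply, ← map_pow, (hmemW x).1 hx, map_one]; rfl
    have h2 : β x v ^ r = 1 := by
      rw [← map_pow]
      exact hx' _ ((hmemW _).2 hr2)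
    have h3 := pow_gcd_eq_one.2 ⟨h1, h2⟩
    rwa [hr1, pow_one] at h3
  have hW : Stable (isomGroup β) W := fun y w hw => by
    rw [hmemW] at hw ⊢
    rw [← map_pow, hw, map_one]
  have hW' := stable_orth le_rfl hW
  obtain ⟨hcard, hdec⟩ := split_of_inf W hinf
  have hW1 : W ≠ ⊥ := fun h0 => by
    obtain ⟨g, hg⟩ := exists_prime_orderOf_dvd_card' (G := U) q (Nat.minFac_dvd _)
    have h1 : g ∈ W := (hmemW g).2 (by rw [← hg, pow_orderOf_eq_one])
    rw [h0, Subgroup.mem_bot] at h1
    rw [h1, orderOf_one] at hg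
    exact hq.ne_one hg.symm
  obtain ⟨l1, l2, g1, g2⟩ := one_lt_both hcard hW1 hWt
  rw [hn] at l1 l2
  have hinf' : orth β W ⊓ orth β (orth β W) = ⊥ := by
    rw [eq_bot_iff]
    rintro x ⟨hx, hx'⟩
    rw [Subgroup.mem_bot]
    refine h.nd x fun v => ?_
    obtain ⟨w, hw, u, hu, rfl⟩ := hdec v
    rw [map_mul, hx w hw, hx' u hu, one_mul]
  obtain ⟨m₁, e₁, k₁⟩ := ih _ l1 W K _ (isND_resPair h W hinf)
    (fun r hr x hx => Subtype.ext (hsq r hr x (congrArg Subtype.val hx))) rfl
  obtain ⟨m₂, e₂, k₂⟩ := ih _ l2 (orth β W) K _ (isND_resPair h _ hinf')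
    (fun r hr x hx => Subtype.ext (hsq r hr x (congrArg Subtype.val hx))) rfl
  refine ⟨m₁ * m₂, by rw [← hn, hcard, e₁, e₂]; ring, ?_⟩
  have hm₁ : 2 ≤ m₁ := by rcases m₁ with _ | _ | m <;> omega
  have hm₂ : 2 ≤ m₂ := by rcases m₂ with _ | _ | m <;> omega
  haveI := finite_mulAut W
  haveI := finite_mulAut (orth β W)
  refine (card_le_res hW hW' hdec).trans ((Nat.mul_le_mul
    ((Nat.card_le_card_of_injective _ (Subgroup.inclusion_injective
      (show (resHom hW).range ≤ isomGroup (resPair β W) by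
        rintro _ ⟨y, rfl⟩ u v; exact y.2 u v))).trans k₁)
    ((Nat.card_le_card_of_injective _ (Subgroup.inclusion_injective
      (show (resHom hW').range ≤ isomGroup (resPair β (orth β W)) by
        rintro _ ⟨y, rfl⟩ u v; exact y.2 u v))).trans k₂)).trans ?_)
  rw [← pow_add]
  refine Nat.pow_le_pow_right (by norm_num) ?_
  obtain ⟨x, rfl⟩ : ∃ x, m₁ = x + 2 := ⟨m₁ - 2, by omega⟩
  obtain ⟨y, rfl⟩ : ∃ y, m₂ = y + 2 := ⟨m₂ - 2, by omega⟩
  have : (x + 2) * (y + 2) = x * y + 2 * x + 2 * y + 4 := by ring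
  omega

end CfsgLib.LinClasses
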