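import Cfsg.Agent.LinClasses.FieldData
import Mathlib.LinearAlgebra.Matrix.Trace

/-!
# Scalar maximal abelian normal subgroups in dimension two
-/

set_option autoImplicit false
set_option linter.style.haveILetI false

namespace CfsgLib.LinClasses

variable {X : Type} [Group X] [Finite X]

theorem plane_counts {p : ℕ} [hp : Fact p.Prime] (hp2 : 2 < p)
    (R : X →* Matrix (Fin 2) (Fin 2) (ZMod p)) (hR : Function.Injective R) (hs : Group.IsSolvable X)
    {A : Subgroup X} (hA : MaxAb A) (hsc : ∀ a ∈ A, ∃ c : ZMod p, R a = c • 1) (L : Layer A)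
    (hU : Nat.card L.U = 4) :
    Com X 4 ∨ (4 * Nat.card A ≤ Nat.card (ConjClasses X) ∧ Nat.card X ≤ 24 * Nat.card A) := by
  classical
  have hcen : ∀ g : X, (∃ c : ZMod p, R g = c • 1) → g ∈ Subgroup.center X := by
    rintro g ⟨c, hc⟩
    refine Subgroup.mem_center_iff.2 fun x => hR ?_
    rw [map_mul, map_mul, hc, smul_mul_assoc, one_mul, mul_smul_comm, mul_one]
  have hAc : A ≤ Subgroup.center X := fun a ha => hcen a (hsc a ha)
  have hZA : Subgroup.center X = A := hA.2.2 _ inferInstance
    ⟨⟨fun a b => Subtype.ext (Subgroup.mem_center_iff.1 b.2 a)⟩⟩ hAc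
  have hC : ∀ g : X, g ∈ Subgroup.centralizer (A : Set X) := fun g =>
    Subgroup.mem_centralizer_iff.2 fun a ha => (Subgroup.mem_center_iff.1 (hAc ha) g).symm
  choose c hc using hsc
  have hinj : ∀ x y : ZMod p, x • (1 : Matrix (Fin 2) (Fin 2) (ZMod p)) = y • 1 → x = y := fun x y h =>
    smul_left_injective (ZMod p) (one_ne_zero) h
  let ι₀ : A →* ZMod p :=
    { toFun := fun a => c a a.2
      map_one' := hinj _ _ (by rw [← hc, OneMemClass.coe_one, map_one, one_smul])
      map_mul' := fun a b => hinj _ _ (by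
        rw [← hc, Subgroup.coe_mul, map_mul, hc (a : X) a.2, hc (b : X) b.2, smul_mul_smul_comm, mul_one]) }
  have hι₀ : Function.Injective ι₀ := fun a b h => Subtype.ext (hR (by
    rw [hc (a : X) a.2, hc (b : X) b.2]
    exact congrArg (· • (1 : Matrix (Fin 2) (Fin 2) (ZMod p))) h))
  let ι : A →* (ZMod p)ˣ := ι₀.toHomUnits
  have hι : Function.Injective ι := fun a b h => hι₀ (congrArg Units.val h)
  -- fibres
  have hdet : ∀ g x : X, IsConj g x → Matrix.det (R g) = Matrix.det (R x) := fun g x h =>
    isConj_iff_eq.1 ((Matrix.detMonoidHom.comp R).map_isConj h)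
  have hsquare : ∀ g : X, ∀ a : A, IsConj (g * a) g → ι₀ a * ι₀ a = 1 := by
    intro g a h
    have h1 := hdet _ _ h
    have hu : IsUnit (Matrix.det (R g)) := by
      have h2 : Matrix.det (R g) * Matrix.det (R g⁻¹) = 1 := by
        rw [← Matrix.det_mul, ← map_mul, mul_inv_cancel, map_one, Matrix.det_one]
      exact IsUnit.of_mul_eq_one _ h2
    rw [map_mul, Matrix.det_mul, hc (a : X) a.2, Matrix.det_smul, Matrix.det_one, mul_one,
      Fintype.card_fin, pow_two] at h1
    exact hu.mul_eq_left.1 h1
  have hfib2 : ∀ g : X, Nat.card {a : A // IsConj (g * a) g} ≤ 2 := by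
    intro g
    refine (Nat.card_le_card_of_injective (fun a => (⟨ι a.1, ?_⟩ : rootsOfUnity 2 (ZMod p)))
      fun a b h => Subtype.ext (hι (congrArg Subtype.val h))).trans (card_rootsOfUnity _ 2)
    rw [mem_rootsOfUnity, pow_two]
    exact Units.ext (hsquare g a.1 a.2)
  have hfib1 : ∀ g : X, g * g ∉ A → Nat.card {a : A // IsConj (g * a) g} ≤ 1 := by
    intro g hg
    refine Finite.card_le_one_iff_subsingleton.2 ⟨fun a b => ?_⟩
    suffices key : ∀ a : A, IsConj (g * a) g → a = 1 from
      Subtype.ext ((key _ a.2).trans (key _ b.2).symm)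
    intro a ha
    rcases mul_self_eq_one_iff.1 (hsquare g a ha) with h1 | h1
    · exact hι₀ (h1.trans ι₀.map_one.symm)
    exfalso
    obtain ⟨x, hx⟩ := isConj_iff.1 ha
    have h2 := congrArg (fun z => Matrix.trace (R z)) hx
    simp only [map_mul] at h2
    rw [Matrix.trace_mul_comm, ← mul_assoc, ← map_mul, inv_mul_cancel, map_one, one_mul, hc (a : X) a.2,
      mul_smul_comm, mul_one, Matrix.trace_smul] at h2
    rw [show c (a : X) a.2 = -1 from h1, neg_smul, one_smul] at h2
    have htr : R g 0 0 + R g 1 1 = 0 := by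
      rw [Matrix.trace_fin_two] at h2
      have h3 : (2 : ZMod p) * (R g 0 0 + R g 1 1) = 0 := by linear_combination -h2
      refine (mul_eq_zero.1 h3).resolve_left fun h0 => ?_
      have h4 : ((2 : ℕ) : ZMod p) = 0 := by exact_mod_cast h0
      rw [ZMod.natCast_eq_zero_iff] at h4
      have := Nat.le_of_dvd (by norm_num) h4
      omega
    refine hg (hZA.le (hcen (g * g) ⟨-Matrix.det (R g), ?_⟩))
    rw [map_mul, Matrix.det_fin_two]
    ext i j
    fin_cases i <;> fin_cases j <;> simp [Matrix.mul_apply, Fin.sum_univ_two] <;>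
      first
        | linear_combination (R g 0 0) * htr
        | linear_combination (R g 0 1) * htr
        | linear_combination (R g 1 0) * htr
        | linear_combination (R g 1 1) * htr
  -- the layer
  haveI : Finite (MulAut L.U) := finite_mulAut L.U
  have hexp : ∀ u : L.U, u * u = 1 := by
    intro u
    by_contra hne
    have hd : orderOf u ∣ 4 := hU ▸ orderOf_dvd_natCard u
    have h4 : orderOf u = 4 := by
      have hle := Nat.le_of_dvd (by norm_num) hd
      have h0 := orderOf_pos u
      interval_cases h : orderOf u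
      · exact absurd (orderOf_eq_one_iff.1 h) (fun e => hne (by rw [e, one_mul]))
      · exact absurd (by rw [← pow_two, ← h, pow_orderOf_eq_one]) hne
      · norm_num at hd
      · rfl
    refine hne ?_
    rw [(L.isND_pair hι).nd u fun v => ?_, one_mul]
    have htop : Subgroup.zpowers u = ⊤ :=
      Subgroup.eq_top_of_card_eq _ (by rw [Nat.card_zpowers, h4, hU])
    obtain ⟨i, rfl⟩ := Subgroup.mem_zpowers_iff.1 (htop ▸ Subgroup.mem_top v)
    rw [map_zpow, (L.isND_pair hι).alt, one_zpow]
  have hmem : ∀ b : L.B, (QuotientGroup.mk b : L.U) = 1 ↔ (b : X) ∈ A := fun b => by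
    rw [QuotientGroup.eq_one_iff, L.center_eq, Subgroup.mem_subgroupOf]
  have hmove : ∀ u : L.U, u ≠ 1 → ∃ g, L.act g u ≠ u := by
    intro u hu
    by_contra! hh
    have h := L.aniso hA hι (Subgroup.zpowers u) (fun g v hv => by
      obtain ⟨i, rfl⟩ := Subgroup.mem_zpowers_iff.1 hv
      rw [map_zpow, hh g]
      exact zpow_mem (Subgroup.mem_zpowers u) i) (by
      rintro v hv w hw
      obtain ⟨i, rfl⟩ := Subgroup.mem_zpowers_iff.1 hv
      obtain ⟨j, rfl⟩ := Subgroup.mem_zpowers_iff.1 hw
      rw [map_zpow, map_zpow, MonoidHom.zpow_apply, (L.isND_pair hι).alt, one_zpow, one_zpow])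
    exact hu (Subgroup.mem_bot.1 (h ▸ Subgroup.mem_zpowers u))
  set Y := L.act.range with hY
  haveI : Finite Y := Subtype.finite
  have hker : L.act.ker = L.B := le_antisymm (fun g hg => L.mem_of_act_eq_one hι (hC g) hg)
    fun g hg => L.act_eq_one_of_mem hg
  have hcardX : Nat.card X = 4 * Nat.card A * Nat.card Y := by
    rw [← L.act.ker.card_mul_index, Subgroup.index_ker, hker, ← L.card_U_mul, hU, mul_comm (Nat.card A) 4]
  have hdvd6 : Nat.card Y ∣ 6 := by
    haveI := Fintype.ofFinite L.U
    let f : MulAut L.U →* Equiv.Perm {u : L.U // u ≠ 1} :=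
      MonoidHom.mk' (fun g => g.toEquiv.subtypeEquiv fun u => (MulEquiv.map_ne_one_iff g).symm)
        fun a b => Equiv.ext fun u => rfl
    have hf : Function.Injective f := fun g g' hgg => MulEquiv.ext fun u => by
      rcases eq_or_ne u 1 with rfl | hu
      · simp
      · exact congrArg (fun q : Equiv.Perm {u : L.U // u ≠ 1} => ((q ⟨u, hu⟩ : {u : L.U // u ≠ 1}) : L.U)) hgg
    refine (Subgroup.card_subgroup_dvd_card Y).trans ((Subgroup.card_dvd_of_injective f hf).trans ?_)
    rw [Nat.card_perm, Nat.card_eq_fintype_card, Fintype.card_subtype_compl, Fintype.card_subtype_eq,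
      ← Nat.card_eq_fintype_card, hU]
    decide
  obtain ⟨u₀, hu₀⟩ : ∃ u : L.U, u ≠ 1 := by
    haveI : Nontrivial L.U := Finite.one_lt_card_iff_nontrivial.1 (by omega)
    exact exists_ne 1
  have hinv : ∀ g : X, orderOf (L.act g) = 2 → ∀ v : L.U, L.act g (L.act g v) = v := by
    intro g hg v
    rw [← MulAut.mul_apply, ← pow_two, ← hg, pow_orderOf_eq_one, MulAut.one_apply]
  have hY36 : Nat.card Y = 3 ∨ Nat.card Y = 6 := by
    have hle := Nat.le_of_dvd (by norm_num) hdvd6
    have hpos := Nat.card_pos (α := Y)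
    obtain ⟨g, hg⟩ := hmove u₀ hu₀
    have hg1 : L.act g ≠ 1 := fun e => hg (by rw [e, MulAut.one_apply])
    rcases (by
      interval_cases hh : Nat.card Y <;> first | omega | (norm_num at hdvd6) :
        Nat.card Y = 1 ∨ Nat.card Y = 2 ∨ Nat.card Y = 3 ∨ Nat.card Y = 6) with h | h | h | h
    · exfalso
      haveI : Subsingleton Y := (Nat.card_eq_one_iff_unique.1 h).1
      exact hg1 (congrArg Subtype.val (Subsingleton.elim (⟨L.act g, g, rfl⟩ : Y) 1))
    · exfalso
      have hall : ∀ x, L.act x = 1 ∨ L.act x = L.act g := by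
        intro x
        by_contra! hh
        haveI := Fintype.ofFinite Y
        have h3 : ({1, (⟨L.act g, g, rfl⟩ : Y), ⟨L.act x, x, rfl⟩} : Finset Y).card = 3 := by
          rw [Finset.card_eq_three]
          exact ⟨_, _, _, fun e => hg1 (congrArg Subtype.val e).symm,
            fun e => hh.1 (congrArg Subtype.val e).symm, fun e => hh.2 (congrArg Subtype.val e).symm, rfl⟩
        have h4 := Finset.card_le_univ ({1, (⟨L.act g, g, rfl⟩ : Y), ⟨L.act x, x, rfl⟩} : Finset Y)
        rw [← Nat.card_eq_fintype_card, h] at h4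
        omega
      have ho : orderOf (L.act g) = 2 := by
        refine orderOf_eq_prime ?_ hg1
        rcases hall (g * g) with h2 | h2
        · rwa [map_mul, ← pow_two] at h2
        · rw [map_mul, mul_eq_left] at h2
          exact absurd h2 hg1
      have hw : u₀ * L.act g u₀ ≠ 1 := fun e => hg (by
        rw [← mul_eq_one_iff_inv_eq.1 e]
        exact inv_eq_of_mul_eq_one_left (hexp u₀))
      obtain ⟨x, hx⟩ := hmove _ hw
      rcases hall x with h2 | h2
      · exact hx (by rw [h2, MulAut.one_apply])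
      · exact hx (by rw [h2, map_mul, hinv g ho, mul_comm])
    · exact Or.inl h
    · exact Or.inr h
  -- representatives
  obtain ⟨b, hb⟩ : ∃ b : L.B, (b : X) ∉ A := by
    obtain ⟨b, rfl⟩ := QuotientGroup.mk_surjective u₀
    exact ⟨b, fun h => hu₀ ((hmem b).2 h)⟩
  haveI : Fact (Nat.Prime 3) := ⟨Nat.prime_three⟩
  obtain ⟨z, hz⟩ := exists_prime_orderOf_dvd_card' (G := Y) 3 (by rcases hY36 with h | h <;> omega)
  obtain ⟨gz, hgz⟩ := z.2
  have hz3 : orderOf (L.act gz) = 3 := by rw [hgz, Subgroup.orderOf_coe, hz]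
  have hsq_act : ∀ g : X, g * g ∈ A → L.act g * L.act g = 1 := fun g hg => by
    rw [← map_mul]; exact L.act_eq_one_of_mem (L.hAB hg)
  have hz1 : L.act gz ≠ 1 := fun e => by rw [e, orderOf_one] at hz3; omega
  have hzz : L.act gz * L.act gz ≠ 1 := fun e => by
    have := orderOf_dvd_of_pow_eq_one ((pow_two (L.act gz)).trans e)
    rw [hz3] at this
    norm_num at this
  have hgz2 : gz * gz ∉ A := fun h => hzz (hsq_act _ h)
  have hactb : L.act (b : X) = 1 := L.act_eq_one_of_mem b.2
  have hfib0 : Nat.card {a : A // IsConj ((1 : X) * a) 1} ≤ 1 := by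
    refine Finite.card_le_one_iff_subsingleton.2 ⟨fun a b => Subtype.ext (Subtype.ext ?_)⟩
    have h1 := isConj_one_left.1 a.2
    have h2 := isConj_one_left.1 b.2
    rw [one_mul] at h1 h2
    rw [h1, h2]
  have hactA : ∀ (g : X) (a : X), a ∈ A → L.act (g * a) = L.act g := fun g a ha => by
    rw [map_mul, L.act_eq_one_of_mem (L.hAB ha), mul_one]
  have hconjA : ∀ g x : X, IsConj g x → g ∈ A → x ∈ A := fun g x h hg => by
    obtain ⟨y, hy⟩ := isConj_iff.1 h
    rw [← hy]
    exact hA.1.conj_mem _ hg y
  have hconjAct : ∀ g x : X, ∀ a ∈ A, ∀ a' ∈ A, IsConj (g * a) (x * a') → IsConj (L.act g) (L.act x) :=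
    fun g x a ha a' ha' h => by
      have h1 := L.act.map_isConj h
      rwa [hactA g a ha, hactA x a' ha'] at h1
  have hne1b : ∀ a ∈ A, ∀ a' ∈ A, ¬ IsConj (1 * a) ((b : X) * a') := fun a ha a' ha' h => hb (by
    have h1 := hconjA _ _ h (by rwa [one_mul])
    have h2 := mul_mem h1 (inv_mem ha')
    rwa [mul_inv_cancel_right] at h2)
  have hord : ∀ g x : X, IsConj (L.act g) (L.act x) → orderOf (L.act g) = orderOf (L.act x) := fun g x h => by
    obtain ⟨w, hw⟩ := isConj_iff.1 h
    rw [← hw]
    exact (orderOf_injective (MulAut.conj w).toMonoidHom (MulEquiv.injective _) _).symm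
  have hbact1 : orderOf (L.act (b : X)) = 1 := by rw [hactb, orderOf_one]
  have h1act : orderOf (L.act (1 : X)) = 1 := by rw [map_one, orderOf_one]
  have hsep_of : ∀ g x : X, orderOf (L.act g) ≠ orderOf (L.act x) →
      ∀ a ∈ A, ∀ a' ∈ A, ¬ IsConj (g * a) (x * a') :=
    fun g x hne a ha a' ha' h => hne (hord _ _ (hconjAct g x a ha a' ha' h))
  rcases hY36 with h3 | h6
  · left
    have hz2 : orderOf (L.act (gz * gz)) = 3 := by
      rw [map_mul]
      refine orderOf_eq_prime ?_ hzz
      rw [← pow_two, ← pow_mul, mul_comm, pow_mul, ← hz3, pow_orderOf_eq_one, one_pow]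
    have hz4 : gz * gz * (gz * gz) ∉ A := fun h => by
      have h1 := hsq_act _ h
      rw [← pow_two] at h1
      have := orderOf_dvd_of_pow_eq_one h1
      rw [hz2] at this
      norm_num at this
    have hzne : ∀ a ∈ A, ∀ a' ∈ A, ¬ IsConj (gz * a) (gz * gz * a') := by
      intro a ha a' ha' h
      haveI : IsCyclic Y := isCyclic_of_prime_card h3
      letI := IsCyclic.commGroup (α := Y)
      have h1 := L.act.rangeRestrict.map_isConj h
      have h2 : L.act (gz * a) = L.act (gz * gz * a') := congrArg Subtype.val (isConj_iff_eq.1 h1)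
      rw [hactA gz a ha, hactA (gz * gz) a' ha', map_mul] at h2
      exact hz1 (mul_eq_left.1 h2.symm)
    let g : Fin 4 → X := ![1, (b : X), gz, gz * gz]
    have ho : ∀ i, orderOf (L.act (g i)) = (![1, 1, 3, 3] : Fin 4 → ℕ) i := by
      intro i
      fin_cases i
      · exact h1act
      · exact hbact1
      · exact hz3
      · exact hz2
    have h := sum_le_card_classes hAc g ![1, 2, 1, 1] ![2, 1, 2, 2] 2 ?_ ?_ (by decide)
    · unfold Com
      rw [hcardX, h3]
      simp only [Fin.sum_univ_four, Matrix.cons_val_zero, Matrix.cons_val_one, Matrix.cons_val] at h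
      omega
    · intro i j a ha a' ha' hij
      fin_cases i <;> fin_cases j <;>
        first
          | rfl
          | exact absurd hij (hne1b a ha a' ha')
          | exact absurd hij.symm (hne1b a' ha' a ha)
          | exact absurd hij (hzne a ha a' ha')
          | exact absurd hij.symm (hzne a' ha' a ha)
          | exact absurd hij (hsep_of _ _ (by rw [ho, ho]; decide) a ha a' ha')
    · intro i
      fin_cases i
      · exact hfib0
      · exact hfib2 _
      · exact hfib1 _ hgz2
      · exact hfib1 _ hz4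
  · right
    obtain ⟨y, hy⟩ := exists_prime_orderOf_dvd_card' (G := Y) 2 (by omega)
    obtain ⟨g, hg⟩ := y.2
    have hg2 : orderOf (L.act g) = 2 := by rw [hg, Subgroup.orderOf_coe, hy]
    have hgg : g * g ∈ L.B := hker.le (MonoidHom.mem_ker.2 (by
      rw [map_mul, ← pow_two, ← hg2, pow_orderOf_eq_one]))
    have hy1 : L.act g ≠ 1 := fun e => by rw [e, orderOf_one] at hg2; omega
    set s : L.U := QuotientGroup.mk ⟨g * g, hgg⟩ with hs_def
    have hsfix : L.act g s = s := by
      rw [hs_def, L.act_mk]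
      congr 1
      exact Subtype.ext (by simp [mul_assoc])
    have hginv : L.act g⁻¹ = L.act g := by
      rw [map_inv]
      exact inv_eq_of_mul_eq_one_left (by rw [← pow_two, ← hg2, pow_orderOf_eq_one])
    have hprod : ∀ b' : L.B, g * (b' : X) * (g * b') ∈ A ↔
        s * L.act g (QuotientGroup.mk b') * QuotientGroup.mk b' = 1 := by
      intro b'
      have hmm : g * (b' : X) * (g * b') =
          ((⟨g * g, hgg⟩ * MulAut.conjNormal g⁻¹ b' * b' : L.B) : X) := by simp [mul_assoc]
      rw [hmm, ← hmem, QuotientGroup.mk_mul, QuotientGroup.mk_mul, ← L.act_mk, hginv]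
    obtain ⟨v, hv⟩ : ∃ v : L.U, L.act g v ≠ v := by
      by_contra! hh
      exact hy1 (MulEquiv.ext hh)
    have hw1 : L.act g v * v ≠ 1 := fun e => hv (by
      rw [mul_eq_one_iff_eq_inv.1 e]
      exact inv_eq_of_mul_eq_one_left (hexp v))
    have hwfix : L.act g (L.act g v * v) = L.act g v * v := by
      rw [map_mul, hinv g hg2, mul_comm]
    have hs_cases : s = 1 ∨ s = L.act g v * v := by
      by_contra! hh
      let F : Subgroup L.U := (L.act g).toMonoidHom.eqLocus (MonoidHom.id _)
      haveI := Fintype.ofFinite F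
      have h3 : ({1, (⟨s, hsfix⟩ : F), ⟨L.act g v * v, hwfix⟩} : Finset F).card = 3 := by
        rw [Finset.card_eq_three]
        exact ⟨_, _, _, fun e => hh.1 (congrArg Subtype.val e).symm,
          fun e => hw1 (congrArg Subtype.val e).symm, fun e => hh.2 (congrArg Subtype.val e), rfl⟩
      have h4 := Finset.card_le_univ ({1, (⟨s, hsfix⟩ : F), ⟨L.act g v * v, hwfix⟩} : Finset F)
      rw [← Nat.card_eq_fintype_card, h3] at h4
      have h5 := F.card_mul_index
      rw [hU] at h5
      have htop : F = ⊤ := by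
        refine Subgroup.index_eq_one.1 ?_
        by_contra hi
        have := (Subgroup.index_ne_zero_of_finite (H := F))
        have h6 : Nat.card F * 2 ≤ Nat.card F * F.index := Nat.mul_le_mul_left _ (by omega)
        omega
      exact hv ((htop ▸ Subgroup.mem_top v : v ∈ F))
    obtain ⟨b', hb'⟩ := QuotientGroup.mk_surjective v
    obtain ⟨g0, g1, h0, h1, ha0, ha1⟩ : ∃ g0 g1 : X, g0 * g0 ∈ A ∧ g1 * g1 ∉ A ∧
        orderOf (L.act g0) = 2 ∧ orderOf (L.act g1) = 2 := by
      have hgb : orderOf (L.act (g * b')) = 2 := by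
        rw [map_mul, L.act_eq_one_of_mem b'.2, mul_one, hg2]
      have hgs : g * g ∈ A ↔ s = 1 := (hmem ⟨g * g, hgg⟩).symm
      rcases hs_cases with h | h
      · refine ⟨g, g * b', hgs.2 h, fun hh => hw1 ?_, hg2, hgb⟩
        have h2 := (hprod b').1 hh
        rwa [h, hb', one_mul] at h2
      · refine ⟨g * b', g, (hprod b').2 ?_, fun hh => hw1 ?_, hgb, hg2⟩
        · rw [hb', mul_assoc, h, hexp]
        · rw [← h]; exact hgs.1 hh
    have h01 : ∀ a ∈ A, ∀ a' ∈ A, ¬ IsConj (g0 * a) (g1 * a') := by
      intro a ha a' ha' hcj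
      refine h1 ?_
      obtain ⟨x, hx⟩ := isConj_iff.1 hcj
      have hsqm : ∀ u t : X, t ∈ A → u * t * (u * t) = u * u * (t * t) := fun u t ht => by
        have h := Subgroup.mem_center_iff.1 (hAc ht) u
        calc u * t * (u * t) = u * (t * u) * t := by group
          _ = u * (u * t) * t := by rw [h]
          _ = _ := by group
      have h2 : g1 * g1 * (a' * a') ∈ A := by
        rw [← hsqm g1 a' ha', ← hx]
        have e : x * (g0 * a) * x⁻¹ * (x * (g0 * a) * x⁻¹) = x * (g0 * a * (g0 * a)) * x⁻¹ := by group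
        rw [e, hsqm g0 a ha]
        exact hA.1.conj_mem _ (mul_mem h0 (mul_mem ha ha)) x
      have h3 := mul_mem h2 (inv_mem (mul_mem ha' ha'))
      rwa [mul_inv_cancel_right] at h3
    refine ⟨?_, by rw [hcardX, h6]; omega⟩
    let gs : Fin 5 → X := ![1, (b : X), gz, g0, g1]
    have ho : ∀ i, orderOf (L.act (gs i)) = (![1, 1, 3, 2, 2] : Fin 5 → ℕ) i := by
      intro i
      fin_cases i
      · exact h1act
      · exact hbact1
      · exact hz3
      · exact ha0
      · exact ha1
    have h := sum_le_card_classes hAc gs ![1, 2, 1, 2, 1] ![2, 1, 2, 1, 2] 2 ?_ ?_ (by decide)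
    · simp only [Fin.sum_univ_five, Matrix.cons_val_zero, Matrix.cons_val_one, Matrix.cons_val] at h
      omega
    · intro i j a ha a' ha' hij
      fin_cases i <;> fin_cases j <;>
        first
          | rfl
          | exact absurd hij (hne1b a ha a' ha')
          | exact absurd hij.symm (hne1b a' ha' a ha)
          | exact absurd hij (h01 a ha a' ha')
          | exact absurd hij.symm (h01 a' ha' a ha)
          | exact absurd hij (hsep_of _ _ (by rw [ho, ho]; decide) a ha a' ha')
    · intro i
      fin_cases i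
      · exact hfib0
      · exact hfib2 _
      · exact hfib1 _ hgz2
      · exact hfib2 _
      · exact hfib1 _ h1

end CfsgLib.LinClasses
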