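import Cfsg.Agent.LinClasses.KB
import Cfsg.Agent.S4118

/-!
# The two small special linear groups
-/

set_option autoImplicit false

namespace CfsgLib.LinClasses

open Matrix MatrixGroups

variable (p : ℕ)

/-- Entry tuples of determinant one. -/
abbrev Tup : Type := {t : (ZMod p × ZMod p) × ZMod p × ZMod p // t.1.1 * t.2.2 - t.1.2 * t.2.1 = 1}

/-- The matrix of a tuple. -/
def tupEquiv : Tup p ≃ SL(2, ZMod p) where
  toFun t := ⟨!![t.1.1.1, t.1.1.2; t.1.2.1, t.1.2.2], by rw [det_fin_two_of]; exact t.2⟩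
  invFun M := ⟨((M.1 0 0, M.1 0 1), M.1 1 0, M.1 1 1), (det_fin_two M.1).symm.trans M.2⟩
  left_inv t := Subtype.ext rfl
  right_inv M := Subtype.ext (by ext i j; fin_cases i <;> fin_cases j <;> rfl)

/-- Product of tuples. -/
def tupMul (s t : (ZMod p × ZMod p) × ZMod p × ZMod p) : (ZMod p × ZMod p) × ZMod p × ZMod p :=
  ((s.1.1 * t.1.1 + s.1.2 * t.2.1, s.1.1 * t.1.2 + s.1.2 * t.2.2),
    s.2.1 * t.1.1 + s.2.2 * t.2.1, s.2.1 * t.1.2 + s.2.2 * t.2.2)

variable {p}

theorem tupEquiv_symm_mul (M N : SL(2, ZMod p)) :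
    ((tupEquiv p).symm (M * N)).1 = tupMul p ((tupEquiv p).symm M).1 ((tupEquiv p).symm N).1 := by
  have h : ∀ i j, ((M * N : SL(2, ZMod p)) : Matrix (Fin 2) (Fin 2) (ZMod p)) i j =
      (M : Matrix (Fin 2) (Fin 2) (ZMod p)) i 0 * (N : Matrix (Fin 2) (Fin 2) (ZMod p)) 0 j +
      (M : Matrix (Fin 2) (Fin 2) (ZMod p)) i 1 * (N : Matrix (Fin 2) (Fin 2) (ZMod p)) 1 j := fun i j => by
    exact (mul_apply (M := (M : Matrix (Fin 2) (Fin 2) (ZMod p)))).trans (Fin.sum_univ_two _)
  exact Prod.ext (Prod.ext (h 0 0) (h 0 1)) (Prod.ext (h 1 0) (h 1 1))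

theorem card_sl_three : Nat.card SL(2, ZMod 3) = 24 := by
  rw [← Nat.card_congr (tupEquiv 3), Nat.card_eq_fintype_card]
  decide +kernel

theorem card_sl_five : Nat.card SL(2, ZMod 5) = 120 := by
  rw [← Nat.card_congr (tupEquiv 5), Nat.card_eq_fintype_card]
  decide +kernel

theorem card_commute_sl_three :
    Nat.card {q : SL(2, ZMod 3) × SL(2, ZMod 3) // Commute q.1 q.2} = 168 := by
  have e : {q : SL(2, ZMod 3) × SL(2, ZMod 3) // Commute q.1 q.2} ≃
      {q : Tup 3 × Tup 3 // tupMul 3 q.1.1 q.2.1 = tupMul 3 q.2.1 q.1.1} := by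
    refine ((tupEquiv 3).symm.prodCongr (tupEquiv 3).symm).subtypeEquiv fun q => ?_
    simp only [Equiv.prodCongr_apply, Prod.map_fst, Prod.map_snd, ← tupEquiv_symm_mul]
    rw [Subtype.coe_inj, (tupEquiv 3).symm.injective.eq_iff]
    rfl
  rw [Nat.card_congr e, Nat.card_eq_fintype_card]
  decide +kernel

theorem tup_eq_sq_mul_sq : ∀ t : Tup 3, ∃ a b : Tup 3,
    t.1 = tupMul 3 (tupMul 3 a.1 a.1) (tupMul 3 b.1 b.1) := by
  decide +kernel

theorem KB.sl_three : KB SL(2, ZMod 3) 9 := fun K => by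
  by_cases h9 : Nat.card K ≤ 9
  · exact card_classes_le_card.trans h9
  have h1 := K.card_mul_index
  rw [card_sl_three] at h1
  have hidx : K.index ≤ 2 := by
    by_contra hh
    have h4 : Nat.card K * 3 ≤ Nat.card K * K.index := Nat.mul_le_mul_left _ (by omega)
    omega
  have htop : K = ⊤ := by
    rw [eq_top_iff]
    intro M _
    have h2 : K.index = 1 ∨ K.index = 2 := by
      have := (Subgroup.index_ne_zero_of_finite (H := K))
      omega
    rcases h2 with h2 | h2
    · rw [Subgroup.index_eq_one.1 h2]; trivial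
    obtain ⟨a, b, hab⟩ := tup_eq_sq_mul_sq ((tupEquiv 3).symm M)
    have e : M = tupEquiv 3 a * tupEquiv 3 a * (tupEquiv 3 b * tupEquiv 3 b) :=
      (tupEquiv 3).symm.injective (Subtype.ext (by
        simp only [tupEquiv_symm_mul, Equiv.symm_apply_apply]; exact hab))
    rw [e]
    exact mul_mem (Subgroup.mul_self_mem_of_index_two h2 _) (Subgroup.mul_self_mem_of_index_two h2 _)
  subst htop
  rw [card_classes_congr Subgroup.topEquiv]
  have h := card_comm_eq_card_conjClasses_mul_card SL(2, ZMod 3)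
  rw [card_commute_sl_three, card_sl_three] at h
  omega

theorem card_le_of_isSolvable_sl_five (K : Subgroup SL(2, ZMod 5)) (hK : Group.IsSolvable K) :
    Nat.card K ≤ 60 := by
  have hne : K ≠ ⊤ := fun h => by
    subst h
    haveI := hK
    exact Cfsg.Agent.S4118.not_isSolvable_sl25
      (Group.isSolvable_of_surjective (f := (Subgroup.topEquiv : _ ≃* SL(2, ZMod 5)).toMonoidHom)
        (MulEquiv.surjective _))
  have h1 := K.card_mul_index
  rw [card_sl_five] at h1
  have h2 : 2 ≤ K.index := by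
    have := (Subgroup.index_ne_zero_of_finite (H := K))
    have : K.index ≠ 1 := fun h => hne (Subgroup.index_eq_one.1 h)
    omega
  have h4 : Nat.card K * 2 ≤ Nat.card K * K.index := Nat.mul_le_mul_left _ h2
  omega

end CfsgLib.LinClasses
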