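import Cfsg.Agent.LinClasses.FiniteBound

/-!
# The needed instances of the order bound
-/

set_option autoImplicit false

namespace CfsgLib.LinClasses

theorem bnd_two_one : Bnd 2 1 1 := by
  have h := bnd_gl (p := 2) 1
  simpa using h

theorem bnd_two_two : Bnd 2 2 6 := by
  have h := bnd_gl (p := 2) 2
  simpa [Fin.prod_univ_succ] using h

theorem bnd_two_five : Bnd 2 5 9999360 := by
  have h := bnd_gl (p := 2) 5
  simpa [Fin.prod_univ_succ] using h

theorem bnd_three_one : Bnd 3 1 2 := by
  haveI : Fact (Nat.Prime 3) := ⟨Nat.prime_three⟩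
  have h := bnd_gl (p := 3) 1
  simpa using h

theorem bnd_three_two [Fact (Nat.Prime 3)] : Bnd 3 2 48 := by
  have h := bnd_gl (p := 3) 2
  simpa [Fin.prod_univ_succ] using h

theorem le_of_field {X k a u J K A U W : ℕ} (h : X ≤ k * (a * (u * u) * J)) (hk : k ≤ K) (ha : a ≤ A)
    (hu : u ≤ U) (hJ : J ≤ W) : X ≤ K * (A * (U * U) * W) :=
  h.trans (Nat.mul_le_mul hk (Nat.mul_le_mul (Nat.mul_le_mul ha (Nat.mul_le_mul hu hu)) hJ))

theorem bnd_two_three : Bnd 2 3 21 := by
  intro V _ _ _ X _ _ ρ hρ hirr hs hn
  rcases irr_cases hρ hirr hs with h | ⟨d, m, hm, hdm, hb⟩ | ⟨a, k, d, u, J, hk, hkd, hu, hud, hpu, ha, had, hX, hJ, hJp, -⟩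
  · omega
  · rw [hn] at hdm
    have hd : d ≤ 3 := Nat.le_of_dvd (by omega) ⟨m, hdm.symm⟩
    interval_cases d
    · omega
    · obtain rfl : m = 3 := by omega
      exact (hb 1 bnd_two_one).trans (by decide)
    · omega
    · omega
  · rw [hn] at hkd
    have hk3 : k ≤ 3 := Nat.le_of_dvd (by omega) ⟨d, hkd.symm⟩
    interval_cases k
    · have := Nat.le_of_dvd (by norm_num) had
      omega
    · omega
    · obtain rfl : d = 1 := by omega
      obtain rfl : u = 1 := by omega
      exact (le_of_field hX le_rfl (Nat.le_of_dvd (by norm_num) had) le_rfl hJ).trans (by decide)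

theorem bnd_two_four : Bnd 2 4 72 := by
  intro V _ _ _ X _ _ ρ hρ hirr hs hn
  rcases irr_cases hρ hirr hs with h | ⟨d, m, hm, hdm, hb⟩ | ⟨a, k, d, u, J, hk, hkd, hu, hud, hpu, ha, had, hX, hJ, hJp, -⟩
  · omega
  · rw [hn] at hdm
    have hd : d ≤ 4 := Nat.le_of_dvd (by omega) ⟨m, hdm.symm⟩
    interval_cases d
    · omega
    · obtain rfl : m = 4 := by omega
      exact (hb 1 bnd_two_one).trans (by decide)
    · obtain rfl : m = 2 := by omega
      exact (hb 6 bnd_two_two).trans (by decide)
    · omega
    · omega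
  · rw [hn] at hkd
    have hk4 : k ≤ 4 := Nat.le_of_dvd (by omega) ⟨d, hkd.symm⟩
    interval_cases k
    · have := Nat.le_of_dvd (by norm_num) had
      omega
    · obtain rfl : u = 1 := by omega
      exact (le_of_field hX le_rfl (Nat.le_of_dvd (by norm_num) had) le_rfl hJ).trans (by decide)
    · omega
    · obtain rfl : u = 1 := by omega
      exact (le_of_field hX le_rfl (Nat.le_of_dvd (by norm_num) had) le_rfl hJ).trans (by decide)

theorem bnd_two_six : Bnd 2 6 2187 := by
  intro V _ _ _ X _ _ ρ hρ hirr hs hn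
  rcases irr_cases hρ hirr hs with h | ⟨d, m, hm, hdm, hb⟩ | ⟨a, k, d, u, J, hk, hkd, hu, hud, hpu, ha, had, hX, hJ, hJp, -⟩
  · omega
  · rw [hn] at hdm
    have hd : d ≤ 6 := Nat.le_of_dvd (by omega) ⟨m, hdm.symm⟩
    interval_cases d
    · omega
    · obtain rfl : m = 6 := by omega
      exact (hb 1 bnd_two_one).trans (by decide)
    · obtain rfl : m = 3 := by omega
      exact (hb 6 bnd_two_two).trans (by decide)
    · obtain rfl : m = 2 := by omega
      exact (hb 21 bnd_two_three).trans (by decide)
    · omega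
    · omega
    · omega
  · rw [hn] at hkd
    have hk6 : k ≤ 6 := Nat.le_of_dvd (by omega) ⟨d, hkd.symm⟩
    interval_cases k
    · have := Nat.le_of_dvd (by norm_num) had
      omega
    · have hu3 : u = 1 ∨ u = 3 := by omega
      rcases hu3 with rfl | rfl
      · exact (le_of_field hX le_rfl (Nat.le_of_dvd (by norm_num) had) le_rfl hJ).trans (by decide)
      · exact (le_of_field hX le_rfl (Nat.le_of_dvd (by norm_num) had) le_rfl (hJp (by norm_num))).trans (by decide)
    · obtain rfl : u = 1 := by omega
      exact (le_of_field hX le_rfl (Nat.le_of_dvd (by norm_num) had) le_rfl hJ).trans (by decide)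
    · omega
    · omega
    · obtain rfl : u = 1 := by omega
      exact (le_of_field hX le_rfl (Nat.le_of_dvd (by norm_num) had) le_rfl hJ).trans (by decide)

theorem bnd_two_eight : Bnd 2 8 14348907 := by
  intro V _ _ _ X _ _ ρ hρ hirr hs hn
  rcases irr_cases hρ hirr hs with h | ⟨d, m, hm, hdm, hb⟩ | ⟨a, k, d, u, J, hk, hkd, hu, hud, hpu, ha, had, hX, hJ, hJp, -⟩
  · omega
  · rw [hn] at hdm
    have hd : d ≤ 8 := Nat.le_of_dvd (by omega) ⟨m, hdm.symm⟩
    interval_cases d
    · omega
    · obtain rfl : m = 8 := by omega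
      exact (hb 1 bnd_two_one).trans (by decide)
    · obtain rfl : m = 4 := by omega
      exact (hb 6 bnd_two_two).trans (by decide)
    · omega
    · obtain rfl : m = 2 := by omega
      exact (hb 72 bnd_two_four).trans (by decide)
    all_goals omega
  · rw [hn] at hkd
    have hk8 : k ≤ 8 := Nat.le_of_dvd (by omega) ⟨d, hkd.symm⟩
    interval_cases k
    · have := Nat.le_of_dvd (by norm_num) had
      omega
    · have hu3 : u = 1 ∨ u = 3 := by omega
      rcases hu3 with rfl | rfl
      · exact (le_of_field hX le_rfl (Nat.le_of_dvd (by norm_num) had) le_rfl hJ).trans (by decide)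
      · exact (le_of_field hX le_rfl (Nat.le_of_dvd (by norm_num) had) le_rfl (hJp (by norm_num))).trans (by decide)
    · omega
    · obtain rfl : u = 1 := by omega
      exact (le_of_field hX le_rfl (Nat.le_of_dvd (by norm_num) had) le_rfl hJ).trans (by decide)
    · omega
    · omega
    · omega
    · obtain rfl : u = 1 := by omega
      exact (le_of_field hX le_rfl (Nat.le_of_dvd (by norm_num) had) le_rfl hJ).trans (by decide)

theorem bnd_two_ten : Bnd 2 10 (3 ^ 31) := by
  intro V _ _ _ X _ _ ρ hρ hirr hs hn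
  rcases irr_cases hρ hirr hs with h | ⟨d, m, hm, hdm, hb⟩ | ⟨a, k, d, u, J, hk, hkd, hu, hud, hpu, ha, had, hX, hJ, hJp, -⟩
  · exact h.trans (Nat.one_le_pow _ _ (by norm_num))
  · rw [hn] at hdm
    have hd : d ≤ 10 := Nat.le_of_dvd (by omega) ⟨m, hdm.symm⟩
    interval_cases d
    · omega
    · obtain rfl : m = 10 := by omega
      exact (hb 1 bnd_two_one).trans (by decide)
    · obtain rfl : m = 5 := by omega
      exact (hb 6 bnd_two_two).trans (by decide)
    · omega
    · omega
    · obtain rfl : m = 2 := by omega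
      exact (hb 9999360 bnd_two_five).trans (by decide)
    all_goals omega
  · rw [hn] at hkd
    have hk10 : k ≤ 10 := Nat.le_of_dvd (by omega) ⟨d, hkd.symm⟩
    interval_cases k
    · have := Nat.le_of_dvd (by norm_num) had
      omega
    · have hu3 : u = 1 ∨ u = 3 ∨ u = 5 := by omega
      rcases hu3 with rfl | rfl | rfl
      · exact (le_of_field hX le_rfl (Nat.le_of_dvd (by norm_num) had) le_rfl hJ).trans (by decide)
      · exact (le_of_field hX le_rfl (Nat.le_of_dvd (by norm_num) had) le_rfl (hJp (by norm_num))).trans (by decide)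
      · exact (le_of_field hX le_rfl (Nat.le_of_dvd (by norm_num) had) le_rfl (hJp (by norm_num))).trans (by decide)
    · omega
    · omega
    · obtain rfl : u = 1 := by omega
      exact (le_of_field hX le_rfl (Nat.le_of_dvd (by norm_num) had) le_rfl hJ).trans (by decide)
    · omega
    · omega
    · omega
    · omega
    · obtain rfl : u = 1 := by omega
      exact (le_of_field hX le_rfl (Nat.le_of_dvd (by norm_num) had) le_rfl hJ).trans (by decide)

theorem bnd_three_four [Fact (Nat.Prime 3)] (hFB : FourBound) : Bnd 3 4 6561 := by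
  intro V _ _ _ X _ _ ρ hρ hirr hs hn
  rcases irr_cases hρ hirr hs with h | ⟨d, m, hm, hdm, hb⟩ | ⟨a, k, d, u, J, hk, hkd, hu, hud, hpu, ha, had, hX, hJ, hJp, hJ4⟩
  · omega
  · rw [hn] at hdm
    have hd : d ≤ 4 := Nat.le_of_dvd (by omega) ⟨m, hdm.symm⟩
    interval_cases d
    · omega
    · obtain rfl : m = 4 := by omega
      exact (hb 2 bnd_three_one).trans (by decide)
    · obtain rfl : m = 2 := by omega
      exact (hb 48 bnd_three_two).trans (by decide)
    all_goals omega
  · rw [hn] at hkd
    have hk4 : k ≤ 4 := Nat.le_of_dvd (by omega) ⟨d, hkd.symm⟩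
    interval_cases k
    · obtain rfl : d = 4 := by omega
      interval_cases u
      · exact (le_of_field hX le_rfl (Nat.le_of_dvd (by norm_num) had) le_rfl hJ).trans (by decide)
      · exact (le_of_field hX le_rfl (Nat.le_of_dvd (by norm_num) had) le_rfl hJ).trans (by decide)
      · omega
      · exact (le_of_field hX le_rfl (Nat.le_of_dvd (by norm_num) had) le_rfl (hJ4 rfl rfl hFB)).trans (by decide)
    · obtain rfl : d = 2 := by omega
      interval_cases u
      · exact (le_of_field hX le_rfl (Nat.le_of_dvd (by norm_num) had) le_rfl hJ).trans (by decide)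
      · exact (le_of_field hX le_rfl (Nat.le_of_dvd (by norm_num) had) le_rfl hJ).trans (by decide)
    · omega
    · obtain rfl : u = 1 := by omega
      exact (le_of_field hX le_rfl (Nat.le_of_dvd (by norm_num) had) le_rfl hJ).trans (by decide)

end CfsgLib.LinClasses
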