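import Cfsg.Agent.LinClasses.Small

/-!
# Alternating pairings of finite abelian groups into the units of a field
-/

set_option autoImplicit false

namespace CfsgLib.LinClasses

open Matrix MatrixGroups

/-- An alternating nondegenerate pairing. -/
structure IsND {U : Type*} [CommGroup U] {K : Type*} [Field K] (β : U →* U →* Kˣ) : Prop where
  alt : ∀ u, β u u = 1
  nd : ∀ u, (∀ v, β u v = 1) → u = 1

variable {U : Type*} [CommGroup U] {K : Type*} [Field K] {β : U →* U →* Kˣ}

theorem IsND.skew (h : IsND β) (u v : U) : β v u = (β u v)⁻¹ := by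
  have h1 := h.alt (u * v)
  simp only [map_mul, MonoidHom.mul_apply, h.alt, one_mul, mul_one] at h1
  rw [eq_inv_iff_mul_eq_one, mul_comm]
  exact (mul_comm _ _).trans h1

theorem IsND.comm_one (h : IsND β) {u v : U} (e : β u v = 1) : β v u = 1 := by
  rw [h.skew, e, inv_one]

theorem finite_hom_units (E : Type*) [Group E] [Finite E] : Finite (E →* Kˣ) := by
  haveI : Fintype E := Fintype.ofFinite E
  haveI : Finite (E →* K) := (linearIndependent_monoidHom E K).finite
  exact Finite.of_injective (fun f : E →* Kˣ => (Units.coeHom K).comp f) fun f g h =>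
    MonoidHom.ext fun x => Units.ext (DFunLike.congr_fun h x)

theorem card_hom_units_le (E : Type*) [Group E] [Finite E] :
    Nat.card (E →* Kˣ) ≤ Nat.card E := by
  haveI := Fintype.ofFinite E
  haveI : Finite (E →* K) := (linearIndependent_monoidHom E K).finite
  haveI := Fintype.ofFinite (E →* K)
  refine (Nat.card_le_card_of_injective (fun f : E →* Kˣ => (Units.coeHom K).comp f) fun f g h =>
    MonoidHom.ext fun x => Units.ext (DFunLike.congr_fun h x)).trans ?_
  have h := (linearIndependent_monoidHom E K).fintype_card_le_finrank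
  rw [Module.finrank_pi] at h
  simpa [Nat.card_eq_fintype_card] using h

theorem IsND.injective (h : IsND β) : Function.Injective β :=
  (injective_iff_map_eq_one β).2 fun u hu => h.nd u fun v => by rw [hu]; rfl

theorem IsND.exists_eq [Finite U] (h : IsND β) (χ : U →* Kˣ) : ∃ u, β u = χ := by
  haveI := finite_hom_units (K := K) U
  exact (Nat.bijective_iff_injective_and_card β).2 ⟨h.injective, le_antisymm
    (Nat.card_le_card_of_injective β h.injective) (card_hom_units_le U)⟩ |>.2 χ

/-- The elements orthogonal to `W`. -/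
def orth (β : U →* U →* Kˣ) (W : Subgroup U) : Subgroup U where
  carrier := {u | ∀ w ∈ W, β u w = 1}
  one_mem' w _ := by simp
  mul_mem' {a b} ha hb w hw := by rw [map_mul, MonoidHom.mul_apply, ha w hw, hb w hw, one_mul]
  inv_mem' {a} ha w hw := by rw [map_inv, MonoidHom.inv_apply, ha w hw, inv_one]

theorem mem_orth {W : Subgroup U} {u : U} : u ∈ orth β W ↔ ∀ w ∈ W, β u w = 1 := Iff.rfl

theorem card_le_orth_mul [Finite U] (W : Subgroup U) :
    Nat.card U ≤ Nat.card (orth β W) * Nat.card W := by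
  let g : U →* (W →* Kˣ) :=
    { toFun := fun u => (β u).comp W.subtype
      map_one' := by ext; simp
      map_mul' := fun a b => by ext; simp }
  haveI := finite_hom_units (K := K) W
  have hk : g.ker = orth β W := by
    ext u
    rw [MonoidHom.mem_ker, mem_orth]
    exact ⟨fun h w hw => DFunLike.congr_fun h ⟨w, hw⟩, fun h => MonoidHom.ext fun w => h w w.2⟩
  rw [← g.ker.card_mul_index, hk]
  refine Nat.mul_le_mul_left _ ?_
  rw [← hk, Subgroup.index_ker]
  exact ((g.range).card_le_card_group).trans (card_hom_units_le W)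

/-- The group of isometries. -/
def isomGroup (β : U →* U →* Kˣ) : Subgroup (MulAut U) where
  carrier := {g | ∀ u v, β (g u) (g v) = β u v}
  one_mem' _ _ := rfl
  mul_mem' {a b} ha hb u v := by rw [MulAut.mul_apply, MulAut.mul_apply, ha, hb]
  inv_mem' {a} ha u v := by
    conv_rhs => rw [← MulAut.apply_inv_self _ a u, ← MulAut.apply_inv_self _ a v, ha]

theorem mem_isomGroup {g : MulAut U} : g ∈ isomGroup β ↔ ∀ u v, β (g u) (g v) = β u v := Iff.rfl

/-- The restriction of a pairing to a subgroup. -/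
def resPair (β : U →* U →* Kˣ) (W : Subgroup U) : W →* W →* Kˣ :=
  MonoidHom.mk' (fun u => (β u).comp W.subtype) fun a b => by ext; simp

theorem resPair_apply (W : Subgroup U) (u v : W) : resPair β W u v = β u v := rfl

theorem isND_resPair (h : IsND β) (W : Subgroup U) (hW : W ⊓ orth β W = ⊥) :
    IsND (resPair β W) where
  alt u := h.alt u
  nd u hu := Subtype.ext (Subgroup.mem_bot.1 (hW.le ⟨u.2, fun w hw => hu ⟨w, hw⟩⟩))

section Prime

variable {p : ℕ} [hp : Fact p.Prime]

theorem apply_pow_p (hexp : ∀ u : U, u ^ p = 1) (u v : U) : β u v ^ p = 1 := by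
  rw [← map_pow, hexp, map_one]

theorem card_range_eq [Finite U] (hexp : ∀ u : U, u ^ p = 1) {χ : U →* Kˣ} (hχ : χ ≠ 1) :
    Nat.card χ.range = p := by
  have hle : χ.range ≤ rootsOfUnity p K := by
    rintro _ ⟨u, rfl⟩
    rw [mem_rootsOfUnity, ← map_pow, hexp, map_one]
  haveI : NeZero p := ⟨hp.out.ne_zero⟩
  refine le_antisymm ((Nat.card_le_card_of_injective _ (Subgroup.inclusion_injective hle)).trans
    (card_rootsOfUnity K p)) ?_
  obtain ⟨u, hu⟩ : ∃ u, χ u ≠ 1 := by
    by_contra! hh
    exact hχ (MonoidHom.ext hh)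
  haveI : Finite χ.range := Finite.of_surjective _ χ.rangeRestrict_surjective
  have ho : orderOf (⟨χ u, u, rfl⟩ : χ.range) = p := orderOf_eq_prime
    (Subtype.ext (by rw [SubmonoidClass.coe_pow, ← map_pow, hexp, map_one]; rfl))
    fun h => hu (congrArg Subtype.val h)
  exact ho ▸ orderOf_le_card

theorem card_ker_mul [Finite U] (hexp : ∀ u : U, u ^ p = 1) {χ : U →* Kˣ} (hχ : χ ≠ 1) :
    Nat.card χ.ker * p = Nat.card U := by
  rw [← χ.ker.card_mul_index, Subgroup.index_ker, card_range_eq hexp hχ]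

theorem exists_pow_eq [Finite U] (hexp : ∀ u : U, u ^ p = 1) {χ : U →* Kˣ} {f : U} (hf : χ f ≠ 1)
    (u : U) : ∃ i : ℕ, χ u = χ f ^ i := by
  have hχ : χ ≠ 1 := fun h => hf (by rw [h]; rfl)
  have hc := card_range_eq hexp hχ
  haveI : Finite χ.range := Finite.of_surjective _ χ.rangeRestrict_surjective
  have hne : (⟨χ f, f, rfl⟩ : χ.range) ≠ 1 := fun h => hf (congrArg Subtype.val h)
  obtain ⟨i, hi⟩ := mem_powers_of_prime_card hc hne (g' := (⟨χ u, u, rfl⟩ : χ.range))
  exact ⟨i, (congrArg Subtype.val hi).symm⟩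

/-- A hyperbolic pair splits off. -/
theorem exists_split [Finite U] (h : IsND β) (hexp : ∀ u : U, u ^ p = 1) {e f : U}
    (hef : β e f ≠ 1) :
    ∃ W : Subgroup U, Nat.card W * (p * p) = Nat.card U ∧ W ⊓ orth β W = ⊥ ∧
      (∀ w ∈ W, β e w = 1 ∧ β f w = 1) ∧
      (∀ w, β e w = 1 → β f w = 1 → w ∈ W) ∧
      ∀ u, ∃ i j : ℕ, ∃ w ∈ W, u = e ^ i * f ^ j * w := by
  have hfe : β f e ≠ 1 := fun h1 => hef (h.comm_one h1)
  let χ : (β e).ker →* Kˣ := (β f).comp (β e).ker.subtype
  have hχ : χ ≠ 1 := fun h1 => hfe (DFunLike.congr_fun h1 ⟨e, h.alt e⟩)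
  have hdec : ∀ u, ∃ i j : ℕ, ∃ w ∈ (β e).ker ⊓ (β f).ker, u = e ^ i * f ^ j * w := by
    intro u
    obtain ⟨j, hj⟩ := exists_pow_eq hexp hef u
    obtain ⟨i, hi⟩ := exists_pow_eq hexp hfe u
    refine ⟨i, j, (e ^ i * f ^ j)⁻¹ * u, ⟨?_, ?_⟩, (mul_inv_cancel_left _ _).symm⟩
    · show β e _ = 1
      rw [map_mul, map_inv, map_mul, map_pow, map_pow, h.alt, one_pow, one_mul, hj, inv_mul_cancel]
    · show β f _ = 1
      rw [map_mul, map_inv, map_mul, map_pow, map_pow, h.alt, one_pow, mul_one, hi, inv_mul_cancel]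
  refine ⟨(β e).ker ⊓ (β f).ker, ?_, ?_, fun w hw => ⟨hw.1, hw.2⟩, fun w h1 h2 => ⟨h1, h2⟩, hdec⟩
  · have h1 := card_ker_mul (fun u : (β e).ker => Subtype.ext (hexp u.1)) hχ
    have h2 := card_ker_mul hexp (χ := β e) fun h1 => hef (by rw [h1]; rfl)
    have h3 : Nat.card χ.ker = Nat.card ↥((β e).ker ⊓ (β f).ker) := Nat.card_congr
      { toFun := fun x => ⟨x.1.1, x.1.2, x.2⟩
        invFun := fun x => ⟨⟨x.1, x.2.1⟩, x.2.2⟩
        left_inv := fun x => rfl
        right_inv := fun x => rfl }
    rw [← h2, ← h1, h3, mul_assoc]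
  · rw [eq_bot_iff]
    rintro u ⟨hu, hu'⟩
    rw [Subgroup.mem_bot]
    refine h.nd u fun v => ?_
    obtain ⟨i, j, w, hw, rfl⟩ := hdec v
    rw [map_mul, map_mul, map_pow, map_pow, h.comm_one hu.1, h.comm_one hu.2, hu' w hw]
    simp

/-- The number of isometries. -/
theorem card_isom_le [Finite U] (h : IsND β) (hexp : ∀ u : U, u ^ p = 1) :
    ∃ a, Nat.card U = p ^ (2 * a) ∧ Nat.card (isomGroup β) ≤ p ^ (a * (2 * a + 1)) := by
  classical
  induction hn : Nat.card U using Nat.strong_induction_on generalizing U with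
  | _ n ih =>
  subst hn
  haveI : Finite (MulAut U) := Finite.of_injective _ DFunLike.coe_injective
  rcases subsingleton_or_nontrivial U with hU | hU
  · refine ⟨0, by simp, ?_⟩
    haveI : Subsingleton (MulAut U) := ⟨fun a b => MulEquiv.ext fun x => Subsingleton.elim _ _⟩
    exact Finite.card_le_one_iff_subsingleton.2 inferInstance
  obtain ⟨e, he⟩ := exists_ne (1 : U)
  obtain ⟨f, hef⟩ : ∃ f, β e f ≠ 1 := by
    by_contra! hh
    exact he (h.nd e hh)
  obtain ⟨W, hcard, hW, hWorth, hWmem, hdec⟩ := exists_split h hexp hef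
  have hp2 := hp.out.two_le
  have hlt : Nat.card W < Nat.card U := by
    rw [← hcard]
    have : 0 < Nat.card W := Nat.card_pos
    have h4 : 4 ≤ p * p := Nat.mul_le_mul hp2 hp2
    nlinarith
  obtain ⟨a, hWa, hWi⟩ := ih _ hlt (isND_resPair h W hW) (fun u => Subtype.ext (hexp u.1)) rfl
  haveI : Finite (MulAut W) := Finite.of_injective _ DFunLike.coe_injective
  refine ⟨a + 1, by rw [← hcard, hWa]; ring, ?_⟩
  let S := {xy : U × U // β xy.1 xy.2 = β e f}
  let F : isomGroup β → S := fun g => ⟨(g.1 e, g.1 f), g.2 e f⟩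
  let s : S → isomGroup β := fun x => if hx : ∃ g, F g = x then hx.choose else 1
  have hs : ∀ g, F (s (F g)) = F g := fun g => by
    simp only [s, dif_pos (⟨g, rfl⟩ : ∃ g', F g' = F g)]
    exact Exists.choose_spec (⟨g, rfl⟩ : ∃ g', F g' = F g)
  let t : isomGroup β → isomGroup β := fun g => (s (F g))⁻¹ * g
  have ht : ∀ g, (t g).1 e = e ∧ (t g).1 f = f := by
    intro g
    have h1 := congrArg Subtype.val (hs g)
    simp only [F, Prod.mk.injEq] at h1
    constructor <;> simp only [t, Subgroup.coe_mul, Subgroup.coe_inv, MulAut.mul_apply]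
    · rw [← h1.1, MulAut.inv_apply_self]
    · rw [← h1.2, MulAut.inv_apply_self]
  have htW : ∀ g, ∀ w ∈ W, (t g).1 w ∈ W := fun g w hw => hWmem _
    (by conv_lhs => rw [← (ht g).1, (t g).2]
        exact (hWorth w hw).1)
    (by conv_lhs => rw [← (ht g).2, (t g).2]
        exact (hWorth w hw).2)
  let r : isomGroup β → isomGroup (resPair β W) := fun g =>
    ⟨MulEquiv.ofBijective (((t g).1.toMonoidHom.comp W.subtype).codRestrict W fun u => htW g u u.2)
      (Finite.injective_iff_bijective.1 fun x y hxy =>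
        Subtype.ext ((t g).1.injective (congrArg Subtype.val hxy))),
      fun u v => (t g).2 u v⟩
  let Ψ : isomGroup β → S × isomGroup (resPair β W) := fun g => (F g, r g)
  have hΨ : Function.Injective Ψ := by
    intro g g' hgg
    have h1 : F g = F g' := congrArg Prod.fst hgg
    have h2 : r g = r g' := congrArg Prod.snd hgg
    have h3 : t g = t g' := by
      refine Subtype.ext (MulEquiv.ext fun u => ?_)
      obtain ⟨i, j, w, hw, rfl⟩ := hdec u
      simp only [map_mul, map_pow, (ht g).1, (ht g).2, (ht g').1, (ht g').2]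
      congr 1
      exact congrArg Subtype.val
        (DFunLike.congr_fun (congrArg Subtype.val h2) (⟨w, hw⟩ : W))
    simp only [t, h1] at h3
    exact mul_left_cancel h3
  have hS : Nat.card S ≤ Nat.card U * p ^ (2 * a + 1) := by
    let y₀ : U → U := fun x => if hx : ∃ y, β x y = β e f then hx.choose else 1
    let g : S → (x : U) × {y : U // β x y = 1 ∧ β x ≠ 1} := fun z =>
      ⟨z.1.1, (y₀ z.1.1)⁻¹ * z.1.2, by
        have hx : ∃ y, β z.1.1 y = β e f := ⟨z.1.2, z.2⟩
        simp only [y₀, dif_pos hx, map_mul, map_inv, hx.choose_spec, z.2, inv_mul_cancel],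
        fun h1 => hef (by rw [← z.2, h1]; rfl)⟩
    have hg : Function.Injective g := fun z z' hz => by
      have h1 : z.1.1 = z'.1.1 := congrArg Sigma.fst hz
      have h2 : (y₀ z.1.1)⁻¹ * z.1.2 = (y₀ z'.1.1)⁻¹ * z'.1.2 :=
        congrArg (fun q : (x : U) × {y : U // β x y = 1 ∧ β x ≠ 1} => (q.2 : U)) hz
      rw [h1] at h2
      exact Subtype.ext (Prod.ext h1 (mul_left_cancel h2))
    refine (Nat.card_le_card_of_injective g hg).trans ?_
    haveI := Fintype.ofFinite U
    rw [Nat.card_sigma, Nat.card_eq_fintype_card (α := U), ← smul_eq_mul, ← Finset.card_univ]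
    refine Finset.sum_le_card_nsmul _ _ _ fun x _ => ?_
    by_cases hx : β x = 1
    · haveI : IsEmpty {y : U // β x y = 1 ∧ β x ≠ 1} := ⟨fun y => y.2.2 hx⟩
      simp
    refine (Nat.card_le_card_of_injective (fun y : {y : U // β x y = 1 ∧ β x ≠ 1} => (⟨y.1, y.2.1⟩ : (β x).ker))
      fun a b hab => Subtype.ext (congrArg (fun z : (β x).ker => (z : U)) hab)).trans ?_
    have h1 := card_ker_mul hexp hx
    rw [← hcard, hWa] at h1
    refine le_of_eq (Nat.eq_of_mul_eq_mul_right hp.out.pos ?_)
    rw [h1]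
    ring
  refine (Nat.card_le_card_of_injective Ψ hΨ).trans ?_
  rw [Nat.card_prod]
  refine (Nat.mul_le_mul hS hWi).trans ?_
  rw [← hcard, hWa]
  refine le_of_eq ?_
  ring

end Prime

/-- Automorphisms permute the non-identity elements. -/
theorem card_mulAut_le [Finite U] : Nat.card (MulAut U) ≤ (Nat.card U - 1).factorial := by
  classical
  haveI := Fintype.ofFinite U
  let f : MulAut U → Equiv.Perm {u : U // u ≠ 1} := fun g =>
    g.toEquiv.subtypeEquiv fun u => (MulEquiv.map_ne_one_iff g).symm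
  have hf : Function.Injective f := fun g g' hgg => MulEquiv.ext fun u => by
    rcases eq_or_ne u 1 with rfl | hu
    · simp
    · exact congrArg (fun q : Equiv.Perm {u : U // u ≠ 1} => ((q ⟨u, hu⟩ : {u : U // u ≠ 1}) : U)) hgg
  refine (Nat.card_le_card_of_injective f hf).trans ?_
  rw [Nat.card_perm, Nat.card_eq_fintype_card, Nat.card_eq_fintype_card, Fintype.card_subtype_compl,
    Fintype.card_subtype_eq]

/-- The automorphisms of a group of order four. -/
theorem KB.mulAut_four [Finite U] (h4 : Nat.card U = 4) : KB (MulAut U) 3 := by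
  classical
  haveI := Fintype.ofFinite U
  have h3 : Fintype.card {u : U // u ≠ 1} = 3 := by
    rw [Fintype.card_subtype_compl, Fintype.card_subtype_eq, ← Nat.card_eq_fintype_card, h4]
  let f : MulAut U →* Equiv.Perm (Fin 3) :=
    (Fintype.equivFinOfCardEq h3).permCongrHom.toMonoidHom.comp
      (MonoidHom.mk' (fun g => g.toEquiv.subtypeEquiv fun u => (MulEquiv.map_ne_one_iff g).symm)
        fun a b => Equiv.ext fun u => rfl)
  refine KB.of_injective f ((injective_iff_map_eq_one f).2 fun g hg => ?_) KB.perm_three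
  refine MulEquiv.ext fun u => ?_
  rcases eq_or_ne u 1 with rfl | hu
  · simp
  · have h1 := (Fintype.equivFinOfCardEq h3).permCongrHom.injective (hg.trans (map_one _).symm)
    exact congrArg (fun q : Equiv.Perm {u : U // u ≠ 1} => ((q ⟨u, hu⟩ : {u : U // u ≠ 1}) : U)) h1

end CfsgLib.LinClasses
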