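import Cfsg.Agent.LinClasses.SmallBounds
import Cfsg.Agent.LinClasses.Num
import Mathlib.FieldTheory.Finite.Basic

/-!
# Solvable anisotropic groups of isometries have few classes
-/

set_option autoImplicit false
set_option linter.style.haveILetI false

namespace CfsgLib.LinClasses

open Matrix MatrixGroups Polynomial

section Pw

variable {U : Type} [CommGroup U] {p : ℕ} [NeZero p]

/-- Powers with exponents modulo `p`. -/
def pw (u : U) (i : ZMod p) : U := u ^ i.val

theorem pw_natCast {u : U} (hu : u ^ p = 1) (n : ℕ) : pw u (n : ZMod p) = u ^ n := by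
  rw [pw, ZMod.val_natCast, ← pow_eq_pow_mod n hu]

theorem pw_add {u : U} (hu : u ^ p = 1) (i j : ZMod p) : pw u (i + j) = pw u i * pw u j := by
  rw [pw, pw, pw, ← pow_add, ZMod.val_add, ← pow_eq_pow_mod _ hu]

theorem pw_mul {u : U} (hu : u ^ p = 1) (i j : ZMod p) : pw u (i * j) = pw (pw u i) j := by
  rw [pw, pw, pw, ← pow_mul, ZMod.val_mul, ← pow_eq_pow_mod _ hu]

end Pw

/-- The isometries of a hyperbolic plane inside `SL(2,p)`. -/
theorem exists_sl_hom {U : Type} [CommGroup U] [Finite U] {K : Type} [Field K] {β : U →* U →* Kˣ}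
    {p : ℕ} [hp : Fact p.Prime] (h : IsND β) (hexp : ∀ u : U, u ^ p = 1)
    (hcard : Nat.card U = p ^ 2) :
    ∃ f : isomGroup β →* SL(2, ZMod p), Function.Injective f := by
  classical
  haveI : NeZero p := ⟨hp.out.ne_zero⟩
  have hnt : Nontrivial U := Finite.one_lt_card_iff_nontrivial.1 (by
    rw [hcard]; exact Nat.one_lt_pow (by norm_num) hp.out.one_lt)
  obtain ⟨e, he⟩ := exists_ne (1 : U)
  obtain ⟨f, hef⟩ : ∃ f, β e f ≠ 1 := by
    by_contra! hh
    exact he (h.nd e hh)
  obtain ⟨W, hW, -, -, -, hdec⟩ := exists_split h hexp hef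
  have hW1 : W = ⊥ := by
    refine Subgroup.card_eq_one.1 ?_
    rw [hcard, ← pow_two] at hW
    exact (Nat.mul_eq_right (pow_ne_zero _ hp.out.ne_zero)).1 hW
  let c : ZMod p × ZMod p → U := fun x => pw e x.1 * pw f x.2
  have hsurj : Function.Surjective c := fun u => by
    obtain ⟨i, j, w, hw, rfl⟩ := hdec u
    rw [hW1, Subgroup.mem_bot] at hw
    exact ⟨(i, j), by simp only [c, pw_natCast (hexp e), pw_natCast (hexp f), hw, mul_one]⟩
  have hbij : Function.Bijective c := (Nat.bijective_iff_surjective_and_card c).2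
    ⟨hsurj, by rw [Nat.card_prod, Nat.card_zmod, hcard, pow_two]⟩
  have hmul : ∀ (g : MulAut U) (i j : ZMod p), g (c (i, j)) = pw (g e) i * pw (g f) j := fun g i j => by
    simp only [c, pw, map_mul, map_pow]
  have hlin : ∀ a b a' b' i j : ZMod p, pw (c (a, b)) i * pw (c (a', b')) j =
      c (a * i + a' * j, b * i + b' * j) := by
    intro a b a' b' i j
    have hd : ∀ (u v : U) (l : ZMod p), pw (u * v) l = pw u l * pw v l := fun u v l => mul_pow u v _
    simp only [c, hd, pw_add (hexp e), pw_add (hexp f), pw_mul (hexp e), pw_mul (hexp f)]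
    exact mul_mul_mul_comm _ _ _ _
  let ε := (Equiv.ofBijective c hbij).symm
  have hε : ∀ u, c (ε u) = u := fun u => (Equiv.ofBijective c hbij).apply_symm_apply u
  let M : isomGroup β → Matrix (Fin 2) (Fin 2) (ZMod p) := fun g =>
    !![(ε (g.1 e)).1, (ε (g.1 f)).1; (ε (g.1 e)).2, (ε (g.1 f)).2]
  have hz : β e f ^ p = 1 := apply_pow_p hexp e f
  have hdet : ∀ g, (M g).det = 1 := by
    intro g
    simp only [M, det_fin_two_of]
    obtain ⟨a, b, hab⟩ : ∃ a b, ε (g.1 e) = (a, b) := ⟨_, _, rfl⟩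
    obtain ⟨a', b', hab'⟩ : ∃ a' b', ε (g.1 f) = (a', b') := ⟨_, _, rfl⟩
    rw [hab, hab']
    have h1 := g.2 e f
    rw [← hε (g.1 e), ← hε (g.1 f), hab, hab'] at h1
    have hpw : ∀ (x y : U) (l : ZMod p), β (pw x l) y = pw (β x y) l ∧ β x (pw y l) = pw (β x y) l :=
      fun x y l => ⟨by simp only [pw, map_pow, MonoidHom.pow_apply], by simp only [pw, map_pow]⟩
    simp only [c, map_mul, MonoidHom.mul_apply, (hpw _ _ _).1, (hpw _ _ _).2, h.alt, h.skew e f] at h1
    have hone : ∀ l : ZMod p, pw (1 : Kˣ) l = 1 := fun l => one_pow _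
    have hinv : ∀ l : ZMod p, pw ((β e f)⁻¹) l = pw (β e f) (-l) := fun l => by
      have h2 := pw_add hz l (-l)
      rw [add_neg_cancel] at h2
      simp only [pw, ZMod.val_zero, pow_zero, inv_pow] at h2 ⊢
      exact inv_eq_of_mul_eq_one_right h2.symm
    simp only [hone, one_mul, mul_one, hinv, ← pw_mul hz, ← pw_add hz] at h1
    have hinj : ∀ i j : ZMod p, pw (β e f) i = pw (β e f) j → i = j := by
      intro i j hij
      refine ZMod.val_injective _ (pow_injOn_Iio_orderOf ?_ ?_ hij) <;>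
        rw [orderOf_eq_prime hz hef] <;> exact ZMod.val_lt _
    have h2 : pw (β e f) (1 : ZMod p) = β e f := by
      rw [pw, ZMod.val_one, pow_one]
    rw [← h2, ← pw_mul hz] at h1
    simp only [← pw_add hz, one_mul, mul_one, ← pw_mul hz] at h1
    linear_combination hinj _ _ h1
  let F : isomGroup β →* SL(2, ZMod p) := MonoidHom.mk' (fun g => ⟨M g, hdet g⟩) fun g g' => by
    apply Subtype.ext
    change M (g * g') = M g * M g'
    have key : ∀ u, ε (g.1 (g'.1 u)) =
        ((ε (g.1 e)).1 * (ε (g'.1 u)).1 + (ε (g.1 f)).1 * (ε (g'.1 u)).2,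
          (ε (g.1 e)).2 * (ε (g'.1 u)).1 + (ε (g.1 f)).2 * (ε (g'.1 u)).2) := by
      intro u
      refine hbij.1 ?_
      rw [hε, ← hlin]
      simp only [Prod.mk.eta, hε, ← hmul]
    ext i j
    fin_cases i <;> fin_cases j <;> simp [M, key, mul_apply, Fin.sum_univ_two]
  refine ⟨F, fun g g' hgg => ?_⟩
  have hM : M g = M g' := congrArg Subtype.val hgg
  have h00 := congrFun (congrFun hM 0) 0
  have h01 := congrFun (congrFun hM 0) 1
  have h10 := congrFun (congrFun hM 1) 0
  have h11 := congrFun (congrFun hM 1) 1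
  simp [M] at h00 h01 h10 h11
  have hge : g.1 e = g'.1 e := ε.injective (Prod.ext h00 h10)
  have hgf : g.1 f = g'.1 f := ε.injective (Prod.ext h01 h11)
  refine Subtype.ext (MulEquiv.ext fun u => ?_)
  obtain ⟨⟨i, j⟩, rfl⟩ := hsurj u
  rw [hmul, hmul, hge, hgf]

section Split

variable {U : Type} [CommGroup U] [Finite U] {K : Type} [Field K] {β : U →* U →* Kˣ}
  (Y : Subgroup (MulAut U))

/-- A stable subgroup. -/
def Stable (W : Subgroup U) : Prop := ∀ x : Y, ∀ w ∈ W, (x : MulAut U) w ∈ W

variable {Y}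

/-- Restriction to a stable subgroup. -/
noncomputable def resHom {W : Subgroup U} (hW : Stable Y W) : Y →* MulAut W :=
  MonoidHom.mk' (fun y => MulEquiv.ofBijective
    (((y : MulAut U).toMonoidHom.comp W.subtype).codRestrict W fun u => hW y u u.2)
    (Finite.injective_iff_bijective.1 fun a b hab =>
      Subtype.ext ((y : MulAut U).injective (congrArg Subtype.val hab))))
    fun y y' => MulEquiv.ext fun u => rfl

theorem resHom_apply {W : Subgroup U} (hW : Stable Y W) (y : Y) (u : W) :
    ((resHom hW y u : W) : U) = (y : MulAut U) u := rfl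

theorem stable_orth (hiso : Y ≤ isomGroup β) {W : Subgroup U} (hW : Stable Y W) :
    Stable Y (orth β W) := by
  intro y u hu w hw
  have h1 : ((y⁻¹ : Y) : MulAut U) w ∈ W := hW y⁻¹ w hw
  have h2 : (y : MulAut U) (((y⁻¹ : Y) : MulAut U) w) = w := by
    rw [Subgroup.coe_inv]; exact MulAut.apply_inv_self _ _ _
  rw [← h2, hiso y.2]
  exact hu _ h1

theorem inf_orth (hani : Aniso Y.subtype β) (hiso : Y ≤ isomGroup β) {W : Subgroup U}
    (hW : Stable Y W) : W ⊓ orth β W = ⊥ :=
  hani _ (fun x w hw => ⟨hW x w hw.1, stable_orth hiso hW x w hw.2⟩) fun _ hu v hv => hu.2 v hv.1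

theorem res_hyps (h : IsND β) (hiso : Y ≤ isomGroup β) (hani : Aniso Y.subtype β)
    (hs : Group.IsSolvable Y) {W : Subgroup U} (hW : Stable Y W) :
    IsND (resPair β W) ∧ (resHom hW).range ≤ isomGroup (resPair β W) ∧
      Aniso (resHom hW).range.subtype (resPair β W) ∧ Group.IsSolvable (resHom hW).range := by
  refine ⟨isND_resPair h W (inf_orth hani hiso hW), ?_, ?_, ?_⟩
  · rintro _ ⟨y, rfl⟩ u v
    exact hiso y.2 u v
  · intro W' hW' hiso'
    have hb := hani (W'.map W.subtype) (fun x w hw => by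
      obtain ⟨w, hw, rfl⟩ := hw
      exact ⟨_, hW' ⟨_, ⟨x, rfl⟩⟩ w hw, rfl⟩) (by
      rintro _ ⟨u, hu, rfl⟩ _ ⟨v, hv, rfl⟩
      exact hiso' u hu v hv)
    exact (Subgroup.map_eq_bot_iff_of_injective _ W.subtype_injective).1 hb
  · haveI := hs
    exact Group.isSolvable_of_surjective (resHom hW).rangeRestrict_surjective

/-- Splitting along a stable subgroup. -/
theorem split_card (h : IsND β) (hani : Aniso Y.subtype β) (hiso : Y ≤ isomGroup β) {W : Subgroup U}
    (hW : Stable Y W) :
    Nat.card U = Nat.card W * Nat.card (orth β W) ∧ ∀ u, ∃ w ∈ W, ∃ v ∈ orth β W, u = w * v := by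
  let m : W × orth β W → U := fun x => x.1 * x.2
  have hm : Function.Injective m := by
    rintro ⟨a, b⟩ ⟨a', b'⟩ hab
    have h1 : (a' : U)⁻¹ * a = b' * (b : U)⁻¹ := by
      rw [eq_mul_inv_iff_mul_eq, mul_assoc, inv_mul_eq_iff_eq_mul]
      exact hab
    have h2 : (a' : U)⁻¹ * a ∈ W ⊓ orth β W :=
      Subgroup.mem_inf.2 ⟨W.mul_mem (W.inv_mem a'.2) a.2,
        h1.symm ▸ (orth β W).mul_mem b'.2 ((orth β W).inv_mem b.2)⟩
    rw [inf_orth hani hiso hW, Subgroup.mem_bot, inv_mul_eq_one] at h2
    have h3 : a = a' := Subtype.ext h2.symm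
    subst h3
    exact Prod.ext rfl (Subtype.ext (mul_left_cancel hab))
  have hcard : Nat.card U = Nat.card W * Nat.card (orth β W) := by
    refine le_antisymm ?_ ?_
    · rw [mul_comm]; exact card_le_orth_mul W
    · rw [← Nat.card_prod]; exact Nat.card_le_card_of_injective m hm
  refine ⟨hcard, fun u => ?_⟩
  obtain ⟨⟨w, v⟩, rfl⟩ := ((Nat.bijective_iff_injective_and_card m).2
    ⟨hm, by rw [Nat.card_prod, hcard]⟩).2 u
  exact ⟨w, w.2, v, v.2, rfl⟩

end Split

section Rep

variable {U : Type} [CommGroup U] [Finite U] {p : ℕ} [Fact p.Prime]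

theorem adjoint_aeval {K : Type} [Field K] {β : U →* U →* Kˣ} [Module (ZMod p) (Additive U)]
    (T T' : Module.End (ZMod p) (Additive U))
    (hTT : ∀ u v : Additive U, β (Additive.toMul (T u)) (Additive.toMul v) =
      β (Additive.toMul u) (Additive.toMul (T' v))) (q : (ZMod p)[X]) :
    ∀ u v : Additive U, β (Additive.toMul (aeval T q u)) (Additive.toMul v) =
      β (Additive.toMul u) (Additive.toMul (aeval T' q v)) := by
  induction q using Polynomial.induction_on' with
  | add a b ha hb =>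
    intro u v
    simp only [map_add, LinearMap.add_apply, toMul_add, map_mul, MonoidHom.mul_apply, ha u v, hb u v]
  | monomial n c =>
    intro u v
    have hpow : ∀ m (x y : Additive U), β (Additive.toMul ((T ^ m) x)) (Additive.toMul y) =
        β (Additive.toMul x) (Additive.toMul ((T' ^ m) y)) := by
      intro m
      induction m with
      | zero => intro x y; simp
      | succ m ih =>
        intro x y
        rw [pow_succ, pow_succ', Module.End.mul_apply, Module.End.mul_apply, ih, hTT]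
    have hsm : ∀ (c : ZMod p) (x : Additive U), Additive.toMul (c • x) = Additive.toMul x ^ c.val := by
      intro c x
      haveI : NeZero p := ⟨(Fact.out : p.Prime).ne_zero⟩
      conv_lhs => rw [← ZMod.natCast_zmod_val c, Nat.cast_smul_eq_nsmul]
      exact toMul_nsmul _ _
    simp only [aeval_monomial, Module.End.mul_apply, Algebra.algebraMap_eq_smul_one,
      LinearMap.smul_apply, Module.End.one_apply, hsm, map_pow, MonoidHom.pow_apply, hpow]

end Rep

end CfsgLib.LinClasses
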