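import Cfsg.Agent.LinClasses.PermBound
import Cfsg.Agent.LinClasses.Plane

/-!
# Order against class number for irreducible solvable groups over prime fields
-/

set_option autoImplicit false
set_option linter.style.haveILetI false

namespace CfsgLib.LinClasses

variable (p : ℕ) [hp : Fact p.Prime]

/-- Irreducible solvable groups of degree `n` have commuting probability at least `1 / W`. -/
def CB (n W : ℕ) : Prop :=
  ∀ (V : Type) [AddCommGroup V] [Module (ZMod p) V] [Finite V] (X : Type) [Group X] [Finite X]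
    (ρ : Representation (ZMod p) X V), Function.Injective ρ → Irr ρ → Group.IsSolvable X →
      Module.finrank (ZMod p) V = n → Com X W

variable {p}

theorem Com.of_field {X : Type} [Group X] {k d u J x a W : ℕ}
    (hh : Nat.card X ≤ k * (a * (u * u) * J)) (hx : a * x ≤ d * (k * Nat.card (ConjClasses X)))
    (hx0 : 0 < x) (hW : k * k * d * (u * u) * J ≤ W * x) : Com X W := by
  refine Nat.le_of_mul_le_mul_right ?_ hx0
  calc Nat.card X * x ≤ k * (a * (u * u) * J) * x := Nat.mul_le_mul_right _ hh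
    _ = k * (u * u) * J * (a * x) := by ring
    _ ≤ k * (u * u) * J * (d * (k * Nat.card (ConjClasses X))) := Nat.mul_le_mul_left _ hx
    _ = k * k * d * (u * u) * J * Nat.card (ConjClasses X) := by ring
    _ ≤ W * x * Nat.card (ConjClasses X) := Nat.mul_le_mul_right _ hW
    _ = W * Nat.card (ConjClasses X) * x := by ring

section

variable {V : Type} [AddCommGroup V] [Module (ZMod p) V] [Finite V] {X : Type} [Group X] [Finite X]
  {ρ : Representation (ZMod p) X V}

theorem com_cases (hρ : Function.Injective ρ) (hirr : Irr ρ) (hs : Group.IsSolvable X) :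
    (∃ d m : ℕ, 2 ≤ m ∧ d * m = Module.finrank (ZMod p) V ∧
      ∀ W P, CB p d W → (m.factorial ≤ P ∨ 3 ^ (m - 1) ≤ P) → Com X (W ^ m * (P * P))) ∨
    ∃ A : Subgroup X, MaxAb A ∧ IsField (algA ρ A) := by
  classical
  haveI : Module.Finite (ZMod p) V := Module.Finite.of_finite
  haveI := hirr.1
  obtain ⟨A, hAn, hAc, hmax⟩ := CfsgLib.Huppert.exists_maximal_abelian_normal (G := X)
  haveI := hAn
  haveI := hAc
  haveI : NeZero (Nat.card A : ZMod p) :=
    ⟨fun h => not_dvd_card_of_comm hρ hirr A ((ZMod.natCast_eq_zero_iff _ _).1 h)⟩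
  rcases dichotomy (ρ := ρ) A with hF | ⟨⟨S⟩⟩
  · exact Or.inr ⟨A, ⟨hAn, hAc, hmax⟩, hF⟩
  · left
    refine ⟨Module.finrank (ZMod p) (S.W ⟨0, by have := S.two; omega⟩), S.m, S.two,
      S.finrank_mul hirr _, fun W P hW hP => ?_⟩
    haveI := S.finite_blockGroup
    have h1 : Com S.perm.ker (W ^ S.m) := by
      have h := Com.of_joint S.blockHom (S.blockHom_joint hρ) (fun _ => W) fun i =>
        hW _ _ (S.tautRep i) (S.tautRep_injective i) (S.irr_tautRep hirr i)
          (S.isSolvable_blockGroup hs i) (S.finrank_eq_of_irr hirr i _)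
      rwa [Finset.prod_const, Finset.card_univ, Fintype.card_fin] at h
    refine Com.of_index S.perm.ker ?_ h1
    rw [Subgroup.index_ker]
    rcases hP with hP | hP
    · refine ((Subgroup.card_le_card_group _).trans (le_of_eq ?_)).trans hP
      rw [Nat.card_perm, Nat.card_fin]
    · haveI := hs
      exact (solvable_perm_le S.m (Fin S.m) S.perm.range
        (Group.isSolvable_of_surjective S.perm.rangeRestrict_surjective) (Nat.card_fin _)).trans hP

end

theorem cb_one : CB p 1 1 := by
  intro V _ _ _ X _ _ ρ hρ hirr hs hn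
  rcases com_cases hρ hirr hs with ⟨d, m, hm, hdm, -⟩ | ⟨A, hA, hF⟩
  · rw [hn, mul_eq_one] at hdm
    omega
  · obtain ⟨k, d, u, J, x, -, hk, hkd, hu, hud, -, -, hh, hax, -, hx1, -, -, -, hJ, -⟩ :=
      field_data hρ hirr hs hA hF
    rw [hn, mul_eq_one] at hkd
    obtain ⟨rfl, rfl⟩ := hkd
    obtain rfl : u = 1 := by omega
    refine Com.of_field hh hax hx1 ?_
    simp only [Nat.sub_self, pow_zero] at hJ
    omega

theorem two_cases (hp2 : 2 < p) {V : Type} [AddCommGroup V] [Module (ZMod p) V] [Finite V] {X : Type}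
    [Group X] [Finite X] {ρ : Representation (ZMod p) X V} (hρ : Function.Injective ρ) (hirr : Irr ρ)
    (hs : Group.IsSolvable X) (hn : Module.finrank (ZMod p) V = 2) :
    Com X 4 ∨ ∃ a, a ∣ p - 1 ∧ 4 * a ≤ Nat.card (ConjClasses X) ∧ Nat.card X ≤ 24 * a := by
  classical
  haveI : Module.Finite (ZMod p) V := Module.Finite.of_finite
  rcases com_cases hρ hirr hs with ⟨d, m, hm, hdm, hb⟩ | ⟨A, hA, hF⟩
  · rw [hn] at hdm
    have hm2 : m ≤ 2 := Nat.le_of_dvd (by norm_num) ⟨d, by rw [← hdm, mul_comm]⟩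
    obtain rfl : m = 2 := by omega
    obtain rfl : d = 1 := by omega
    exact Or.inl (hb 1 2 cb_one (Or.inl le_rfl))
  · obtain ⟨k, d, u, J, x, hk', hk, hkd, hu, hud, had, -, hh, hax, -, hx1, -, -, -, hJ, -, -, -, hL⟩ :=
      field_data hρ hirr hs hA hF
    rw [hn] at hkd
    have hk2 : k ≤ 2 := Nat.le_of_dvd (by norm_num) ⟨d, hkd.symm⟩
    by_cases hu2 : u = 1
    · subst hu2
      simp only [Nat.sub_self, pow_zero] at hJ
      refine Or.inl (Com.of_field hh hax hx1 ?_)
      have h1 : k * k * d = k * 2 := by rw [mul_assoc, hkd]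
      have hJ' : k * k * d * (1 * 1) * J ≤ k * 2 := by
        rw [← h1, mul_one, mul_one]
        exact (Nat.mul_le_mul_left _ hJ).trans (le_of_eq (mul_one _))
      omega
    · obtain rfl : k = 1 := by
        interval_cases k
        · rfl
        · omega
      obtain rfl : d = 2 := by omega
      obtain rfl : u = 2 := by omega
      obtain ⟨L, hL4⟩ := hL rfl
      let b : Module.Basis (Fin 2) (ZMod p) V := Module.finBasisOfFinrankEq _ _ hn
      let R : X →* Matrix (Fin 2) (Fin 2) (ZMod p) :=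
        (LinearMap.toMatrixAlgEquiv b).toMonoidHom.comp ρ
      have hR : Function.Injective R := (LinearMap.toMatrixAlgEquiv b).injective.comp hρ
      rw [pow_one] at had
      haveI := hirr.1
      have hbot : algA ρ A = ⊥ := Subalgebra.eq_bot_of_finrank_one hk'.symm
      have hsc : ∀ a ∈ A, ∃ c : ZMod p, R a = c • 1 := fun a ha => by
        have h1 := rho_mem_algA (ρ := ρ) ha
        rw [hbot, Algebra.mem_bot] at h1
        obtain ⟨c, hc⟩ := h1
        refine ⟨c, ?_⟩
        show (LinearMap.toMatrixAlgEquiv b) (ρ a) = c • 1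
        rw [← hc, Algebra.algebraMap_eq_smul_one, map_smul, map_one]
      rcases plane_counts hp2 R hR hs hA hsc L hL4 with h | ⟨h1, h2⟩
      · exact Or.inl h
      · exact Or.inr ⟨_, had, h1, h2⟩

theorem cb_two (hp2 : 2 < p) : CB p 2 6 := by
  intro V _ _ _ X _ _ ρ hρ hirr hs hn
  rcases two_cases hp2 hρ hirr hs hn with h | ⟨a, -, h1, h2⟩
  · exact h.mono (by norm_num)
  · unfold Com
    omega

theorem three_cases (hp2 : 2 < p) {V : Type} [AddCommGroup V] [Module (ZMod p) V] [Finite V] {X : Type}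
    [Group X] [Finite X] {ρ : Representation (ZMod p) X V} (hρ : Function.Injective ρ) (hirr : Irr ρ)
    (hs : Group.IsSolvable X) (hn : Module.finrank (ZMod p) V = 3) :
    Com X 36 ∨ (3 ∣ p - 1 ∧
      (Com X 72 ∨ (Com X 81 ∧ ∃ a, 3 ≤ a ∧ a + 7 ≤ Nat.card (ConjClasses X)))) := by
  rcases com_cases hρ hirr hs with ⟨d, m, hm, hdm, hb⟩ | ⟨A, hA, hF⟩
  · rw [hn] at hdm
    obtain rfl : m = 3 := by
      rcases (Nat.dvd_prime Nat.prime_three).1 ⟨d, by rw [← hdm, mul_comm]⟩ with h | h <;> omega
    obtain rfl : d = 1 := by omega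
    exact Or.inl (hb 1 6 cb_one (Or.inl le_rfl))
  · obtain ⟨k, d, u, J, x, -, hk, hkd, hu, hud, had, hqa, hh, hax, hsum, hx1, hx2, hx3, -, hJ, hJ2, hJk,
      hu3, -⟩ := field_data hρ hirr hs hA hF
    rw [hn] at hkd
    rcases (Nat.dvd_prime Nat.prime_three).1 ⟨d, hkd.symm⟩ with h | h <;> subst h
    · obtain rfl : d = 3 := by omega
      have hJb := hJk rfl
      interval_cases u
      · simp only [Nat.sub_self, pow_zero] at hJ
        exact Or.inl (Com.of_field hh hax hx1 (by omega))
      · have := hJ2 rfl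
        refine Or.inl (Com.of_field hh hax hx1 ?_)
        rcases Nat.lt_or_ge J 2 with h | h
        · omega
        · have := hx3 le_rfl h
          omega
      · right
        have h3a := hqa 3 Nat.prime_three dvd_rfl
        rw [pow_one] at had
        refine ⟨h3a.trans had, ?_⟩
        rcases hu3 rfl rfl with h | h
        · left
          refine Com.of_field hh hax hx1 ?_
          rcases Nat.lt_or_ge J 2 with h' | h'
          · have := hx2 (by norm_num)
            omega
          · have := hx3 (by norm_num) h'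
            omega
        · right
          have hJ24 : J ≤ 24 := hJb
          refine ⟨Com.of_field hh hax hx1 (by omega), Nat.card A,
            Nat.le_of_dvd Nat.card_pos h3a, by omega⟩
    · obtain rfl : d = 1 := by omega
      obtain rfl : u = 1 := by omega
      simp only [Nat.sub_self, pow_zero] at hJ
      exact Or.inl (Com.of_field hh hax hx1 (by omega))

theorem cb_three (hp2 : 2 < p) : CB p 3 81 := by
  intro V _ _ _ X _ _ ρ hρ hirr hs hn
  rcases three_cases hp2 hρ hirr hs hn with h | ⟨-, h | ⟨h, -⟩⟩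
  · exact h.mono (by norm_num)
  · exact h.mono (by norm_num)
  · exact h

theorem four_cases (hp2 : 2 < p) {V : Type} [AddCommGroup V] [Module (ZMod p) V] [Finite V] {X : Type}
    [Group X] [Finite X] {ρ : Representation (ZMod p) X V} (hρ : Function.Injective ρ) (hirr : Irr ρ)
    (hs : Group.IsSolvable X) (hn : Module.finrank (ZMod p) V = 4) :
    Com X 576 ∨ ∃ a, 2 ≤ a ∧ a ∣ p - 1 ∧ Com X 922 ∧ a + 4 ≤ Nat.card (ConjClasses X) ∧
      Nat.card X ≤ 1152 * a := by
  rcases com_cases hρ hirr hs with ⟨d, m, hm, hdm, hb⟩ | ⟨A, hA, hF⟩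
  · rw [hn] at hdm
    have hd : d ≤ 4 := Nat.le_of_dvd (by norm_num) ⟨m, hdm.symm⟩
    interval_cases d
    · omega
    · obtain rfl : m = 4 := by omega
      exact Or.inl (hb 1 24 cb_one (Or.inl le_rfl))
    · obtain rfl : m = 2 := by omega
      exact Or.inl ((hb 6 2 (cb_two hp2) (Or.inl le_rfl)).mono (by norm_num))
    all_goals omega
  · obtain ⟨k, d, u, J, x, -, hk, hkd, hu, hud, had, hqa, hh, hax, hsum, hx1, hx2, -, hx5, hJ, hJ2, hJk,
      -, -⟩ := field_data hρ hirr hs hA hF
    rw [hn] at hkd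
    have hk4 : k ≤ 4 := Nat.le_of_dvd (by norm_num) ⟨d, hkd.symm⟩
    interval_cases k
    · obtain rfl : d = 4 := by omega
      have hJb := hJk rfl
      interval_cases u
      · simp only [Nat.sub_self, pow_zero] at hJ
        exact Or.inl (Com.of_field hh hax hx1 (by omega))
      · have := hJ2 rfl
        exact Or.inl (Com.of_field hh hax hx1 (by omega))
      · have hJ24 : J ≤ 24 := hJb
        have := hx2 (by norm_num)
        exact Or.inl (Com.of_field hh hax hx1 (by omega))
      · have hJ72 : J ≤ 72 := hJb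
        rcases Nat.lt_or_ge 6 J with h6 | h6
        · right
          have hx := hx5 (by norm_num) h6
          have h2a := hqa 2 Nat.prime_two (by norm_num)
          rw [pow_one] at had
          have hmul : Nat.card A * (4 * 4) * J ≤ Nat.card A * (4 * 4) * 72 := Nat.mul_le_mul_left _ hJ72
          exact ⟨Nat.card A, Nat.le_of_dvd Nat.card_pos h2a, had, Com.of_field hh hax hx1 (by omega),
            by omega, by omega⟩
        · have := hx2 (by norm_num)
          exact Or.inl (Com.of_field hh hax hx1 (by omega))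
    · obtain rfl : d = 2 := by omega
      interval_cases u
      · simp only [Nat.sub_self, pow_zero] at hJ
        exact Or.inl (Com.of_field hh hax hx1 (by omega))
      · have := hJ2 rfl
        exact Or.inl (Com.of_field hh hax hx1 (by omega))
    · omega
    · obtain rfl : d = 1 := by omega
      obtain rfl : u = 1 := by omega
      simp only [Nat.sub_self, pow_zero] at hJ
      exact Or.inl (Com.of_field hh hax hx1 (by omega))

theorem cb_four (hp2 : 2 < p) : CB p 4 922 := by
  intro V _ _ _ X _ _ ρ hρ hirr hs hn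
  rcases four_cases hp2 hρ hirr hs hn with h | ⟨a, -, -, h, -⟩
  · exact h.mono (by norm_num)
  · exact h

/-- The table of bounds. -/
def wb (n : ℕ) : ℕ :=
  if n ≤ 1 then 1 else if n = 2 then 6 else if n = 3 then 81 else if n = 4 then 922
    else 59 * 11 ^ (n - 2) / 10

theorem wb_big {n : ℕ} (h : 5 ≤ n) : wb n = 59 * 11 ^ (n - 2) / 10 := by
  simp only [wb, if_neg (show ¬ n ≤ 1 by omega), if_neg (show n ≠ 2 by omega),
    if_neg (show n ≠ 3 by omega), if_neg (show n ≠ 4 by omega)]

theorem blocks_num {d W : ℕ} (hd : 0 < d) (hW : W * 9 ≤ 11 ^ d) {m₀ : ℕ} (hm₀ : 2 ≤ m₀)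
    (hb : 10 * (W ^ m₀ * 9 ^ (m₀ - 1)) ≤ 59 * 11 ^ (d * m₀ - 2)) {m : ℕ} (hm : m₀ ≤ m) :
    10 * (W ^ m * 9 ^ (m - 1)) ≤ 59 * 11 ^ (d * m - 2) := by
  induction m, hm using Nat.le_induction with
  | base => exact hb
  | succ j hj ih =>
    have h2 : 2 ≤ d * j := le_trans (hm₀.trans hj) (Nat.le_mul_of_pos_left j hd)
    have e1 : d * (j + 1) - 2 = (d * j - 2) + d := by rw [Nat.mul_succ]; omega
    have e2 : j + 1 - 1 = (j - 1) + 1 := by omega
    rw [e1, e2, pow_succ W j, pow_succ 9 (j - 1), pow_add 11]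
    calc 10 * (W ^ j * W * (9 ^ (j - 1) * 9)) = (10 * (W ^ j * 9 ^ (j - 1))) * (W * 9) := by ring
      _ ≤ 59 * 11 ^ (d * j - 2) * 11 ^ d := Nat.mul_le_mul ih hW
      _ = 59 * (11 ^ (d * j - 2) * 11 ^ d) := by ring

theorem blocks_wb {d m : ℕ} (hm : 2 ≤ m) (hn : 5 ≤ d * m) :
    10 * (wb d ^ m * 9 ^ (m - 1)) ≤ 59 * 11 ^ (d * m - 2) := by
  have hd : 0 < d := by
    rcases Nat.eq_zero_or_pos d with rfl | h
    · simp at hn
    · exact h
  rcases Nat.lt_or_ge d 5 with h5 | h5
  · interval_cases d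
    · exact blocks_num (by norm_num) (by norm_num [wb]) (m₀ := 5) (by norm_num) (by norm_num [wb]) (by omega)
    · exact blocks_num (by norm_num) (by norm_num [wb]) (m₀ := 3) (by norm_num) (by norm_num [wb]) (by omega)
    · exact blocks_num (by norm_num) (by norm_num [wb]) (m₀ := 2) (by norm_num) (by norm_num [wb]) hm
    · exact blocks_num (by norm_num) (by norm_num [wb]) (m₀ := 2) (by norm_num) (by norm_num [wb]) hm
  · have hW : 10 * wb d ≤ 59 * 11 ^ (d - 2) := by
      rw [wb_big h5]
      exact Nat.mul_div_le _ _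
    obtain ⟨c, rfl⟩ : ∃ c, d = c + 2 := ⟨d - 2, by omega⟩
    rw [Nat.add_sub_cancel] at hW
    refine blocks_num (by omega) ?_ le_rfl ?_ hm
    · rw [pow_add]
      omega
    · have e : (c + 2) * 2 - 2 = c + c + 2 := by omega
      rw [e, pow_add, pow_add]
      generalize wb (c + 2) = W at hW ⊢
      generalize 11 ^ c = Q at hW ⊢
      norm_num
      nlinarith [Nat.mul_le_mul hW hW]

theorem big_num_a {n : ℕ} (h : 5 ≤ n) : 1215 * (n * n) + 5 ≤ 59 * 11 ^ (n - 2) := by
  induction n, h using Nat.le_induction with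
  | base => norm_num
  | succ j hj ih =>
    have e : j + 1 - 2 = (j - 2) + 1 := by omega
    rw [e, pow_succ]
    have h1 : 2 * j + 1 ≤ j * j := by nlinarith
    nlinarith

theorem big_num_d {n : ℕ} (h : 6 ≤ n) : 10935 * (n * n) + 5 ≤ 59 * 11 ^ (n - 2) := by
  induction n, h using Nat.le_induction with
  | base => norm_num
  | succ j hj ih =>
    have e : j + 1 - 2 = (j - 2) + 1 := by omega
    rw [e, pow_succ]
    have h1 : 2 * j + 1 ≤ j * j := by nlinarith
    nlinarith

theorem big_num_b {n : ℕ} (h : 5 ≤ n) : 5 * (n * n * n * 3 ^ (n - 1)) + 5 ≤ 59 * 11 ^ (n - 2) := by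
  induction n, h using Nat.le_induction with
  | base => norm_num
  | succ j hj ih =>
    have e : j + 1 - 2 = (j - 2) + 1 := by omega
    have e' : j + 1 - 1 = (j - 1) + 1 := by omega
    rw [e, e', pow_succ, pow_succ]
    have h0 : (5 * (j + 1)) * (5 * (j + 1)) * (5 * (j + 1)) ≤ (6 * j) * (6 * j) * (6 * j) :=
      Nat.mul_le_mul (Nat.mul_le_mul (by omega) (by omega)) (by omega)
    have h1 : 125 * ((j + 1) * (j + 1) * (j + 1)) ≤ 216 * (j * j * j) := by linarith
    have h2 := Nat.mul_le_mul_right (3 ^ (j - 1)) h1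
    have h3 := Nat.zero_le (j * j * j * 3 ^ (j - 1))
    linarith

theorem big_num_c {n : ℕ} (h : 8 ≤ n) :
    5 * (n * n * (n * n) * 6 ^ (n - 2)) + 80 ≤ 16 * (59 * 11 ^ (n - 2)) := by
  induction n, h using Nat.le_induction with
  | base => norm_num
  | succ j hj ih =>
    have e : j + 1 - 2 = (j - 2) + 1 := by omega
    rw [e, pow_succ, pow_succ]
    have h0 : (8 * (j + 1)) * (8 * (j + 1)) ≤ (9 * j) * (9 * j) := Nat.mul_le_mul (by omega) (by omega)
    have h1 : 4096 * ((j + 1) * (j + 1) * ((j + 1) * (j + 1))) ≤ 6561 * (j * j * (j * j)) := by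
      have := Nat.mul_le_mul h0 h0
      linarith
    have h2 := Nat.mul_le_mul_right (6 ^ (j - 2)) h1
    have h3 := Nat.zero_le (j * j * (j * j) * 6 ^ (j - 2))
    linarith

theorem field_num {n k d u J : ℕ} (hn : 5 ≤ n) (hkd : k * d = n) (hk : 0 < k) (hu : 0 < u) (hud : u ≤ d)
    (hu2 : 2 ≤ u) (hJ : J ≤ 27 ^ (u - 1)) (hJ2 : u = 2 → J ≤ 6) (hJk : k = 1 → J ≤ jBound u) :
    5 * (k * n * (u * u) * J) + 5 ≤ 59 * 11 ^ (n - 2) := by
  have hku : k * u ≤ n := hkd ▸ Nat.mul_le_mul_left k hud
  have hkn : k ≤ n := Nat.le_of_dvd (by omega) ⟨d, hkd.symm⟩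
  have hun : u ≤ n := le_trans (Nat.le_mul_of_pos_left u hk) hku
  by_cases h3 : u = 3 ∧ 2 ≤ k
  · obtain ⟨rfl, hk2⟩ := h3
    have hJ729 : J ≤ 729 := hJ
    have hk3 : 3 * k ≤ n := by omega
    have hN : k * n * (3 * 3) * J ≤ n * n * 2187 := by
      calc k * n * (3 * 3) * J = (3 * k) * n * (3 * J) := by ring
        _ ≤ n * n * 2187 := Nat.mul_le_mul (Nat.mul_le_mul_right n hk3) (by omega)
    have := big_num_d (n := n) (by omega)
    omega
  rcases Nat.lt_or_ge u 4 with h4 | h4
  · have hN : k * n * (u * u) * J ≤ n * n * 243 := by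
      rw [mul_assoc (k * n)]
      refine Nat.mul_le_mul (Nat.mul_le_mul_right n hkn) ?_
      interval_cases u
      · have := hJ2 rfl; omega
      · obtain rfl : k = 1 := by omega
        have hJb : J ≤ 24 := hJk rfl
        omega
    have := big_num_a hn
    omega
  by_cases hk1 : k = 1
  · subst hk1
    have hJb := hJk rfl
    rcases Nat.lt_or_ge u 5 with h5 | h5
    · obtain rfl : u = 4 := by omega
      have hJ72 : J ≤ 72 := hJb
      have hN : 1 * n * (4 * 4) * J ≤ n * n * 243 := by
        have h1 : 1 * n * (4 * 4) * J ≤ 1 * n * (4 * 4) * 72 := Nat.mul_le_mul_left _ hJ72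
        have h2 : n * 5 ≤ n * n := Nat.mul_le_mul_left _ hn
        omega
      have := big_num_a hn
      omega
    · rw [jBound_big h5] at hJb
      have hN : 1 * n * (u * u) * J ≤ n * n * n * 3 ^ (n - 1) := by
        rw [one_mul, mul_assoc n n n]
        exact Nat.mul_le_mul (Nat.mul_le_mul_left _ (Nat.mul_le_mul hun hun))
          (hJb.trans (Nat.pow_le_pow_right (by norm_num) (by omega)))
      have := big_num_b hn
      omega
  · have h2u : 2 * u ≤ n := le_trans (Nat.mul_le_mul_right u (by omega)) hku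
    have h4k : k * 4 ≤ n := le_trans (Nat.mul_le_mul_left k h4) hku
    have hJ6 : J ≤ 6 ^ (n - 2) := by
      refine hJ.trans ((Nat.pow_le_pow_left (by norm_num : 27 ≤ 6 ^ 2) _).trans ?_)
      rw [← pow_mul]
      exact Nat.pow_le_pow_right (by norm_num) (by omega)
    have hN : 16 * (k * n * (u * u) * J) ≤ n * n * (n * n) * 6 ^ (n - 2) := by
      calc 16 * (k * n * (u * u) * J) = (k * 4) * n * ((2 * u) * (2 * u)) * J := by ring
        _ ≤ n * n * (n * n) * 6 ^ (n - 2) := Nat.mul_le_mul
            (Nat.mul_le_mul (Nat.mul_le_mul_right n h4k) (Nat.mul_le_mul h2u h2u)) hJ6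
    have := big_num_c (n := n) (by omega)
    omega

theorem cb_wb (hp2 : 2 < p) (n : ℕ) (hn0 : 0 < n) : CB p n (wb n) := by
  induction n using Nat.strong_induction_on with
  | _ n ih =>
  rcases Nat.lt_or_ge n 5 with h5 | h5
  · interval_cases n
    · exact cb_one
    · exact cb_two hp2
    · exact cb_three hp2
    · exact cb_four hp2
  intro V _ _ _ X _ _ ρ hρ hirr hs hn
  rw [wb_big h5]
  rcases com_cases hρ hirr hs with ⟨d, m, hm, hdm, hb⟩ | ⟨A, hA, hF⟩
  · rw [hn] at hdm
    have hd : 0 < d := by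
      rcases Nat.eq_zero_or_pos d with rfl | h
      · simp at hdm; omega
      · exact h
    have hlt : d < n := by
      rw [← hdm]; exact lt_mul_of_one_lt_right hd hm
    refine (hb _ _ (ih d hlt hd) (Or.inr le_rfl)).mono ((Nat.le_div_iff_mul_le (by norm_num)).2 ?_)
    rw [← mul_pow]
    subst hdm
    have h := blocks_wb hm h5
    norm_num at h ⊢
    omega
  · obtain ⟨k, d, u, J, x, -, hk, hkd, hu, hud, -, -, hh, hax, -, hx1, hx2, -, -, hJ, hJ2, hJk, -⟩ :=
      field_data hρ hirr hs hA hF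
    rw [hn] at hkd
    refine Com.of_field hh hax hx1 ?_
    rcases (by omega : u = 1 ∨ 2 ≤ u) with rfl | h2
    · simp only [Nat.sub_self, pow_zero] at hJ
      refine le_trans ?_ (Nat.le_mul_of_pos_right _ hx1)
      rw [Nat.le_div_iff_mul_le (by norm_num), mul_assoc k k d, hkd]
      have h1 : k * n * (1 * 1) * J ≤ n * n := by
        refine (Nat.mul_le_mul_left _ hJ).trans ?_
        simp only [mul_one]
        exact Nat.mul_le_mul_right n (Nat.le_of_dvd (by omega) ⟨d, hkd.symm⟩)
      have := big_num_a h5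
      omega
    · refine le_trans ?_ (Nat.mul_le_mul_left _ (hx2 h2))
      have h1 := field_num h5 hkd hk hu hud h2 hJ hJ2 hJk
      rw [mul_assoc k k d, hkd]
      omega

end CfsgLib.LinClasses
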